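import Cfsg.Agent.Lib.Char.ReeOrder.Vieta

/-!
# The second pairing leads to no integral degrees
-/

set_option autoImplicit false
set_option maxHeartbeats 800000

namespace Cfsg.Agent.Char.ReeOrder

/-- From the equation between `w` and `y` to two integers with known sum and product. -/
theorem exists_pair {h w y : ℤ} (hh1 : h ≠ 1) (hh : h ≠ 0) (hw : w ≠ 0) (hy : y ≠ 0) (hu : w + y - 1 ≠ 0)
    (hwh : h ∣ w) (he : (w + y) * w * y = h ^ 2 * (w + y - 1) * (w - (4 * h - 5) * y)) :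
    ∃ X f f' : ℤ, w = h * X ∧ f * f' = X ^ 2 ∧ f + f' = X ^ 2 + 4 * (h * (h - 1)) * X - (4 * h - 5) := by
  obtain ⟨X, rfl⟩ := hwh
  have hX : X ≠ 0 := right_ne_zero_of_mul hw
  set c := 4 * h - 5 with hc
  set s := h * X + y with hsdef
  have hs : s ≠ 0 := by
    intro h0
    rw [h0, zero_mul, zero_mul] at he
    have e1 := (mul_eq_zero.1 he.symm).resolve_left (mul_ne_zero (pow_ne_zero 2 hh) (by omega))
    have e2 : h * X * (4 * (h - 1)) = 0 := by rw [hsdef] at h0; linear_combination e1 + c * h0 - (h * X) * hc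
    rcases mul_eq_zero.1 e2 with e | e
    · exact hw e
    · exact hh1 (by linarith)
  have hg0 : Int.gcd s X ≠ 0 := fun h0 => hs (Int.gcd_eq_zero_iff.1 h0).1
  obtain ⟨g, S, V, hg, hgS, hgV, hcop⟩ :
      ∃ g S V : ℤ, g ≠ 0 ∧ s = g * S ∧ X = g * V ∧ IsCoprime S V := by
    obtain ⟨S, V, hcop, hS, hV⟩ := Int.exists_gcd_one (Nat.pos_of_ne_zero hg0)
    exact ⟨_, S, V, Int.natCast_ne_zero.2 hg0, hS.trans (mul_comm _ _), hV.trans (mul_comm _ _),
      Int.isCoprime_iff_gcd_eq_one.2 hcop⟩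
  have hy' : y = g * S - h * (g * V) := by rw [← hgS, ← hgV, hsdef]; ring
  rw [hgS, hgV, hy'] at he
  -- divide by `g`
  set u := g * S - 1 with hudef
  have key : g ^ 2 * S * V * (S - h * V) = u * h * ((c + 1) * h * V - c * S) := by
    refine mul_left_cancel₀ (mul_ne_zero hh hg) ?_
    rw [hudef]
    linear_combination he
  have hu0 : u ≠ 0 := by rw [hudef, ← hgS, hsdef]; exact hu
  set δ := S - h * V with hδ
  have key' : g ^ 2 * S * (V * δ) = u * (h * (h * V - c * δ)) := by rw [hδ] at key ⊢; linear_combination key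
  have hS0 : S ≠ 0 := by rintro rfl; exact hs (by rw [hgS, mul_zero])
  have hcu : IsCoprime u (g ^ 2 * S) := by
    have h1 : IsCoprime u g := ⟨-1, S, by rw [hudef]; ring⟩
    have h2 : IsCoprime u S := ⟨-1, g, by rw [hudef]; ring⟩
    exact IsCoprime.mul_right h1.pow_right h2
  obtain ⟨l, hl⟩ : u ∣ V * δ := hcu.dvd_of_dvd_mul_left ⟨_, key'⟩
  have hl2 : h * (h * V - c * δ) = l * (g ^ 2 * S) := by
    refine mul_left_cancel₀ hu0 ?_
    rw [← key', hl]; ring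
  set e := l * g ^ 2 with hedef
  have hstar : h * V * (h - e) = δ * (e + h * c) := by rw [hedef, hδ] at *; linear_combination hl2
  have hquad : h * X ^ 2 * (h - e) = 4 * (h - 1) * h ^ 2 * e * X - e * (e + h * c) := by
    rw [hgV, hedef, hudef] at *
    rw [hδ] at hl hstar
    linear_combination (g ^ 2 * (l * g ^ 2 + h * c)) * hl + (g ^ 2 * V - g * (l * g ^ 2)) * hstar +
      (l * g ^ 3 * h ^ 2 * V) * hc
  set B := c - X ^ 2 - 4 * (h * (h - 1)) * X with hB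
  have hmon : e ^ 2 + h * B * e + h ^ 2 * X ^ 2 = 0 := by rw [hB]; linear_combination hquad
  have hdiv : h ∣ e := by
    rcases eq_or_ne e 0 with h0 | h0
    · rw [h0]; exact dvd_zero _
    obtain ⟨e', h', hcop', he1, he2⟩ := Int.exists_gcd_one (Int.gcd_pos_of_ne_zero_left h h0)
    set k : ℤ := (Int.gcd e h : ℤ) with hk
    have hk0 : k ≠ 0 := by
      intro h0'
      rw [h0', mul_zero] at he1
      exact h0 he1
    have h1 : h' * (B * e' + h' * X ^ 2) = -(e' * e') := by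
      refine mul_left_cancel₀ (pow_ne_zero 2 hk0) ?_
      rw [he1, he2] at hmon
      linear_combination hmon
    have hu' : IsUnit h' :=
      ((Int.isCoprime_iff_gcd_eq_one.2 hcop').symm.mul_right (Int.isCoprime_iff_gcd_eq_one.2 hcop').symm).isUnit_of_dvd'
        dvd_rfl (dvd_neg.1 ⟨_, h1.symm⟩)
    rcases Int.isUnit_iff.1 hu' with hh' | hh'
    · exact ⟨e', by rw [he2, hh', one_mul]; linarith [he1]⟩
    · exact ⟨-e', by rw [he2, hh']; linarith [he1]⟩
  obtain ⟨f, hf⟩ := hdiv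
  have hfe : f ^ 2 + B * f + X ^ 2 = 0 := by
    refine mul_left_cancel₀ (pow_ne_zero 2 hh) ?_
    rw [hf] at hmon
    linear_combination hmon
  exact ⟨X, f, -B - f, rfl, by linear_combination -hfe, by rw [hB]; ring⟩

/-- `f (Z - f) = W²` has no solution when a root lies strictly between `n` and `n + 1`. -/
theorem no_between {f Z W n : ℤ} (hf : f * (Z - f) = W ^ 2) (hpos : W ^ 2 - n * (Z - n) > 0 ∧ W ^ 2 - (n + 1) * (Z - n - 1) < 0 ∧ 2 * n + 2 ≤ Z ∨
    W ^ 2 - n * (Z - n) < 0 ∧ W ^ 2 - (n + 1) * (Z - n - 1) > 0 ∧ Z ≤ 2 * n) : False := by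
  rcases hpos with ⟨h1, h2, h3⟩ | ⟨h1, h2, h3⟩
  · rcases (show f ≤ n ∨ (n + 1 ≤ f ∧ f ≤ Z - n - 1) ∨ Z - n ≤ f by omega) with h | ⟨h, h'⟩ | h
    · nlinarith [mul_nonneg (sub_nonneg.2 h) (show (0 : ℤ) ≤ Z - n - f by omega)]
    · nlinarith [mul_nonneg (sub_nonneg.2 h) (sub_nonneg.2 h')]
    · nlinarith [mul_nonneg (sub_nonneg.2 h) (show (0 : ℤ) ≤ f - n by omega)]
  · rcases (show n + 1 ≤ f ∨ (Z - n ≤ f ∧ f ≤ n) ∨ f ≤ Z - n - 1 by omega) with h | ⟨h, h'⟩ | h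
    · nlinarith [mul_nonneg (sub_nonneg.2 h) (show (0 : ℤ) ≤ f + n + 1 - Z by omega)]
    · nlinarith [mul_nonneg (sub_nonneg.2 h) (sub_nonneg.2 h')]
    · nlinarith [mul_nonneg (sub_nonneg.2 h) (show (0 : ℤ) ≤ n + 1 - f by omega)]

theorem bound_K {h K W f f' : ℤ} (hh : h % 12 = 1 ∧ 13 ≤ h ∨ h % 12 = 9 ∧ h ≤ -15) (hW : W ≠ 0)
    (hK : K = W - 4 * (h * (h - 1))) (hp : f * f' = W ^ 2) (hsum : f + f' = W * K - (4 * h - 5)) :
    |K| ≤ |4 * h - 5| + 2 := by
  set c := 4 * h - 5 with hc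
  have hf0 : f ≠ 0 := fun e => hW (pow_eq_zero_iff two_ne_zero |>.1 (by rw [← hp, e, zero_mul]))
  obtain ⟨P, R, hPR, hfP, hfR⟩ := Int.exists_gcd_one (Int.gcd_pos_of_ne_zero_left f' hf0)
  set g : ℤ := (Int.gcd f f' : ℤ) with hg
  have hg0 : 0 < g := by rw [hg]; exact_mod_cast Int.gcd_pos_of_ne_zero_left f' hf0
  obtain ⟨T, hT⟩ : g ∣ W := (Int.pow_dvd_pow_iff two_ne_zero).1 ⟨P * R, by rw [← hp, hfP, hfR]; ring⟩
  have hT0 : T ≠ 0 := fun e => hW (by rw [hT, e, mul_zero])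
  have hPRT : P * R = T ^ 2 := by
    refine mul_left_cancel₀ (pow_ne_zero 2 hg0.ne') ?_
    rw [hfP, hfR, hT] at hp
    linear_combination hp
  have hcop : IsCoprime P R := Int.isCoprime_iff_gcd_eq_one.2 hPR
  obtain ⟨p, hp'⟩ := Int.sq_of_isCoprime hcop hPRT
  obtain ⟨r, hr'⟩ := Int.sq_of_isCoprime hcop.symm ((mul_comm R P).trans hPRT)
  obtain ⟨σ, p, r, hσ, hP, hR, hpr⟩ : ∃ σ p r : ℤ, (σ = 1 ∨ σ = -1) ∧ P = σ * p ^ 2 ∧ R = σ * r ^ 2 ∧ T = p * r := by
    have hpos : 0 < T ^ 2 := by positivity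
    have fin : ∀ σ : ℤ, (σ = 1 ∨ σ = -1) → P = σ * p ^ 2 → R = σ * r ^ 2 →
        ∃ σ p r : ℤ, (σ = 1 ∨ σ = -1) ∧ P = σ * p ^ 2 ∧ R = σ * r ^ 2 ∧ T = p * r := by
      intro σ hσ e1 e2
      have h2 : T ^ 2 = (p * r) ^ 2 := by
        rw [← hPRT, e1, e2]; rcases hσ with rfl | rfl <;> ring
      rcases sq_eq_sq_iff_eq_or_eq_neg.1 h2 with e | e
      · exact ⟨σ, p, r, hσ, e1, e2, e⟩
      · exact ⟨σ, p, -r, hσ, e1, by rw [e2, neg_sq], by rw [e, mul_neg]⟩
    rcases hp' with e1 | e1 <;> rcases hr' with e2 | e2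
    · exact fin 1 (Or.inl rfl) (by rw [e1, one_mul]) (by rw [e2, one_mul])
    · rw [e1, e2] at hPRT; nlinarith [sq_nonneg (p * r)]
    · rw [e1, e2] at hPRT; nlinarith [sq_nonneg (p * r)]
    · exact fin (-1) (Or.inr rfl) (by rw [e1, neg_one_mul]) (by rw [e2, neg_one_mul])
  have hp0 : p ≠ 0 := fun e => hT0 (by rw [hpr, e, zero_mul])
  have hr0 : r ≠ 0 := fun e => hT0 (by rw [hpr, e, mul_zero])
  have hcpr : IsCoprime p r := by
    rw [hP, hR] at hcop
    exact (IsCoprime.pow_iff two_pos two_pos).1 hcop.of_mul_left_right.of_mul_right_right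
  rw [hfP, hfR, hP, hR, hT, hpr] at hsum
  obtain ⟨c', hc'⟩ : g ∣ c := ⟨p * r * K - σ * p ^ 2 - σ * r ^ 2, by linear_combination hsum⟩
  have hc'0 : c' ≠ 0 := fun e => by rw [e, mul_zero] at hc'; omega
  have e1 : σ * (p ^ 2 + r ^ 2) + c' = p * r * K := by
    refine mul_left_cancel₀ hg0.ne' ?_
    linear_combination hsum - hc'
  have e2 : p ^ 2 + r ^ 2 + σ * c' = σ * K * p * r := by
    rcases hσ with rfl | rfl
    · linear_combination e1
    · linear_combination -e1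
  have habs : |c| = g * |c'| := by rw [hc', abs_mul, abs_of_pos hg0]
  have hσK : |σ * K| = |K| := by rcases hσ with rfl | rfl <;> simp
  have hσc : |σ * c'| = |c'| := by rcases hσ with rfl | rfl <;> simp
  rcases vieta_bound hp0 hr0 hcpr e2 with hb | ⟨hn, hb⟩
  · rw [hσK, hσc] at hb
    have : |c'| ≤ |c| := by rw [habs]; exact le_mul_of_one_le_left (abs_nonneg _) (by omega)
    linarith
  · rw [hσK] at hb
    have hgc : |c| = g := by
      have : |c'| = 1 := by rw [← hσc, hn]; norm_num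
      rw [habs, this, mul_one]
    have hWb : |c| * |K| ≤ |W| := by
      rw [hT, hpr, abs_mul, abs_of_pos hg0, hgc]
      exact mul_le_mul_of_nonneg_left hb hg0.le
    have hWK : |W| ≤ 4 * (h * (h - 1)) + |K| := by
      have hH : 0 ≤ h * (h - 1) := by
        rcases hh with ⟨-, hh⟩ | ⟨-, hh⟩
        · exact mul_nonneg (by linarith) (by linarith)
        · exact mul_nonneg_of_nonpos_of_nonpos (by linarith) (by linarith)
      rw [show W = 4 * (h * (h - 1)) + K by rw [hK]; ring]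
      refine (abs_add_le _ _).trans ?_
      rw [abs_of_nonneg (by linarith)]
    by_contra hlt
    have hcpos : 0 ≤ |c| - 1 := by rw [hgc]; omega
    have h5 := mul_le_mul_of_nonneg_right (show |c| + 3 ≤ |K| by omega) hcpos
    rcases hh with ⟨-, hh⟩ | ⟨-, hh⟩
    · rw [abs_of_pos (show 0 < c by omega)] at hWb h5; nlinarith
    · rw [abs_of_neg (show c < 0 by omega)] at hWb h5; nlinarith

/-- The second pairing is impossible. -/
theorem alt_false {h w y : ℤ} (hh : h % 12 = 1 ∧ 13 ≤ h ∨ h % 12 = 9 ∧ h ≤ -15)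
    (hw : w ≠ 0) (hy : y ≠ 0) (hu : w + y - 1 ≠ 0) (hwh : h ∣ w) (hsign : h * w < 0) (h8 : w % 8 = h % 8)
    (hb : h + 1 ∣ 2 * (w - 3)) (he : (w + y) * w * y = h ^ 2 * (w + y - 1) * (w - (4 * h - 5) * y)) :
    False := by
  obtain ⟨X, f, f', hX, hff, hsum⟩ := exists_pair (by omega) (by omega) hw hy hu hwh he
  set W := -X with hWdef
  have hXneg : X < 0 := by
    rw [hX] at hsign
    nlinarith [mul_self_nonneg h]
  have hW : 0 < W := by omega
  set K := W - 4 * (h * (h - 1)) with hKdef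
  have hs2 : f + f' = W * K - (4 * h - 5) := by rw [hKdef, hWdef, hsum]; ring
  have hp2 : f * f' = W ^ 2 := by rw [hff, hWdef]; ring
  have hK := bound_K hh hW.ne' hKdef hp2 hs2
  -- congruences of `K`
  obtain ⟨a, ha⟩ := hb
  have hb2 : h + 1 ∣ 2 * (K - (2 * h - 3)) := by
    refine ⟨a - 2 * X - 8 * (h - 2) - 4, ?_⟩
    rw [hKdef, hWdef]
    linear_combination ha + (-2 : ℤ) * hX
  have h2 : (8 : ℤ) ∣ K - (2 * h - 3) := by
    obtain ⟨n, hn⟩ : ∃ n, h = 4 * n + 1 := ⟨h / 4, by omega⟩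
    obtain ⟨m, hm⟩ : (8 : ℤ) ∣ h * X - h := by rw [← hX]; omega
    have hodd : IsCoprime (8 : ℤ) h := by
      have h28 : IsCoprime (2 : ℤ) h := ⟨-2 * n, 1, by rw [hn]; ring⟩
      exact show IsCoprime ((2 : ℤ) ^ 3) h from h28.pow_left
    obtain ⟨m', hm'⟩ : (8 : ℤ) ∣ X - 1 := hodd.dvd_of_dvd_mul_left ⟨m, by linear_combination hm⟩
    refine ⟨-m' - 8 * n ^ 2 - 3 * n, ?_⟩
    rw [hKdef, hWdef, hn]
    linear_combination -hm'
  obtain ⟨i, hi⟩ : ∃ i, K - (2 * h - 3) = 4 * (h + 1) * i := by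
    obtain ⟨n, hn⟩ : ∃ n, h + 1 = 2 * (2 * n + 1) := ⟨(h - 1) / 4, by omega⟩
    have hcop : IsCoprime (8 : ℤ) (2 * n + 1) := by
      have : IsCoprime (2 : ℤ) (2 * n + 1) := ⟨-n, 1, by ring⟩
      exact show IsCoprime ((2 : ℤ) ^ 3) (2 * n + 1) from this.pow_left
    obtain ⟨j, hj⟩ := hb2
    have : 8 * (2 * n + 1) ∣ K - (2 * h - 3) := hcop.mul_dvd h2 ⟨j, by rw [hn] at hj; linarith⟩
    obtain ⟨i, hi⟩ := this
    exact ⟨i, by rw [hi, hn]; ring⟩
  have hi2 : i = 0 ∨ i = -1 := by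
    obtain ⟨k1, k2⟩ := abs_le.1 hK
    rcases hh with ⟨-, hh⟩ | ⟨-, hh⟩
    · rw [abs_of_pos (show 0 < 4 * h - 5 by omega)] at k1 k2
      rcases (show 1 ≤ i ∨ i ≤ -2 ∨ i = 0 ∨ i = -1 by omega) with h' | h' | h'
      · nlinarith [mul_nonneg (sub_nonneg.2 h') (show (0 : ℤ) ≤ 4 * (h + 1) by omega)]
      · nlinarith [mul_nonneg (sub_nonneg.2 h') (show (0 : ℤ) ≤ 4 * (h + 1) by omega)]
      · exact h'
    · rw [abs_of_neg (show 4 * h - 5 < 0 by omega)] at k1 k2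
      rcases (show 1 ≤ i ∨ i ≤ -2 ∨ i = 0 ∨ i = -1 by omega) with h' | h' | h'
      · nlinarith [mul_nonneg (sub_nonneg.2 h') (show (0 : ℤ) ≤ -4 * (h + 1) by omega)]
      · nlinarith [mul_nonneg (sub_nonneg.2 h') (show (0 : ℤ) ≤ -4 * (h + 1) by omega)]
      · exact h'
  have hf' : f * (W * K - (4 * h - 5) - f) = W ^ 2 := by rw [← hs2, ← hp2]; ring
  have hWK : W = K + 4 * (h * (h - 1)) := by rw [hKdef]; ring
  rw [hWK] at hf'
  rcases hi2 with rfl | rfl
  · rw [show K = 2 * h - 3 by linarith] at hf'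
    rcases hh with ⟨-, hh⟩ | ⟨-, hh⟩
    · exact no_between (n := 2 * h + 2) hf' (Or.inl ⟨by nlinarith [sq_nonneg h], by nlinarith [sq_nonneg h],
        by nlinarith [sq_nonneg h]⟩)
    · exact no_between (n := 2 * h + 1) hf' (Or.inr ⟨by nlinarith [sq_nonneg h], by nlinarith [sq_nonneg h],
        by nlinarith [sq_nonneg h]⟩)
  · rw [show K = -2 * h - 7 by linarith] at hf'
    rcases hh with ⟨hm, hh⟩ | ⟨hm, hh⟩
    · rcases (show h = 13 ∨ h = 25 ∨ 37 ≤ h by omega) with rfl | rfl | hh'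
      · exact no_between (n := -18) hf' (Or.inr ⟨by norm_num, by norm_num, by norm_num⟩)
      · exact no_between (n := -42) hf' (Or.inr ⟨by norm_num, by norm_num, by norm_num⟩)
      · exact no_between (n := -2 * h + 9) hf' (Or.inr ⟨by nlinarith [sq_nonneg h], by nlinarith [sq_nonneg h],
          by nlinarith [sq_nonneg h]⟩)
    · rcases (show h = -15 ∨ h = -27 ∨ h ≤ -39 by omega) with rfl | rfl | hh'
      · exact no_between (n := 42) hf' (Or.inl ⟨by norm_num, by norm_num, by norm_num⟩)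
      · exact no_between (n := 65) hf' (Or.inl ⟨by norm_num, by norm_num, by norm_num⟩)
      · exact no_between (n := -2 * h + 10) hf' (Or.inl ⟨by nlinarith [sq_nonneg h], by nlinarith [sq_nonneg h],
          by nlinarith [sq_nonneg h]⟩)

end Cfsg.Agent.Char.ReeOrder
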