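import Mathlib

/-!
# The order from the first pairing
-/

set_option autoImplicit false

namespace Cfsg.Agent.Char.ReeOrder

/-- Two degrees and a third with weights `a`, `b`, `-(a + b)`: the equation is a square. -/
theorem three_term {a b u v : ℚ} (hu : u ≠ 0) (hv : v ≠ 0) (huv : u + v ≠ 0)
    (h : a ^ 2 / u + b ^ 2 / v - (a + b) ^ 2 / (u + v) = 0) : b * u = a * v := by
  field_simp at h
  have h2 : (b * u - a * v) ^ 2 = 0 := by linear_combination h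
  exact sub_eq_zero.1 (pow_eq_zero_iff two_ne_zero |>.1 h2)

/-- A prime power `q` with `3 q` a square is an odd power of three. -/
theorem odd_power_three {q : ℕ} (hq : IsPrimePow q) {R : ℚ} (h : R ^ 2 = 3 * q) : ∃ m : ℕ, q = 3 ^ (2 * m + 1) := by
  have hint : ∃ z : ℤ, R = z := by
    refine ⟨R.num, (Rat.coe_int_num_of_den_eq_one ?_).symm⟩
    have h1 : (R ^ 2).den = 1 := by rw [h]; norm_cast
    rwa [Rat.den_pow, Nat.pow_eq_one, or_iff_left two_ne_zero] at h1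
  obtain ⟨z, rfl⟩ := hint
  have hz : z.natAbs ^ 2 = 3 * q := by
    have : (z : ℤ) ^ 2 = 3 * q := by exact_mod_cast h
    zify
    rwa [sq_abs]
  obtain ⟨w, hw⟩ : 3 ∣ z.natAbs := Nat.prime_three.dvd_of_dvd_pow ⟨q, hz⟩
  have hqw : q = 3 * w ^ 2 := by rw [hw] at hz; linarith
  obtain ⟨p, f, hp, -, rfl⟩ := (isPrimePow_nat_iff q).1 hq
  obtain rfl : 3 = p := (Nat.prime_dvd_prime_iff_eq Nat.prime_three hp).1
    (Nat.prime_three.dvd_of_dvd_pow ⟨w ^ 2, hqw⟩)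
  have hwq : w ∣ 3 ^ f := ⟨3 * w, by rw [hqw]; ring⟩
  obtain ⟨i, -, hi⟩ := (Nat.dvd_prime_pow Nat.prime_three).1 hwq
  refine ⟨i, ?_⟩
  rw [hqw, hi, ← pow_mul, ← pow_succ', mul_comm i 2]

/-- The first pairing determines the degrees of the first row and the constant. -/
theorem main_core {Q x2 x3 x4 : ℤ} {K : ℚ} (hQ : 11 ≤ Q ∨ Q ≤ -13)
    (n2 : x2 ≠ 0) (n3 : x3 ≠ 0) (n4 : x4 ≠ 0) (n24 : x2 ≠ x4) (d1 : 1 + x2 + x3 + x4 = 0)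
    (hψ : -1 / (x2 : ℚ) + (Q : ℚ) ^ 2 / x4 + (1 - (Q : ℚ)) ^ 2 / (x2 - x4) = 0)
    (hY : K * (8 * Q) / (Q + 1) = 8 * ((Q : ℚ) - 1) ^ 2 / (x2 - x4))
    (p1 : 1 + 1 / (x2 : ℚ) + (Q : ℚ) ^ 2 / x3 + (Q : ℚ) ^ 2 / x4 = K * (Q - 1)) :
    (x4 : ℚ) = Q * x2 ∧ (x2 : ℚ) = -((Q : ℚ) ^ 2 - Q + 1) ∧ (x3 : ℚ) = Q ^ 3 ∧
      K = -(((Q : ℚ) + 1) * (Q - 1)) / (Q * x2) := by
  have q0 : (Q : ℚ) ≠ 0 := Int.cast_ne_zero.2 (by omega)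
  have q1 : (Q : ℚ) + 1 ≠ 0 := by exact_mod_cast (show Q + 1 ≠ 0 by omega)
  have q1' : (Q : ℚ) - 1 ≠ 0 := by exact_mod_cast (show Q - 1 ≠ 0 by omega)
  have m2 : (x2 : ℚ) ≠ 0 := Int.cast_ne_zero.2 n2
  have m3 : (x3 : ℚ) ≠ 0 := Int.cast_ne_zero.2 n3
  have m4 : (x4 : ℚ) ≠ 0 := Int.cast_ne_zero.2 n4
  have e4 : (x4 : ℚ) = Q * x2 := by
    have m24 : (x2 : ℚ) - x4 ≠ 0 := sub_ne_zero.2 (Int.cast_injective.ne n24)
    have := three_term (a := -1) (b := Q) (u := -(x2 : ℚ)) (v := x4) (neg_ne_zero.2 m2) m4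
      (by intro e; exact m24 (by linear_combination -e)) (by
        rw [show -(x2 : ℚ) + x4 = -(x2 - x4) by ring, div_neg, div_neg, neg_one_sq]
        linear_combination hψ)
    linarith
  have e4' : x4 = Q * x2 := by exact_mod_cast e4
  have e3 : (x3 : ℚ) = -1 - (Q + 1) * x2 := by
    have : x3 = -1 - (Q + 1) * x2 := by linear_combination d1 - e4'
    exact_mod_cast this
  have eK : K = -(((Q : ℚ) + 1) * (Q - 1)) / (Q * x2) := by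
    rw [e4, show (x2 : ℚ) - Q * x2 = -((Q - 1) * x2) by ring] at hY
    field_simp at hY ⊢
    linear_combination hY
  have quad : ((Q : ℚ) * x2 + 1) * ((x2 : ℚ) + (Q ^ 2 - Q + 1)) = 0 := by
    rw [eK, e4] at p1
    field_simp at p1
    rw [e3] at p1
    apply mul_left_cancel₀ q1
    linear_combination -p1
  have e2 : (x2 : ℚ) = -((Q : ℚ) ^ 2 - Q + 1) := by
    rcases mul_eq_zero.1 quad with e | e
    · have : IsUnit Q := IsUnit.of_mul_eq_one (-x2) (by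
        have : Q * x2 + 1 = 0 := by exact_mod_cast e
        linarith)
      rcases Int.isUnit_iff.1 this with e | e <;> omega
    · linarith
  have e3' : (x3 : ℚ) = Q ^ 3 := by rw [e3, e2]; ring
  exact ⟨e4, e2, e3', eK⟩

/-- The first pairing: the group has the order of a small Ree group. -/
theorem main_arith {Q h x2 x3 x4 x5 x6 : ℤ} {K : ℚ} {g : ℕ} (hQh : Q = 2 * h + 1) (hQ : 11 ≤ Q ∨ Q ≤ -13)
    (hpp : IsPrimePow Q.natAbs)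
    (n2 : x2 ≠ 0) (n3 : x3 ≠ 0) (n4 : x4 ≠ 0) (n5 : x5 ≠ 0) (n6 : x6 ≠ 0) (n24 : x2 ≠ x4)
    (d1 : 1 + x2 + x3 + x4 = 0) (d2 : x3 + x4 + x5 + x6 = 0)
    (hψ : -1 / (x2 : ℚ) + (Q : ℚ) ^ 2 / x4 + (1 - (Q : ℚ)) ^ 2 / (x2 - x4) = 0)
    (hY : K * (8 * Q) / (Q + 1) = 8 * ((Q : ℚ) - 1) ^ 2 / (x2 - x4))
    (p1 : 1 + 1 / (x2 : ℚ) + (Q : ℚ) ^ 2 / x3 + (Q : ℚ) ^ 2 / x4 = K * (Q - 1))
    (p2 : (Q : ℚ) ^ 2 / x3 + (Q : ℚ) ^ 2 / x4 + (h : ℚ) ^ 2 / x5 + (h : ℚ) ^ 2 / x6 = K * (3 * Q - 1) / (Q + 1))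
    (hK : K * g = (Q.natAbs : ℚ) * Q * ((Q : ℚ) ^ 2 - 1) ^ 2) :
    ∃ m : ℕ, 1 ≤ m ∧ Q.natAbs = 3 ^ (2 * m + 1) ∧
      g = (3 ^ (2 * m + 1)) ^ 3 * ((3 ^ (2 * m + 1)) ^ 3 + 1) * (3 ^ (2 * m + 1) - 1) := by
  have q0 : (Q : ℚ) ≠ 0 := Int.cast_ne_zero.2 (by omega)
  have q1 : (Q : ℚ) + 1 ≠ 0 := by exact_mod_cast (show Q + 1 ≠ 0 by omega)
  have q1' : (Q : ℚ) - 1 ≠ 0 := by exact_mod_cast (show Q - 1 ≠ 0 by omega)
  have m2 : (x2 : ℚ) ≠ 0 := Int.cast_ne_zero.2 n2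
  have m3 : (x3 : ℚ) ≠ 0 := Int.cast_ne_zero.2 n3
  have m4 : (x4 : ℚ) ≠ 0 := Int.cast_ne_zero.2 n4
  have m5 : (x5 : ℚ) ≠ 0 := Int.cast_ne_zero.2 n5
  have m6 : (x6 : ℚ) ≠ 0 := Int.cast_ne_zero.2 n6
  obtain ⟨e4, e2, e3', eK⟩ := main_core hQ n2 n3 n4 n24 d1 hψ hY p1
  have hk : (Q : ℚ) ^ 2 - Q + 1 ≠ 0 := fun e => m2 (by rw [e2, e, neg_zero])
  have esum : (x5 : ℚ) + x6 = -(Q * (Q - 1)) := by
    have : (x3 : ℚ) + x4 + x5 + x6 = 0 := by exact_mod_cast d2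
    rw [e3', e4, e2] at this
    linear_combination this
  have eprod : (x5 : ℚ) * x6 * 12 = -((Q : ℚ) * (Q ^ 2 - Q + 1) * (Q - 1) ^ 2) := by
    have hh : (h : ℚ) = ((Q : ℚ) - 1) / 2 := by rw [hQh]; push_cast; ring
    rw [eK, e3', e4, hh] at p2
    field_simp at p2
    rw [e2] at p2
    apply mul_left_cancel₀ (mul_ne_zero q0 q1')
    linear_combination p2 + ((Q : ℚ) * (Q ^ 2 - Q + 1) * (Q - 1) ^ 2) * esum
  have hsq : (3 * ((x5 : ℚ) - x6) / (((Q : ℚ) - 1) * (Q + 1))) ^ 2 = 3 * Q := by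
    rw [div_pow, div_eq_iff (pow_ne_zero 2 (mul_ne_zero q1' q1))]
    linear_combination 9 * (x5 + x6 - Q * (Q - 1)) * esum - 3 * eprod
  have hQpos : 0 < Q := by
    have h2 : (0 : ℚ) ≤ 3 * (Q : ℚ) := hsq ▸ sq_nonneg _
    have : (0 : ℤ) ≤ 3 * Q := by exact_mod_cast h2
    omega
  have hcast : (Q : ℚ) = (Q.natAbs : ℕ) := by
    rw [← Int.cast_natCast, Int.natAbs_of_nonneg hQpos.le]
  obtain ⟨m, hm⟩ := odd_power_three hpp (R := 3 * ((x5 : ℚ) - x6) / (((Q : ℚ) - 1) * (Q + 1))) (by rw [← hcast]; exact hsq)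
  refine ⟨m, ?_, hm, ?_⟩
  · by_contra hm0
    rw [show m = 0 by omega] at hm
    omega
  · obtain ⟨q, hq⟩ : ∃ q, q = 3 ^ (2 * m + 1) := ⟨_, rfl⟩
    rw [← hq] at hm ⊢
    have hqQ : (Q : ℚ) = (q : ℚ) := by rw [hcast, hm]
    have hq1 : 1 ≤ q := hq ▸ Nat.one_le_pow _ _ (by norm_num)
    rw [hm, eK, ← hqQ] at hK
    field_simp at hK
    rw [e2] at hK
    have : ((g : ℕ) : ℚ) = ((q ^ 3 * (q ^ 3 + 1) * (q - 1) : ℕ) : ℚ) := by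
      push_cast [hq1]
      rw [← hqQ]
      apply mul_left_cancel₀ (mul_ne_zero q1' q1)
      linear_combination -hK
    exact_mod_cast this

/-- The first pairing with two equal degrees in the second row. -/
theorem main_pair_false {Q h x2 x3 x4 u E : ℤ} {K : ℚ} (hQh : Q = 2 * h + 1) (hQ : 11 ≤ Q ∨ Q ≤ -13)
    (n2 : x2 ≠ 0) (n3 : x3 ≠ 0) (n4 : x4 ≠ 0) (n5 : u ≠ 0) (n24 : x2 ≠ x4)
    (d1 : 1 + x2 + x3 + x4 = 0) (d2 : x3 + x4 + u + u = 0)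
    (hψ : -1 / (x2 : ℚ) + (Q : ℚ) ^ 2 / x4 + (1 - (Q : ℚ)) ^ 2 / (x2 - x4) = 0)
    (hY : K * (8 * Q) / (Q + 1) = 8 * ((Q : ℚ) - 1) ^ 2 / (x2 - x4))
    (p1 : 1 + 1 / (x2 : ℚ) + (Q : ℚ) ^ 2 / x3 + (Q : ℚ) ^ 2 / x4 = K * (Q - 1))
    (p2 : (Q : ℚ) ^ 2 / x3 + (Q : ℚ) ^ 2 / x4 + ((h : ℚ) + E) ^ 2 / u + ((h : ℚ) - E) ^ 2 / u =
      K * (3 * Q - 1) / (Q + 1)) : False := by
  obtain ⟨e4, e2, e3', eK⟩ := main_core hQ n2 n3 n4 n24 d1 hψ hY p1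
  have q0 : (Q : ℚ) ≠ 0 := Int.cast_ne_zero.2 (by omega)
  have q1 : (Q : ℚ) + 1 ≠ 0 := by exact_mod_cast (show Q + 1 ≠ 0 by omega)
  have h0 : (h : ℚ) ≠ 0 := Int.cast_ne_zero.2 (by omega)
  have hh : (Q : ℚ) = 2 * h + 1 := by rw [hQh]; push_cast; ring
  have hk : (Q : ℚ) ^ 2 - Q + 1 ≠ 0 := by
    have := sq_nonneg ((Q : ℚ) - 1 / 2)
    intro e; nlinarith
  have eu : (u : ℚ) = -(Q * h) := by
    have : (x3 : ℚ) + x4 + u + u = 0 := by exact_mod_cast d2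
    rw [e3', e4, e2] at this
    linear_combination this / 2 - ((Q : ℚ) / 2) * hh
  have hk2 : (Q : ℚ) * (Q - 1) + 1 ≠ 0 := by
    intro e; exact hk (by linear_combination e)
  rw [eK, e3', e4, e2, eu] at p2
  field_simp at p2
  have key : ((h : ℚ) ^ 2 + E ^ 2) * ((Q : ℚ) ^ 2 - Q + 1) + 3 * h ^ 2 * Q = 0 := by
    rw [hh] at p2 ⊢
    linear_combination -(1 / 2) * p2
  have hE := mul_nonneg (sq_nonneg (E : ℚ)) (le_of_lt (show (0 : ℚ) < (Q : ℚ) ^ 2 - Q + 1 by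
    nlinarith [sq_nonneg ((Q : ℚ) - 1 / 2)]))
  have hpos : (0 : ℚ) < (h : ℚ) ^ 2 * ((Q : ℚ) ^ 2 + 2 * Q + 1) :=
    mul_pos (by positivity) (by rw [show (Q : ℚ) ^ 2 + 2 * Q + 1 = ((Q : ℚ) + 1) ^ 2 by ring]; positivity)
  linarith [key, hE, hpos]

end Cfsg.Agent.Char.ReeOrder
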