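import Mathlib

/-!
# Seven rows lead to a quintic without roots
-/

set_option autoImplicit false
set_option maxHeartbeats 800000

namespace Cfsg.Agent.Char.ReeOrder

/-- The coefficient of `t ^ i`. -/
def sevenCoeff (Q : ℤ) : Fin 6 → ℤ :=
  ![-2 * Q ^ 3 + 14 * Q ^ 2 - 2 * Q, Q ^ 5 - 7 * Q ^ 4 + 17 * Q ^ 3 - 77 * Q ^ 2 + 17 * Q - 1,
    12 * Q ^ 4 - 24 * Q ^ 3 + 152 * Q ^ 2 - 44 * Q + 4,
    -Q ^ 7 + 5 * Q ^ 6 - 15 * Q ^ 5 + 15 * Q ^ 4 - 19 * Q ^ 3 - 125 * Q ^ 2 + 45 * Q - 5,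
    4 * Q ^ 5 - 10 * Q ^ 4 + 30 * Q ^ 3 + 42 * Q ^ 2 - 18 * Q + 2, -7 * Q ^ 3 - 5 * Q ^ 2 + 2 * Q]

theorem quintic_ne_zero {Q t : ℤ} (hQ : 11 ≤ Q ∨ Q ≤ -13) (ht : t ≠ 0) :
    ∑ i : Fin 6, sevenCoeff Q i * t ^ (i : ℕ) ≠ 0 := by
  intro h0
  simp only [Fin.sum_univ_six, sevenCoeff, Matrix.cons_val_zero, Matrix.cons_val_one, Matrix.cons_val] at h0
  norm_num at h0
  set c0 := -(2 * Q ^ 3) + 14 * Q ^ 2 - 2 * Q with hc0
  set c1 := Q ^ 5 - 7 * Q ^ 4 + 17 * Q ^ 3 - 77 * Q ^ 2 + 17 * Q - 1 with hc1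
  set c2 := 12 * Q ^ 4 - 24 * Q ^ 3 + 152 * Q ^ 2 - 44 * Q + 4 with hc2
  set c3 := -Q ^ 7 + 5 * Q ^ 6 - 15 * Q ^ 5 + 15 * Q ^ 4 - 19 * Q ^ 3 - 125 * Q ^ 2 + 45 * Q - 5 with hc3
  set c4 := 4 * Q ^ 5 - 10 * Q ^ 4 + 30 * Q ^ 3 + 42 * Q ^ 2 - 18 * Q + 2 with hc4
  set c5 := -(7 * Q ^ 3) - 5 * Q ^ 2 + 2 * Q with hc5
  have hT : 4 * |c5| * (|c0| + |c1| + |c2|) < 4 * c3 * c5 - c4 ^ 2 := by
    rcases hQ with hQ | hQ
    · obtain ⟨n, rfl⟩ : ∃ n : ℕ, Q = 11 + n := ⟨(Q - 11).toNat, by omega⟩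
      rw [abs_of_nonpos (show c5 ≤ 0 by rw [hc5]; ring_nf; nlinarith),
        abs_of_nonpos (show c0 ≤ 0 by rw [hc0]; ring_nf; nlinarith),
        abs_of_nonneg (show 0 ≤ c1 by rw [hc1]; ring_nf; positivity),
        abs_of_nonneg (show 0 ≤ c2 by rw [hc2]; ring_nf; positivity), ← sub_pos, hc0, hc1, hc2, hc3, hc4, hc5]
      ring_nf
      positivity
    · obtain ⟨n, rfl⟩ : ∃ n : ℕ, Q = -13 - n := ⟨(-13 - Q).toNat, by omega⟩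
      have h1 : c1 ≤ 0 := by
        rw [hc1]
        ring_nf
        nlinarith [pow_nonneg (Int.natCast_nonneg n) 3, pow_nonneg (Int.natCast_nonneg n) 4,
          pow_nonneg (Int.natCast_nonneg n) 5]
      rw [abs_of_nonneg (show 0 ≤ c5 by rw [hc5]; ring_nf; positivity),
        abs_of_nonneg (show 0 ≤ c0 by rw [hc0]; ring_nf; positivity),
        abs_of_nonpos h1,
        abs_of_nonneg (show 0 ≤ c2 by rw [hc2]; ring_nf; positivity), ← sub_pos, hc0, hc1, hc2, hc3, hc4, hc5]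
      ring_nf
      positivity
  set R := c3 + c4 * t + c5 * t ^ 2 with hR
  have h5 : 0 ≤ |c5| := abs_nonneg _
  have hb : 4 * c3 * c5 - c4 ^ 2 ≤ 4 * |c5| * |R| := by
    calc 4 * c3 * c5 - c4 ^ 2 ≤ 4 * c5 * R := by rw [hR]; nlinarith [sq_nonneg (2 * c5 * t + c4)]
      _ ≤ |4 * c5 * R| := le_abs_self _
      _ = 4 * |c5| * |R| := by rw [abs_mul, abs_mul]; norm_num
  have hM : |c0| + |c1| + |c2| < |R| := by
    by_contra hle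
    nlinarith [mul_le_mul_of_nonneg_left (not_lt.1 hle) h5]
  have hL : |t ^ 3 * R| = |c0 + c1 * t + c2 * t ^ 2| := by
    rw [← abs_neg (c0 + _ + _)]
    congr 1
    rw [hR]
    linear_combination h0
  have ht1 : 1 ≤ |t| := Int.one_le_abs ht
  rw [abs_mul, abs_pow] at hL
  have hL' : |c0 + c1 * t + c2 * t ^ 2| ≤ |c0| + |c1| * |t| + |c2| * |t| ^ 2 := by
    refine (abs_add_le _ _).trans ?_
    refine add_le_add ((abs_add_le _ _).trans (by rw [abs_mul])) (by rw [abs_mul, abs_pow])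
  have hbig : |t| ^ 3 * (|c0| + |c1| + |c2|) < |t| ^ 3 * |R| :=
    mul_lt_mul_of_pos_left hM (by positivity)
  have k0 : |c0| ≤ |c0| * |t| ^ 3 := le_mul_of_one_le_right (abs_nonneg _) (one_le_pow₀ ht1)
  have k1 : |c1| * |t| ≤ |c1| * |t| ^ 3 :=
    mul_le_mul_of_nonneg_left (le_self_pow₀ ht1 (by norm_num)) (abs_nonneg _)
  have k2 : |c2| * |t| ^ 2 ≤ |c2| * |t| ^ 3 :=
    mul_le_mul_of_nonneg_left (pow_le_pow_right₀ ht1 (by norm_num)) (abs_nonneg _)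
  nlinarith

/-- The configuration with seven rows is impossible. -/
theorem seven_false {Q h A B C Z : ℤ} {K : ℚ} (hQh : Q = 2 * h + 1) (hQ : 11 ≤ Q ∨ Q ≤ -13)
    (hQ8 : Q % 8 = 3) (hA8 : (8 : ℤ) ∣ A - Q) (hAb : h + 1 ∣ 2 * (A - Q))
    (hA : A ≠ 0) (hB : B ≠ 0) (hC : C ≠ 0) (hZ : Z ≠ 0)
    (d1 : 1 + A + 2 * B = 0) (d2 : A + Z + B + C = 0)
    (hY : K * (8 * Q) / (Q + 1) = 8 * ((Q : ℚ) - 1) ^ 2 / (-2 * C))
    (p1 : 1 + (Q : ℚ) ^ 2 / A + 2 * (((h : ℚ) + 1) ^ 2 / B) = K * (Q - 1))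
    (p2 : (Q : ℚ) ^ 2 / A + 4 * h ^ 2 / Z + ((h : ℚ) + 1) ^ 2 / B + h ^ 2 / C = K * (3 * Q - 1) / (Q + 1)) :
    False := by
  obtain ⟨j, hj⟩ : ∃ j, A - Q = 2 * (Q + 1) * j := by
    obtain ⟨n, hn⟩ : ∃ n, h + 1 = 2 * (2 * n + 1) := ⟨(h - 1) / 4, by omega⟩
    have hcop : IsCoprime (8 : ℤ) (2 * n + 1) := by
      have : IsCoprime (2 : ℤ) (2 * n + 1) := ⟨-n, 1, by ring⟩
      exact show IsCoprime ((2 : ℤ) ^ 3) (2 * n + 1) from this.pow_left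
    obtain ⟨i, hi⟩ := hAb
    obtain ⟨j, hj⟩ := hcop.mul_dvd hA8 ⟨i, by rw [hn] at hi; linarith⟩
    exact ⟨j, by rw [hj, hQh, show h = 2 * (2 * n + 1) - 1 by omega]; ring⟩
  have hQ1 : (Q : ℚ) + 1 ≠ 0 := by exact_mod_cast (show Q + 1 ≠ 0 by omega)
  have hQ0 : (Q : ℚ) ≠ 0 := by exact_mod_cast (show Q ≠ 0 by omega)
  have hA' : (A : ℚ) ≠ 0 := Int.cast_ne_zero.2 hA
  have hB' : (B : ℚ) ≠ 0 := Int.cast_ne_zero.2 hB
  have hC' : (C : ℚ) ≠ 0 := Int.cast_ne_zero.2 hC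
  have hZ' : (Z : ℚ) ≠ 0 := Int.cast_ne_zero.2 hZ
  have hQc : (Q : ℚ) = 2 * h + 1 := by exact_mod_cast hQh
  have hK : K = -2 * (h : ℚ) ^ 2 * (Q + 1) / (Q * C) := by
    rw [hQc] at hY hQ1 hQ0 ⊢
    field_simp at hY ⊢
    linear_combination (1 / 2 : ℚ) * hY
  rw [hK] at p1 p2
  have hAj : (A : ℚ) = Q + 2 * (Q + 1) * j := by
    have : A = Q + 2 * (Q + 1) * j := by linarith
    exact_mod_cast this
  have hBj : (B : ℚ) = -((Q + 1) * (2 * j + 1)) / 2 := by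
    have h1 : (1 : ℚ) + A + 2 * B = 0 := by exact_mod_cast d1
    linear_combination h1 / 2 - hAj / 2
  have ht : (2 : ℚ) * j + 1 ≠ 0 := by exact_mod_cast (show 2 * j + 1 ≠ 0 by omega)
  have e1 : (Q : ℚ) * j ^ 2 * C = -((h : ℚ) ^ 3) * A * (2 * j + 1) := by
    rw [hBj] at p1
    field_simp at p1
    apply mul_left_cancel₀ (mul_ne_zero hQ1 hQ1)
    rw [hAj] at p1 ⊢
    rw [hQc] at p1 ⊢
    linear_combination (1 / 4 : ℚ) * p1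
  have e2 : (Z : ℚ) * (2 * (7 * Q - 2) * j ^ 2 - 2 * h * Q ^ 2 * (2 * j + 1) + h * A * (Q + 1)) =
      8 * (h : ℚ) ^ 3 * A * (2 * j + 1) := by
    have hh0 : (h : ℚ) ≠ 0 := by exact_mod_cast (show h ≠ 0 by omega)
    have f1 : ((h : ℚ) + 1) ^ 2 / B = -((Q : ℚ) + 1) / (2 * (2 * j + 1)) := by
      have h1 : (h : ℚ) + 1 ≠ 0 := by intro e; apply hQ1; rw [hQc]; linear_combination 2 * e
      rw [hBj, hQc, show (2 : ℚ) * h + 1 + 1 = 2 * (h + 1) by ring]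
      field_simp
      try ring
    have f2 : (h : ℚ) ^ 2 / (Q * C) = -((j : ℚ) ^ 2) / (h * A * (2 * j + 1)) := by
      rw [div_eq_div_iff (mul_ne_zero hQ0 hC') (mul_ne_zero (mul_ne_zero hh0 hA') ht)]
      linear_combination e1
    have f3 : (h : ℚ) ^ 2 / C = Q * ((h : ℚ) ^ 2 / (Q * C)) := by field_simp
    have f4 : -2 * (h : ℚ) ^ 2 * (Q + 1) / (Q * C) * (3 * Q - 1) / (Q + 1) =
        -2 * (3 * Q - 1) * ((h : ℚ) ^ 2 / (Q * C)) := by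
      field_simp
    rw [f1, f3, f4, f2] at p2
    field_simp at p2
    linear_combination -p2
  have hz : (Z : ℚ) = -A - B - C := by
    have h1 : (A : ℚ) + Z + B + C = 0 := by exact_mod_cast d2
    linarith
  have key : ((∑ i : Fin 6, sevenCoeff Q i * (2 * j + 1) ^ (i : ℕ) : ℤ) : ℚ) = 0 := by
    simp only [Fin.sum_univ_six, sevenCoeff, Matrix.cons_val_zero, Matrix.cons_val_one, Matrix.cons_val]
    push_cast
    rw [hz, hBj, hAj, hQc] at e2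
    rw [hAj, hQc] at e1
    rw [hQc]
    norm_num
    linear_combination (16 * (2 * (h : ℚ) + 1) * (j : ℚ) ^ 2) * e2 +
      16 * (2 * (7 * (2 * (h : ℚ) + 1) - 2) * (j : ℚ) ^ 2 - 2 * h * (2 * h + 1) ^ 2 * (2 * j + 1) +
        h * (2 * h + 1 + 2 * (2 * h + 1 + 1) * j) * (2 * h + 1 + 1)) * e1
  exact quintic_ne_zero hQ (t := 2 * j + 1) (by omega) (by exact_mod_cast key)

end Cfsg.Agent.Char.ReeOrder
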