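import Cfsg.Agent.Lib.Char.ReeOrder.Rows
import Cfsg.Agent.Lib.Char.ReeOrder.ArithMain
import Cfsg.Agent.Lib.Char.ReeOrder.ArithAlt
import Cfsg.Agent.Lib.Char.ReeOrder.ArithSeven

/-!
# The three configurations
-/

set_option autoImplicit false
set_option linter.unusedSectionVars false
set_option linter.unusedSimpArgs false
set_option maxHeartbeats 1000000

namespace Cfsg.Agent.Char.ReeOrder

universe u

variable {ι : Type u} [Fintype ι] [DecidableEq ι]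

set_option synthInstance.maxSize 1000 in
theorem two_options : ∀ e2 ∈ Finset.Icc (-1 : ℤ) 1, ∀ e3 ∈ Finset.Icc (-1 : ℤ) 1, ∀ e4 ∈ Finset.Icc (-1 : ℤ) 1,
    ∀ e5 ∈ Finset.Icc (-1 : ℤ) 1, ∀ e6 ∈ Finset.Icc (-1 : ℤ) 1, ∀ e7 ∈ Finset.Icc (-1 : ℤ) 1,
    ∀ e8 ∈ Finset.Icc (-1 : ℤ) 1, e2 + e3 + e4 = 0 → e3 + e4 + e5 + e6 = 1 → e3 + e4 + e7 + e8 = 1 →
    e2 * e2 + e3 * e3 + e4 * e4 + e5 * e5 + e6 * e6 + e7 * e7 + e8 * e8 ≤ 2 →
    (e2 = -1 ∧ e3 + e4 = 1 ∧ (e3 = 0 ∨ e4 = 0)) ∨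
      (e2 = 0 ∧ e3 = 0 ∧ e4 = 0 ∧ e5 + e6 = 1 ∧ (e5 = 0 ∨ e6 = 0) ∧ e7 + e8 = 1 ∧ (e7 = 0 ∨ e8 = 0)) := by
  decide +kernel

set_option synthInstance.maxSize 1000 in
theorem seven_options : ∀ a ∈ Finset.Icc (-1 : ℤ) 1, ∀ b ∈ Finset.Icc (-1 : ℤ) 1, ∀ b' ∈ Finset.Icc (-1 : ℤ) 1,
    ∀ z ∈ Finset.Icc (-1 : ℤ) 1, ∀ c ∈ Finset.Icc (-1 : ℤ) 1, ∀ c' ∈ Finset.Icc (-1 : ℤ) 1,
    a + b + b' = 0 → a + b + z + c = 1 → a + b' + z + c' = 1 →
    a * a + b * b + b' * b' + z * z + c * c + c' * c' ≤ 2 →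
    (a = 0 ∧ b = 0 ∧ b' = 0 ∧ z = 1 ∧ c = 0 ∧ c' = 0) ∨ (a = 0 ∧ b = 0 ∧ b' = 0 ∧ z = 0 ∧ c = 1 ∧ c' = 1) := by
  decide +kernel

theorem signed_term {s v w : ℤ} (hs : s = 1 ∨ s = -1) (hv : v = s * w) (d : ℕ) :
    (s : ℚ) * (v : ℚ) ^ 2 / (d : ℚ) = (w : ℚ) ^ 2 / ((s * d : ℤ) : ℚ) := by
  subst hv
  rcases hs with rfl | rfl <;> simp [div_neg, neg_div]

namespace Rows

variable {Θ Zi : Type u} [Fintype Zi] (C : Rows ι Θ Zi)

theorem v_row {χ : ι} {k : Fin 3} (h : C.f k χ ≠ 0) (hz : ∀ i, C.z i χ = 0) :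
    C.v χ = C.f 0 χ + C.h * (C.f 1 χ + C.f 2 χ) := by
  rw [C.hv, C.yF k χ h, Finset.sum_eq_zero fun i _ => hz i]
  ring

theorem c_unit (θ : Θ) (χ : ι) : C.c θ χ = 0 ∨ C.c θ χ = 1 ∨ C.c θ χ = -1 := by
  have h : C.c θ χ ^ 2 ≤ 3 := C.cnorm θ ▸ Lead.GLTwoThree.sq_le_norm (C.c θ) χ
  have : -1 ≤ C.c θ χ ∧ C.c θ χ ≤ 1 := ⟨by nlinarith, by nlinarith⟩
  omega

theorem c_three {θ : Θ} {a b e : ι} (hab : a ≠ b) (hae : a ≠ e) (hbe : b ≠ e) (ha : C.c θ a ≠ 0)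
    (hb : C.c θ b ≠ 0) (he : C.c θ e ≠ 0) :
    (∀ χ, χ ≠ a → χ ≠ b → χ ≠ e → C.c θ χ = 0) ∧
      ∀ {M : Type} [CommRing M] (F : ι → M), ∑ χ, (C.c θ χ : M) * F χ =
        (C.c θ a : M) * F a + (C.c θ b : M) * F b + (C.c θ e : M) * F e := by
  have hz : ∀ χ, χ ≠ a → χ ≠ b → χ ≠ e → C.c θ χ = 0 := by
    intro χ h1 h2 h3
    by_contra h0
    have hle := Finset.sum_le_sum_of_subset_of_nonneg (Finset.subset_univ ({χ, a, b, e} : Finset ι))
      fun j _ _ => sq_nonneg (C.c θ j)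
    rw [C.cnorm, Finset.sum_insert (by simp [h1, h2, h3]), Finset.sum_insert (by simp [hab, hae]),
      Finset.sum_pair hbe] at hle
    rcases C.c_unit θ a with x | x | x <;> rcases C.c_unit θ b with y | y | y <;>
      rcases C.c_unit θ e with w | w | w <;> rcases C.c_unit θ χ with u | u | u <;> simp_all
  refine ⟨hz, fun {M} _ F => ?_⟩
  rw [← Finset.sum_subset (Finset.subset_univ ({a, b, e} : Finset ι)) fun χ _ hχ => ?_,
    Finset.sum_insert (by simp [hab, hae]), Finset.sum_pair hbe, add_assoc]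
  simp only [Finset.mem_insert, Finset.mem_singleton, not_or] at hχ
  rw [hz χ hχ.1 hχ.2.1 hχ.2.2, Int.cast_zero, zero_mul]

/-- `Ψ_θ` at three positions: the degree and the equation. -/
theorem psi_three {θ : Θ} {a b : ι} (hab : a ≠ b) (ha : C.c θ a ≠ 0) (hb : C.c θ b ≠ 0) {ka kb : Fin 3}
    (fa : C.f ka a ≠ 0) (fb : C.f kb b ≠ 0) :
    ∃ (E : ι) (k : ℤ), k ≠ 0 ∧ (∀ j, C.f j E = 0) ∧ (∀ i, C.z i E = 0) ∧
      (∀ χ, χ ≠ a → χ ≠ b → χ ≠ E → C.c θ χ = 0) ∧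
      C.c θ a * (C.d a : ℤ) + C.c θ b * (C.d b : ℤ) + k = 0 ∧
      (C.c θ a : ℚ) * (C.v a : ℚ) ^ 2 / C.d a + (C.c θ b : ℚ) * (C.v b : ℚ) ^ 2 / C.d b +
        ((C.Q : ℚ) - 1) ^ 2 / (k : ℚ) = 0 ∧
      C.kap * (8 * C.Q) / (C.Q + 1) = 8 * ((C.Q : ℚ) - 1) ^ 2 / (k : ℚ) := by
  obtain ⟨E, p, hp, hcE, -, hvE, hfE, hzE, -, hY⟩ := C.psi_E θ
  have hp0 : p ≠ 0 := by omega
  have hae : a ≠ E := fun e => fa (e ▸ hfE ka)
  have hbe : b ≠ E := fun e => fb (e ▸ hfE kb)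
  obtain ⟨hz, hsum⟩ := C.c_three hab hae hbe ha hb (by rw [hcE]; exact hp0)
  have hd := hsum (M := ℤ) (fun χ => (C.d χ : ℤ))
  simp only [Int.cast_id] at hd
  rw [C.cdeg, hcE] at hd
  have hq := hsum (M := ℚ) (fun χ => (C.v χ : ℚ) ^ 2 / C.d χ)
  simp only [← mul_div_assoc] at hq
  rw [C.eqC, hcE] at hq
  refine ⟨E, p * C.d E, mul_ne_zero hp0 (by have := C.dpos E; omega), hfE, hzE, hz, by linarith, ?_, hY⟩
  rw [hq]
  congr 1
  rw [signed_term hp (show C.v E = p * (1 - C.Q) by rw [hvE]; ring)]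
  push_cast; ring

theorem z_zero_of_c {θ : Θ} {a b : ι} {ka kb : Fin 3} (fa : C.f ka a ≠ 0) (fab : C.f ka b = 0)
    (hab : a ≠ b) (ha : C.c θ a ≠ 0) (hb : C.c θ b ≠ 0) (fb : C.f kb b ≠ 0) (i : Zi) : C.z i a = 0 := by
  by_contra h
  obtain ⟨E, k, -, hfE, -, hout, -⟩ := C.psi_three hab ha hb fa fb
  obtain ⟨χ', hne, -, -, hg⟩ := C.partner i h
  have h1 := hg (C.f ka) (C.zf i ka)
  have h2 := hg (C.c θ) (by rw [← C.cz θ i]; exact Finset.sum_congr rfl fun χ _ => mul_comm _ _)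
  by_cases e : χ' = b
  · rw [e, fab] at h1; exact fa h1.symm
  by_cases e' : χ' = E
  · rw [e', hfE] at h1; exact fa h1.symm
  rw [hout χ' hne e e'] at h2
  exact ha h2.symm

/-- `Ψ_θ` and `Ψ_φ` agree on the supports of the rows. -/
theorem c_eq (hgood : ∀ θ E, C.T θ 0 E ≠ 0 → C.c θ E ≠ 0 → ∀ χ, C.c θ χ ≠ 0 → χ ≠ E → ∃ k, C.f k χ ≠ 0)
    (θ φ : Θ) {χ : ι} {k : Fin 3} (hk : C.f k χ ≠ 0) : C.c θ χ = C.c φ χ := by
  rcases C.cc θ φ with e | ⟨h2, h1⟩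
  · rw [e]
  obtain ⟨E, p, hp, hcE, hTE, -, hfE, -, -, -⟩ := C.psi_E θ
  obtain ⟨E', p', hp', hcE', hTE', -, hfE', -, -, -⟩ := C.psi_E φ
  have g := hgood θ E (by rw [hTE]; omega) (by rw [hcE]; omega)
  have g' := hgood φ E' (by rw [hTE']; omega) (by rw [hcE']; omega)
  set r : ι → ℤ := fun χ => C.c θ χ - p * Lead.GLTwoThree.ind E χ
  set r' : ι → ℤ := fun χ => C.c φ χ - p' * Lead.GLTwoThree.ind E' χ
  have hr : ∀ ψ, r ψ ≠ 0 → ∃ j, C.f j ψ ≠ 0 := by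
    intro ψ hψ
    by_cases e : ψ = E
    · exact absurd (by simp [r, e, Lead.GLTwoThree.ind, hcE]) hψ
    · exact g ψ (by simpa [r, e, Lead.GLTwoThree.ind] using hψ) e
  have hr' : ∀ ψ, r' ψ ≠ 0 → ∃ j, C.f j ψ ≠ 0 := by
    intro ψ hψ
    by_cases e : ψ = E'
    · exact absurd (by simp [r', e, Lead.GLTwoThree.ind, hcE']) hψ
    · exact g' ψ (by simpa [r', e, Lead.GLTwoThree.ind] using hψ) e
  have z1 : r' E = 0 := by
    by_contra h
    obtain ⟨j, hj⟩ := hr' E h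
    exact hj (hfE j)
  have z2 : r E' = 0 := by
    by_contra h
    obtain ⟨j, hj⟩ := hr E' h
    exact hj (hfE' j)
  have hpp : p * p = 1 ∧ p' * p' = 1 := by rcases hp with rfl | rfl <;> rcases hp' with rfl | rfl <;> simp
  have n1 : ∑ ψ, r ψ ^ 2 = 2 := by
    have := Lead.GLTwoThree.strip (C.c θ) E
    rw [hcE, C.cnorm, pow_two p, hpp.1] at this
    simpa [r] using this
  have n2 : ∑ ψ, r' ψ ^ 2 = 2 := by
    have := Lead.GLTwoThree.strip (C.c φ) E'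
    rw [hcE', C.cnorm, pow_two p', hpp.2] at this
    simpa [r'] using this
  have cross : ∑ ψ, r ψ * r' ψ = 2 - if E = E' then p * p' else 0 := by
    have e : ∀ ψ, r ψ * r' ψ = C.c θ ψ * C.c φ ψ - Lead.GLTwoThree.ind E ψ * (p * r' ψ) -
        Lead.GLTwoThree.ind E' ψ * (p' * r ψ) -
        Lead.GLTwoThree.ind E ψ * (p * p' * Lead.GLTwoThree.ind E' ψ) := fun ψ => by simp only [r, r']; ring
    rw [Finset.sum_congr rfl fun ψ _ => e ψ]
    simp only [Finset.sum_sub_distrib, Lead.GLTwoThree.sum_ind_mul, h2, z1, z2, mul_zero, sub_zero]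
    simp only [Lead.GLTwoThree.ind]
    split_ifs <;> ring
  have hd : ∑ ψ, (r ψ - r' ψ) ^ 2 = 4 - 2 * (2 - if E = E' then p * p' else 0) := by
    rw [← cross, Finset.mul_sum, Finset.sum_congr rfl (g := fun ψ => r ψ ^ 2 + r' ψ ^ 2 - 2 * (r ψ * r' ψ))
      fun ψ _ => by ring, Finset.sum_sub_distrib, Finset.sum_add_distrib, n1, n2]
    norm_num
  have hEE : E ≠ E' := by
    intro e
    subst e
    rw [if_pos rfl] at hd
    have hr0 : ∀ ψ, r ψ * C.T φ 0 ψ = 0 := fun ψ => by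
      by_contra h0
      obtain ⟨j, hj⟩ := hr ψ (left_ne_zero_of_mul h0)
      exact hj (C.fT j φ ψ (right_ne_zero_of_mul h0))
    have hdot : ∑ ψ, C.c θ ψ * C.T φ 0 ψ = p * p' := by
      rw [Finset.sum_congr rfl (g := fun ψ => r ψ * C.T φ 0 ψ + Lead.GLTwoThree.ind E ψ * (p * C.T φ 0 ψ))
        fun ψ _ => by simp only [r]; ring, Finset.sum_add_distrib, Finset.sum_eq_zero fun ψ _ => hr0 ψ,
        Lead.GLTwoThree.sum_ind_mul, hTE', zero_add]
    rw [hdot] at h1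
    have : 0 ≤ ∑ ψ, (r ψ - r' ψ) ^ 2 := Finset.sum_nonneg fun ψ _ => sq_nonneg _
    rw [hd] at this
    rcases hp with rfl | rfl <;> rcases hp' with rfl | rfl <;> omega
  rw [if_neg hEE] at hd
  have hz := (Finset.sum_eq_zero_iff_of_nonneg fun ψ _ => sq_nonneg (r ψ - r' ψ)).1 (by rw [hd]; ring) χ
    (Finset.mem_univ _)
  have e1 : χ ≠ E := fun e => hk (e ▸ hfE k)
  have e2 : χ ≠ E' := fun e => hk (e ▸ hfE' k)
  have := sq_eq_zero_iff.1 hz
  simp [r, r', Lead.GLTwoThree.ind, e1, e2] at this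
  linarith

theorem h_mod : (C.h % 12 = 1 ∧ 13 ≤ C.h) ∨ (C.h % 12 = 9 ∧ C.h ≤ -15) := by
  have := C.hQh
  have := C.hQ
  have := C.hQ8
  have := C.hb
  have := C.hb6
  omega

theorem h_ne : C.h ≠ 0 := by
  have := C.hQh
  have := C.hQ
  omega

theorem h_succ_dvd {m : ℤ} (hm : (C.b : ℤ) ∣ m) : C.h + 1 ∣ 2 * m := by
  have := C.hQh
  have := C.hb
  have h2 : C.h + 1 = 2 * (C.b : ℤ) ∨ C.h + 1 = -(2 * (C.b : ℤ)) := by omega
  rcases h2 with e | e <;> rw [e]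
  · exact mul_dvd_mul_left 2 hm
  · exact Int.neg_dvd.2 (mul_dvd_mul_left 2 hm)

end Rows

namespace Coords

variable {Θ Zi : Type u} [Fintype Zi] (C : Coords ι Θ Zi)

/-- The conclusion about the order. -/
def Ree : Prop :=
  ∃ m : ℕ, 1 ≤ m ∧ C.Q.natAbs = 3 ^ (2 * m + 1) ∧
    C.g = (3 ^ (2 * m + 1)) ^ 3 * ((3 ^ (2 * m + 1)) ^ 3 + 1) * (3 ^ (2 * m + 1) - 1)

theorem v_o : C.v C.o = 1 := by
  rw [C.hv, C.fo0, C.fo1, C.fo2, C.yo, Finset.sum_eq_zero fun i _ => C.zo i]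
  ring

/-- The eight positions. -/
structure Two (C : Coords ι Θ Zi) (x2 x3 x4 x5 x6 x7 x8 : ι) : Prop where
  nd : [C.o, x2, x3, x4, x5, x6, x7, x8].Nodup
  a0 : C.A 0 = {C.o, x2, x3, x4}
  a1 : C.A 1 = {x3, x4, x5, x6}
  a2 : C.A 2 = {x3, x4, x7, x8}

theorem Two.swap34 {x2 x3 x4 x5 x6 x7 x8 : ι} (h : Two C x2 x3 x4 x5 x6 x7 x8) :
    Two C x2 x4 x3 x5 x6 x7 x8 := by
  refine ⟨?_, h.a0.trans (by ext; simp; tauto), h.a1.trans (by ext; simp; tauto), h.a2.trans (by ext; simp; tauto)⟩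
  have := h.nd
  simp only [List.nodup_cons, List.mem_cons, List.not_mem_nil, or_false, not_or, List.nodup_nil, and_true,
    not_false_eq_true, eq_comm] at this ⊢
  tauto

theorem Two.swap56 {x2 x3 x4 x5 x6 x7 x8 : ι} (h : Two C x2 x3 x4 x5 x6 x7 x8) :
    Two C x2 x3 x4 x6 x5 x7 x8 := by
  refine ⟨?_, h.a0, h.a1.trans (by ext; simp; tauto), h.a2⟩
  have := h.nd
  simp only [List.nodup_cons, List.mem_cons, List.not_mem_nil, or_false, not_or, List.nodup_nil, and_true,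
    not_false_eq_true, eq_comm] at this ⊢
  tauto

theorem Two.swap78 {x2 x3 x4 x5 x6 x7 x8 : ι} (h : Two C x2 x3 x4 x5 x6 x7 x8) :
    Two C x2 x3 x4 x5 x6 x8 x7 := by
  refine ⟨?_, h.a0, h.a1, h.a2.trans (by ext; simp; tauto)⟩
  have := h.nd
  simp only [List.nodup_cons, List.mem_cons, List.not_mem_nil, or_false, not_or, List.nodup_nil, and_true,
    not_false_eq_true, eq_comm] at this ⊢
  tauto

/-- What is known at the eight positions. -/
structure TwoFacts (C : Coords ι Θ Zi) (x2 x3 x4 x5 x6 x7 x8 : ι) : Prop where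
  pos : C.f 0 x2 ≠ 0 ∧ C.f 0 x3 ≠ 0 ∧ C.f 0 x4 ≠ 0 ∧ C.f 1 x5 ≠ 0 ∧ C.f 1 x6 ≠ 0 ∧ C.f 2 x7 ≠ 0 ∧ C.f 2 x8 ≠ 0
  trip : C.f 1 x3 = C.f 0 x3 ∧ C.f 2 x3 = C.f 0 x3 ∧ C.f 1 x4 = C.f 0 x4 ∧ C.f 2 x4 = C.f 0 x4
  r2 : C.f 1 x2 = 0 ∧ C.f 2 x2 = 0
  r5 : C.f 0 x5 = 0 ∧ C.f 2 x5 = 0
  r6 : C.f 0 x6 = 0 ∧ C.f 2 x6 = 0
  r7 : C.f 0 x7 = 0 ∧ C.f 1 x7 = 0
  r8 : C.f 0 x8 = 0 ∧ C.f 1 x8 = 0

theorem two_facts {x2 x3 x4 x5 x6 x7 x8 : ι} (P : Two C x2 x3 x4 x5 x6 x7 x8) :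
    TwoFacts C x2 x3 x4 x5 x6 x7 x8 := by
  have hne : ∀ {k χ}, χ ∈ C.A k → C.f k χ ≠ 0 := fun {k χ} h => C.mem_A.1 h
  have nd := P.nd
  simp only [List.nodup_cons, List.mem_cons, List.not_mem_nil, or_false, not_or, List.nodup_nil, and_true,
    not_false_eq_true] at nd
  have a3 : C.f 0 x3 ≠ 0 := hne (by rw [P.a0]; simp)
  have a4 : C.f 0 x4 ≠ 0 := hne (by rw [P.a0]; simp)
  refine ⟨⟨hne (by rw [P.a0]; simp), a3, a4, hne (by rw [P.a1]; simp), hne (by rw [P.a1]; simp),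
    hne (by rw [P.a2]; simp), hne (by rw [P.a2]; simp)⟩,
    ⟨C.f_eq a3 (hne (by rw [P.a1]; simp)), C.f_eq a3 (hne (by rw [P.a2]; simp)),
      C.f_eq a4 (hne (by rw [P.a1]; simp)), C.f_eq a4 (hne (by rw [P.a2]; simp))⟩, ?_, ?_, ?_, ?_, ?_⟩ <;>
  constructor <;>
  first
    | exact C.f_zero P.a0 (by tauto)
    | exact C.f_zero P.a1 (by tauto)
    | exact C.f_zero P.a2 (by tauto)

theorem two_sums {x2 x3 x4 x5 x6 x7 x8 : ι} (P : Two C x2 x3 x4 x5 x6 x7 x8) {M : Type} [CommRing M] (F : ι → M) :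
    (∑ χ, (C.f 0 χ : M) * F χ = F C.o + (C.f 0 x2 : M) * F x2 + (C.f 0 x3 : M) * F x3 + (C.f 0 x4 : M) * F x4) ∧
    (∑ χ, (C.f 1 χ : M) * F χ =
      (C.f 0 x3 : M) * F x3 + (C.f 0 x4 : M) * F x4 + (C.f 1 x5 : M) * F x5 + (C.f 1 x6 : M) * F x6) ∧
    (∑ χ, (C.f 2 χ : M) * F χ =
      (C.f 0 x3 : M) * F x3 + (C.f 0 x4 : M) * F x4 + (C.f 2 x7 : M) * F x7 + (C.f 2 x8 : M) * F x8) := by
  obtain ⟨-, ⟨t1, t2, t3, t4⟩, -⟩ := C.two_facts P
  have nd := P.nd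
  simp only [List.nodup_cons, List.mem_cons, List.not_mem_nil, or_false, not_or, List.nodup_nil, and_true,
    not_false_eq_true] at nd
  refine ⟨?_, ?_, ?_⟩
  · rw [sum_supp (by simp; tauto) (C.supp_A P.a0) F, C.fo0, Int.cast_one, one_mul]
  · rw [sum_supp (by simp; tauto) (C.supp_A P.a1) F, t1, t3]
  · rw [sum_supp (by simp; tauto) (C.supp_A P.a2) F, t2, t4]

theorem two_deg {x2 x3 x4 x5 x6 x7 x8 : ι} (P : Two C x2 x3 x4 x5 x6 x7 x8) :
    (1 + C.f 0 x2 * C.d x2 + C.f 0 x3 * C.d x3 + C.f 0 x4 * C.d x4 = 0) ∧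
    (C.f 0 x3 * C.d x3 + C.f 0 x4 * C.d x4 + C.f 1 x5 * C.d x5 + C.f 1 x6 * C.d x6 = 0) ∧
    (C.f 0 x3 * C.d x3 + C.f 0 x4 * C.d x4 + C.f 2 x7 * C.d x7 + C.f 2 x8 * C.d x8 = 0) := by
  obtain ⟨h0, h1, h2⟩ := C.two_sums P (fun χ => (C.d χ : ℤ))
  simp only [Int.cast_id, C.fdeg, C.d_o, Nat.cast_one] at h0 h1 h2
  exact ⟨h0.symm, h1.symm, h2.symm⟩

theorem two_z2 {x2 x3 x4 x5 x6 x7 x8 : ι} (P : Two C x2 x3 x4 x5 x6 x7 x8) (i : Zi) : C.z i x2 = 0 := by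
  by_contra h
  obtain ⟨p2, -⟩ := (C.two_facts P).pos
  obtain ⟨r21, -⟩ := (C.two_facts P).r2
  obtain ⟨χ', hne, hz, -, hg⟩ := C.partner i h
  have g0 := hg (C.f 0) (C.zf i 0)
  have g1 := hg (C.f 1) (C.zf i 1)
  rw [r21] at g1
  rcases C.supp_A P.a0 χ' (g0 ▸ p2) with e | e | e | e
  · rw [e, C.zo] at hz; omega
  · exact hne e
  · rw [e, (C.two_facts P).trip.1] at g1; exact (C.two_facts P).pos.2.1 g1
  · rw [e, (C.two_facts P).trip.2.2.1] at g1; exact (C.two_facts P).pos.2.2.1 g1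

theorem two_v2 {x2 x3 x4 x5 x6 x7 x8 : ι} (P : Two C x2 x3 x4 x5 x6 x7 x8) : C.v x2 = C.f 0 x2 * 1 := by
  rw [C.v_row (C.two_facts P).pos.1 (C.two_z2 P), (C.two_facts P).r2.1, (C.two_facts P).r2.2]
  ring

/-- The first pairing. -/
theorem two_main {x2 x3 x4 x5 x6 x7 x8 : ι} (P : Two C x2 x3 x4 x5 x6 x7 x8) {θ : Θ}
    (h2 : C.c θ x2 = -C.f 0 x2) (h4 : C.c θ x4 = C.f 0 x4) : C.Ree := by
  obtain ⟨⟨p2, p3, p4, p5, p6, -, -⟩, ⟨t1, t2, t3, t4⟩, ⟨r21, r22⟩, ⟨r50, r52⟩, ⟨r60, r62⟩, -, -⟩ := C.two_facts P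
  have nd := P.nd
  simp only [List.nodup_cons, List.mem_cons, List.not_mem_nil, or_false, not_or, List.nodup_nil, and_true,
    not_false_eq_true] at nd
  have c2 : C.c θ x2 ≠ 0 := by rw [h2]; exact neg_ne_zero.2 p2
  have c4 : C.c θ x4 ≠ 0 := by rw [h4]; exact p4
  have h24 : x2 ≠ x4 := by tauto
  obtain ⟨E, k, hk0, -, -, -, hd, heq, hY⟩ := C.psi_three h24 c2 c4 p2 p4
  have z4 : ∀ i, C.z i x4 = 0 :=
    C.z_zero_of_c (a := x4) (b := x2) (ka := 1) (kb := 0) (by rw [t3]; exact p4) r21 h24.symm c4 c2 p2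
  have z3 : ∀ i, C.z i x3 = 0 := by
    intro i
    by_contra h
    obtain ⟨χ', hne, hz, -, hg⟩ := C.partner i h
    have g0 := hg (C.f 0) (C.zf i 0)
    have g1 := hg (C.f 1) (C.zf i 1)
    rw [t1] at g1
    rcases C.supp_A P.a0 χ' (g0 ▸ p3) with e | e | e | e
    · rw [e, C.zo] at hz; omega
    · rw [e, r21] at g1; exact p3 g1.symm
    · exact hne e
    · rw [e, z4] at hz; omega
  have v2 := C.two_v2 P
  have v3 : C.v x3 = C.f 0 x3 * C.Q := by rw [C.v_row p3 z3, t1, t2, C.hQh]; ring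
  have v4 : C.v x4 = C.f 0 x4 * C.Q := by rw [C.v_row p4 z4, t3, t4, C.hQh]; ring
  have s2 := (C.funit 0 x2).resolve_left p2
  have s3 := (C.funit 0 x3).resolve_left p3
  have s4 := (C.funit 0 x4).resolve_left p4
  have s5 := (C.funit 1 x5).resolve_left p5
  have s6 := (C.funit 1 x6).resolve_left p6
  obtain ⟨d1, d2, -⟩ := C.two_deg P
  set X2 := C.f 0 x2 * C.d x2 with hX2
  set X3 := C.f 0 x3 * C.d x3 with hX3
  set X4 := C.f 0 x4 * C.d x4 with hX4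
  set X5 := C.f 1 x5 * C.d x5 with hX5
  set X6 := C.f 1 x6 * C.d x6 with hX6
  have n : ∀ {s : ℤ} (χ : ι), s ≠ 0 → s * (C.d χ : ℤ) ≠ 0 :=
    fun χ hs => mul_ne_zero hs (by have := C.dpos χ; omega)
  have hk : k = X2 - X4 := by rw [h2, h4] at hd; linarith
  have n24 : X2 ≠ X4 := fun e => hk0 (by rw [hk, e, sub_self])
  have hψ : -1 / (X2 : ℚ) + (C.Q : ℚ) ^ 2 / X4 + (1 - (C.Q : ℚ)) ^ 2 / (X2 - X4) = 0 := by
    rw [h2, h4, Int.cast_neg, neg_mul, neg_div, signed_term s2 v2, signed_term s4 v4, ← hX2, ← hX4] at heq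
    rw [← heq, hk]; push_cast; ring
  have hY' : C.kap * (8 * C.Q) / (C.Q + 1) = 8 * ((C.Q : ℚ) - 1) ^ 2 / (X2 - X4) := by
    rw [hY, hk]; push_cast; rfl
  have p1 : 1 + 1 / (X2 : ℚ) + (C.Q : ℚ) ^ 2 / X3 + (C.Q : ℚ) ^ 2 / X4 = C.kap * (C.Q - 1) := by
    have h := (C.two_sums P (fun χ => (C.v χ : ℚ) ^ 2 / C.d χ)).1
    simp only [← mul_div_assoc, C.eqF0, signed_term s2 v2, signed_term s3 v3, signed_term s4 v4] at h
    simp only [← hX2, ← hX3, ← hX4] at h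
    rw [h, C.v_o, C.d_o]; norm_num
  have hF1 : (C.Q : ℚ) ^ 2 / X3 + (C.Q : ℚ) ^ 2 / X4 + (C.f 1 x5 : ℚ) * (C.v x5 : ℚ) ^ 2 / C.d x5 +
      (C.f 1 x6 : ℚ) * (C.v x6 : ℚ) ^ 2 / C.d x6 = C.kap * (3 * C.Q - 1) / (C.Q + 1) := by
    have h := (C.two_sums P (fun χ => (C.v χ : ℚ) ^ 2 / C.d χ)).2.1
    simp only [← mul_div_assoc, C.eqF1, signed_term s3 v3, signed_term s4 v4] at h
    exact h.symm
  have hpart : ∀ i, ∀ a b : ι, ((a = x5 ∧ b = x6) ∨ (a = x6 ∧ b = x5)) → C.z i a ≠ 0 →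
      C.z i b = -C.z i a ∧ C.f 1 b * (C.d b : ℤ) = C.f 1 a * (C.d a : ℤ) := by
    intro i a b hab h
    obtain ⟨χ', hne, hz, hdd, hg⟩ := C.partner i h
    have g0 := hg (C.f 0) (C.zf i 0)
    have g1 := hg (C.f 1) (C.zf i 1)
    have fa : C.f 1 a ≠ 0 ∧ C.f 0 a = 0 := by rcases hab with ⟨rfl, -⟩ | ⟨rfl, -⟩ <;> constructor <;> assumption
    rw [fa.2] at g0
    have : χ' = b := by
      rcases C.supp_A P.a1 χ' (g1 ▸ fa.1) with e | e | e | e
      · rw [e] at g0; exact absurd g0 p3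
      · rw [e] at g0; exact absurd g0 p4
      · rcases hab with ⟨ha, hb⟩ | ⟨ha, hb⟩
        · exact absurd (e.trans ha.symm) hne
        · exact e.trans hb.symm
      · rcases hab with ⟨ha, hb⟩ | ⟨ha, hb⟩
        · exact e.trans hb.symm
        · exact absurd (e.trans ha.symm) hne
    rw [← this]
    exact ⟨hz, by rw [g1, hdd]⟩
  by_cases h56 : X5 = X6
  · exfalso
    have hopp : ∀ i, C.z i x6 = -C.z i x5 := by
      intro i
      by_cases h : C.z i x5 = 0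
      · by_cases h' : C.z i x6 = 0
        · rw [h, h']; rfl
        · have := (hpart i x6 x5 (Or.inr ⟨rfl, rfl⟩) h').1
          omega
      · exact (hpart i x5 x6 (Or.inl ⟨rfl, rfl⟩) h).1
    have ef : C.f 1 x6 = C.f 1 x5 := by
      have e := h56
      rw [hX5, hX6] at e
      have := C.dpos x5
      have := C.dpos x6
      rcases s5 with a | a <;> rcases s6 with b | b <;> rw [a, b] at e ⊢ <;> omega
    set E5 := C.f 1 x5 * ((C.Q + 1) * ∑ i, C.z i x5)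
    have v5 : C.v x5 = C.f 1 x5 * (C.h + E5) := by
      have hss : C.f 1 x5 * C.f 1 x5 = 1 := by rcases s5 with a | a <;> rw [a] <;> norm_num
      rw [C.hv, C.yF 1 x5 p5, r50, r52]
      linear_combination (-((C.Q + 1) * ∑ i, C.z i x5)) * hss
    have v6 : C.v x6 = C.f 1 x6 * (C.h - E5) := by
      have hss : C.f 1 x5 * C.f 1 x5 = 1 := by rcases s5 with a | a <;> rw [a] <;> norm_num
      rw [C.hv, C.yF 1 x6 p6, r60, r62, Finset.sum_congr rfl fun i _ => hopp i, Finset.sum_neg_distrib, ef]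
      linear_combination ((C.Q + 1) * ∑ i, C.z i x5) * hss
    rw [signed_term s5 v5, signed_term s6 v6, ← hX5, ← hX6, ← h56] at hF1
    push_cast at hF1
    exact main_pair_false C.hQh C.hQ (n x2 p2) (n x3 p3) (n x4 p4) (n x5 p5) n24 d1 (by rw [← h56] at d2; exact d2)
      hψ hY' p1 (E := E5) hF1
  · have z5 : ∀ i, C.z i x5 = 0 := fun i => by
      by_contra h
      exact h56 (hpart i x5 x6 (Or.inl ⟨rfl, rfl⟩) h).2.symm
    have z6 : ∀ i, C.z i x6 = 0 := fun i => by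
      by_contra h
      exact h56 (hpart i x6 x5 (Or.inr ⟨rfl, rfl⟩) h).2
    have v5 : C.v x5 = C.f 1 x5 * C.h := by rw [C.v_row p5 z5, r50, r52]; ring
    have v6 : C.v x6 = C.f 1 x6 * C.h := by rw [C.v_row p6 z6, r60, r62]; ring
    rw [signed_term s5 v5, signed_term s6 v6] at hF1
    exact main_arith C.hQh C.hQ C.hpp (n x2 p2) (n x3 p3) (n x4 p4) (n x5 p5) (n x6 p6) n24 d1 d2 hψ hY' p1 hF1
      C.hg

theorem signed_dvd {s x y : ℤ} {n : ℤ} (hs : s = 1 ∨ s = -1) (h : n ∣ x - s * y) : n ∣ s * x - y := by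
  rcases hs with rfl | rfl
  · simpa using h
  · have := h.neg_right
    simpa [sub_eq_add_neg, add_comm] using this

/-- The second pairing. -/
theorem two_alt {x2 x3 x4 x5 x6 x7 x8 : ι} (P : Two C x2 x3 x4 x5 x6 x7 x8) {θ : Θ}
    (h5 : C.c θ x5 = C.f 1 x5) (h7 : C.c θ x7 = C.f 2 x7) (hc : ∀ φ, C.c φ x5 = C.f 1 x5) : False := by
  obtain ⟨⟨p2, p3, p4, p5, p6, p7, p8⟩, ⟨t1, t2, t3, t4⟩, -, ⟨r50, r52⟩, ⟨r60, r62⟩, ⟨r70, r71⟩, -⟩ := C.two_facts P
  have nd := P.nd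
  simp only [List.nodup_cons, List.mem_cons, List.not_mem_nil, or_false, not_or, List.nodup_nil, and_true,
    not_false_eq_true] at nd
  have c5 : C.c θ x5 ≠ 0 := by rw [h5]; exact p5
  have c7 : C.c θ x7 ≠ 0 := by rw [h7]; exact p7
  have h57 : x5 ≠ x7 := by tauto
  obtain ⟨E, k, hk0, -, -, -, hd, heq, hY⟩ := C.psi_three h57 c5 c7 p5 p7
  have z5 : ∀ i, C.z i x5 = 0 := C.z_zero_of_c (ka := 1) (kb := 2) p5 r71 h57 c5 c7 p7
  have z7 : ∀ i, C.z i x7 = 0 := C.z_zero_of_c (ka := 2) (kb := 1) p7 r52 h57.symm c7 c5 p5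
  have z6 : ∀ i, C.z i x6 = 0 := by
    intro i
    by_contra h
    obtain ⟨χ', hne, hz, -, hg⟩ := C.partner i h
    have g0 := hg (C.f 0) (C.zf i 0)
    have g1 := hg (C.f 1) (C.zf i 1)
    rw [r60] at g0
    rcases C.supp_A P.a1 χ' (g1 ▸ p6) with e | e | e | e
    · rw [e] at g0; exact p3 g0
    · rw [e] at g0; exact p4 g0
    · rw [e, z5] at hz; omega
    · exact hne e
  have v2 := C.two_v2 P
  have v5 : C.v x5 = C.f 1 x5 * C.h := by rw [C.v_row p5 z5, r50, r52]; ring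
  have v6 : C.v x6 = C.f 1 x6 * C.h := by rw [C.v_row p6 z6, r60, r62]; ring
  have v7 : C.v x7 = C.f 2 x7 * C.h := by rw [C.v_row p7 z7, r70, r71]; ring
  have s2 := (C.funit 0 x2).resolve_left p2
  have s5 := (C.funit 1 x5).resolve_left p5
  have s6 := (C.funit 1 x6).resolve_left p6
  have s7 := (C.funit 2 x7).resolve_left p7
  obtain ⟨d1, d2, d3⟩ := C.two_deg P
  set X2 := C.f 0 x2 * C.d x2 with hX2
  set X5 := C.f 1 x5 * C.d x5 with hX5
  set X6 := C.f 1 x6 * C.d x6 with hX6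
  set X7 := C.f 2 x7 * C.d x7 with hX7
  have n : ∀ {s : ℤ} (χ : ι), s ≠ 0 → s * (C.d χ : ℤ) ≠ 0 :=
    fun χ hs => mul_ne_zero hs (by have := C.dpos χ; omega)
  have n2 : X2 ≠ 0 := n x2 p2
  have n5 : X5 ≠ 0 := n x5 p5
  have n6 : X6 ≠ 0 := n x6 p6
  have n7 : X7 ≠ 0 := n x7 p7
  have hh := C.h_mod
  have hk : k = -(X5 + X7) := by rw [h5, h7] at hd; linarith
  have h57' : X5 + X7 ≠ 0 := fun e => hk0 (by rw [hk, e]; rfl)
  rw [h5, h7, signed_term s5 v5, signed_term s7 v7, ← hX5, ← hX7, hk] at heq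
  have hhq : (C.Q : ℚ) - 1 = 2 * C.h := by rw [C.hQh]; push_cast; ring
  have hw : X5 = X7 := by
    have h0 := three_term (a := (C.h : ℚ)) (b := C.h) (u := (X5 : ℚ)) (v := X7) (Int.cast_ne_zero.2 n5)
      (Int.cast_ne_zero.2 n7) (by exact_mod_cast h57') (by
        rw [← heq, hhq]; push_cast; rw [div_neg]; ring)
    exact_mod_cast (mul_left_cancel₀ (Int.cast_ne_zero.2 C.h_ne) h0 : (X5 : ℚ) = X7)
  have hu2 : X2 = X5 + X6 - 1 := by linarith
  have hQ0 : (C.Q : ℚ) ≠ 0 := Int.cast_ne_zero.2 (by have := C.hQ; omega)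
  have hh0 : (C.h : ℚ) ≠ 0 := Int.cast_ne_zero.2 C.h_ne
  have w0 : (X5 : ℚ) ≠ 0 := Int.cast_ne_zero.2 n5
  have y0 : (X6 : ℚ) ≠ 0 := Int.cast_ne_zero.2 n6
  have hK : C.kap = -(((C.Q : ℚ) + 1) * (C.Q - 1) ^ 2) / (2 * C.Q * X5) := by
    rw [hk, ← hw] at hY
    push_cast at hY
    have := C.qne
    field_simp at hY ⊢
    linear_combination hY
  have he : (X5 + X6) * X5 * X6 = C.h ^ 2 * (X5 + X6 - 1) * (X5 - (4 * C.h - 5) * X6) := by
    obtain ⟨a, b, -⟩ := C.two_sums P (fun χ => (C.v χ : ℚ) ^ 2 / C.d χ)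
    simp only [← mul_div_assoc, C.eqF0, signed_term s2 v2, C.v_o, C.d_o] at a
    simp only [← mul_div_assoc, C.eqF1, signed_term s5 v5, signed_term s6 v6] at b
    rw [← hX2, hu2] at a
    rw [← hX5, ← hX6] at b
    push_cast at a b
    have hd12 : C.kap * ((C.Q : ℚ) - 1) - C.kap * (3 * C.Q - 1) / (C.Q + 1) =
        1 + 1 / ((X5 : ℚ) + X6 - 1) - (C.h : ℚ) ^ 2 / X5 - (C.h : ℚ) ^ 2 / X6 := by
      rw [a, b]; ring
    have hu : (X5 : ℚ) + X6 - 1 ≠ 0 := by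
      exact_mod_cast (show X5 + X6 - 1 ≠ 0 by omega)
    have hQe : (C.Q : ℚ) = 2 * C.h + 1 := by linarith
    have hQ1 := C.qne
    rw [hK] at hd12
    rw [hQe] at hd12 hQ0 hQ1
    field_simp at hd12
    have : ((X5 : ℚ) + X6) * X5 * X6 = (C.h : ℚ) ^ 2 * (X5 + X6 - 1) * (X5 - (4 * C.h - 5) * X6) := by
      apply mul_left_cancel₀ (mul_ne_zero two_ne_zero hQ0)
      linear_combination -hd12
    exact_mod_cast this
  have hgw : (C.g : ℚ) = -2 * X5 * (C.Q.natAbs : ℚ) * C.Q ^ 2 * (C.Q + 1) := by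
    have h := C.hg
    have q1 : (C.Q : ℚ) - 1 ≠ 0 := by rw [hhq]; exact mul_ne_zero two_ne_zero hh0
    have := C.qne
    rw [hK] at h
    field_simp at h
    apply mul_left_cancel₀ (mul_ne_zero (C.qne) (pow_ne_zero 2 q1))
    linear_combination -h
  have hgwZ : (C.g : ℤ) = -2 * X5 * (C.Q.natAbs : ℤ) * C.Q ^ 2 * (C.Q + 1) := by
    have : ((C.g : ℤ) : ℚ) = ((-2 * X5 * (C.Q.natAbs : ℤ) * C.Q ^ 2 * (C.Q + 1) : ℤ) : ℚ) := by
      rw [Int.cast_natCast, hgw]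
      simp only [Int.cast_mul, Int.cast_pow, Int.cast_add, Int.cast_neg, Int.cast_ofNat, Int.cast_one, Int.cast_natCast]
    exact_mod_cast this
  have hqpos : 0 < (C.Q.natAbs : ℤ) := by have := C.hQ; omega
  have hsign : C.h * X5 < 0 := by
    have hg0 : (0 : ℤ) < C.g := by exact_mod_cast C.gpos
    rw [hgwZ] at hg0
    by_contra hcon
    have hQh := C.hQh
    have hp : 0 ≤ X5 * (C.Q + 1) := by
      rcases hh with ⟨-, hb⟩ | ⟨-, hb⟩
      · have : 0 ≤ X5 := nonneg_of_mul_nonneg_right (le_of_not_gt hcon) (by omega)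
        exact mul_nonneg this (by omega)
      · have : X5 ≤ 0 := by nlinarith
        exact mul_nonneg_of_nonpos_of_nonpos this (by omega)
    nlinarith [mul_nonneg (mul_nonneg hqpos.le (sq_nonneg C.Q)) hp]
  have hwh : C.h ∣ X5 := by
    have hdv : (C.Q.natAbs : ℤ) * (C.Q ^ 2 - 1) ∣ (C.g : ℤ) := by
      have h := Int.natCast_dvd_natCast.2 C.gdvd
      rw [Nat.cast_mul, Nat.cast_sub (Nat.one_le_pow _ _ (by omega)), Nat.cast_pow, Int.natAbs_pow_two] at h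
      exact h
    rw [hgwZ, show C.Q ^ 2 - 1 = (2 * C.h) * (C.Q + 1) by rw [C.hQh]; ring,
      show -2 * X5 * (C.Q.natAbs : ℤ) * C.Q ^ 2 * (C.Q + 1) = (C.Q.natAbs : ℤ) * ((-2 * X5 * C.Q ^ 2) * (C.Q + 1))
        by ring] at hdv
    have h1 := Int.dvd_of_mul_dvd_mul_right (by have := C.hQ; omega) (Int.dvd_of_mul_dvd_mul_left hqpos.ne' hdv)
    rw [show -2 * X5 * C.Q ^ 2 = 2 * (-(X5 * C.Q ^ 2)) by ring] at h1
    have h2 := Int.dvd_neg.1 (Int.dvd_of_mul_dvd_mul_left two_ne_zero h1)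
    exact IsCoprime.dvd_of_dvd_mul_right
      ((show IsCoprime C.h C.Q from ⟨-2, 1, by rw [C.hQh]; ring⟩).pow_right (n := 2)) h2
  have h8 : X5 % 8 = C.h % 8 := by
    have := C.cong8 x5
    rw [v5] at this
    have := signed_dvd s5 this
    rw [← hX5] at this
    omega
  have hb : C.h + 1 ∣ 2 * (X5 - 3) := by
    have h1 := C.congb x5 1 p5 (C.f 1 x5) hc
    rw [v5, sub_sub, show C.f 1 x5 * C.h + 4 * C.f 1 x5 = C.f 1 x5 * (C.h + 4) by ring] at h1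
    have h2 := C.h_succ_dvd (signed_dvd s5 h1)
    have e : 2 * (X5 - 3) = 2 * (C.f 1 x5 * C.d x5 - (C.h + 4)) + (C.h + 1) * 2 := by rw [hX5]; ring
    rw [e]
    exact dvd_add h2 (Dvd.intro _ rfl)
  exact alt_false hh n5 n6 (by omega) hwh hsign h8 hb he

/-- Eight positions give the order. -/
theorem two_end {x2 x3 x4 x5 x6 x7 x8 : ι} (P : Two C x2 x3 x4 x5 x6 x7 x8) : C.Ree := by
  obtain ⟨p2, p3, p4, p5, p6, p7, p8⟩ := (C.two_facts P).pos
  have hu : ∀ {k : Fin 3} {χ : ι}, C.f k χ ≠ 0 → C.f k χ * C.f k χ = 1 := fun {k χ} h => by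
    rcases (C.funit k χ).resolve_left h with e | e <;> rw [e] <;> norm_num
  have hmem : ∀ θ χ k, C.c θ χ * C.f k χ ∈ Finset.Icc (-1 : ℤ) 1 := fun θ χ k => by
    rcases C.c_unit θ χ with e | e | e <;> rcases C.funit k χ with e' | e' | e' <;> simp [e, e']
  have opts : ∀ θ, ((C.c θ x2 * C.f 0 x2 = -1 ∧ C.c θ x3 * C.f 0 x3 + C.c θ x4 * C.f 0 x4 = 1 ∧
      (C.c θ x3 * C.f 0 x3 = 0 ∨ C.c θ x4 * C.f 0 x4 = 0)) ∨
    (C.c θ x2 * C.f 0 x2 = 0 ∧ C.c θ x3 * C.f 0 x3 = 0 ∧ C.c θ x4 * C.f 0 x4 = 0 ∧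
      C.c θ x5 * C.f 1 x5 + C.c θ x6 * C.f 1 x6 = 1 ∧ (C.c θ x5 * C.f 1 x5 = 0 ∨ C.c θ x6 * C.f 1 x6 = 0) ∧
      C.c θ x7 * C.f 2 x7 + C.c θ x8 * C.f 2 x8 = 1 ∧ (C.c θ x7 * C.f 2 x7 = 0 ∨ C.c θ x8 * C.f 2 x8 = 0))) := by
    intro θ
    refine two_options _ (hmem θ x2 0) _ (hmem θ x3 0) _ (hmem θ x4 0) _ (hmem θ x5 1) _ (hmem θ x6 1) _
      (hmem θ x7 2) _ (hmem θ x8 2) ?_ ?_ ?_ ?_
    · have h := C.cf0 θ
      rw [Finset.sum_congr rfl fun χ _ => mul_comm _ _] at h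
      have := (C.two_sums P (C.c θ)).1
      simp only [Int.cast_id, h, C.co] at this
      linarith
    · have h := C.cf1 θ
      rw [Finset.sum_congr rfl fun χ _ => mul_comm _ _] at h
      have := (C.two_sums P (C.c θ)).2.1
      simp only [Int.cast_id, h] at this
      linarith
    · have h := C.cf2 θ
      rw [Finset.sum_congr rfl fun χ _ => mul_comm _ _] at h
      have := (C.two_sums P (C.c θ)).2.2
      simp only [Int.cast_id, h] at this
      linarith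
    · obtain ⟨E, p, hp, hcE, -, -, hfE, -, -, -⟩ := C.psi_E θ
      have nd := P.nd
      simp only [List.nodup_cons, List.mem_cons, List.not_mem_nil, or_false, not_or, List.nodup_nil, and_true,
        not_false_eq_true] at nd
      have hE : ∀ {k χ}, C.f k χ ≠ 0 → E ≠ χ := fun {k χ} h e => h (e ▸ hfE k)
      have hle := Finset.sum_le_sum_of_subset_of_nonneg
        (Finset.subset_univ [E, x2, x3, x4, x5, x6, x7, x8].toFinset) fun χ _ _ => sq_nonneg (C.c θ χ)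
      rw [C.cnorm, List.sum_toFinset _ (by
        simp only [List.nodup_cons, List.mem_cons, List.not_mem_nil, or_false, not_or, List.nodup_nil, and_true,
          not_false_eq_true]
        exact ⟨⟨hE p2, hE p3, hE p4, hE p5, hE p6, hE p7, hE p8⟩, nd.2⟩)] at hle
      simp only [List.map_cons, List.map_nil, List.sum_cons, List.sum_nil, hcE, add_zero] at hle
      have hp2 : p ^ 2 = 1 := by rcases hp with e | e <;> rw [e] <;> norm_num
      have sq : ∀ χ k, C.f k χ ≠ 0 → C.c θ χ * C.f k χ * (C.c θ χ * C.f k χ) = C.c θ χ ^ 2 := fun χ k hk => by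
        linear_combination C.c θ χ ^ 2 * hu hk
      rw [sq _ _ p2, sq _ _ p3, sq _ _ p4, sq _ _ p5, sq _ _ p6, sq _ _ p7, sq _ _ p8]
      linarith
  have conv : ∀ {θ χ k}, C.f k χ ≠ 0 → C.c θ χ * C.f k χ = 1 → C.c θ χ = C.f k χ := fun {θ χ k} hk e => by
    linear_combination C.f k χ * e - C.c θ χ * hu hk
  by_cases hm : ∃ θ, C.c θ x2 ≠ 0
  · obtain ⟨θ, hθ⟩ := hm
    rcases opts θ with ⟨e2, e34, e0⟩ | ⟨e2, -⟩
    swap
    · exact absurd ((mul_eq_zero.1 e2).resolve_right p2) hθ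
    have h2 : C.c θ x2 = -C.f 0 x2 := by linear_combination C.f 0 x2 * e2 - C.c θ x2 * hu p2
    rcases e0 with e0 | e0
    · exact C.two_main P h2 (conv p4 (by linarith))
    · exact C.two_main P.swap34 h2 (conv p3 (by linarith))
  · exfalso
    push Not at hm
    have hgood : ∀ θ E, C.T θ 0 E ≠ 0 → C.c θ E ≠ 0 → ∀ χ, C.c θ χ ≠ 0 → χ ≠ E → ∃ k, C.f k χ ≠ 0 := by
      intro θ E hT hcE χ hχ hne
      rcases opts θ with ⟨e2, -⟩ | ⟨-, -, -, e56, a56, e78, a78⟩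
      · rw [hm θ, zero_mul] at e2; norm_num at e2
      have hfE : ∀ k, C.f k E = 0 := fun k => C.fT k θ E hT
      obtain ⟨a, fa, ca, hfa⟩ : ∃ a, C.f 1 a ≠ 0 ∧ C.c θ a ≠ 0 ∧ C.f 2 a = 0 := by
        rcases a56 with e | e
        · exact ⟨x6, p6, fun h => by rw [h, zero_mul, e] at e56; norm_num at e56, (C.two_facts P).r6.2⟩
        · exact ⟨x5, p5, fun h => by rw [h, zero_mul, e] at e56; norm_num at e56, (C.two_facts P).r5.2⟩
      obtain ⟨b, fb, cb⟩ : ∃ b, C.f 2 b ≠ 0 ∧ C.c θ b ≠ 0 := by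
        rcases a78 with e | e
        · exact ⟨x8, p8, fun h => by rw [h, zero_mul, e] at e78; norm_num at e78⟩
        · exact ⟨x7, p7, fun h => by rw [h, zero_mul, e] at e78; norm_num at e78⟩
      have hab : a ≠ b := fun e => fb (e ▸ hfa)
      obtain ⟨hz, -⟩ := C.c_three hab (fun e => fa (e ▸ hfE 1)) (fun e => fb (e ▸ hfE 2)) ca cb hcE
      by_cases h1 : χ = a
      · exact ⟨1, h1 ▸ fa⟩
      by_cases h2 : χ = b
      · exact ⟨2, h2 ▸ fb⟩
      exact absurd (hz χ h1 h2 hne) hχ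
    rcases opts C.θ0 with ⟨e2, -⟩ | ⟨-, -, -, e56, a56, e78, a78⟩
    · rw [hm C.θ0, zero_mul] at e2; norm_num at e2
    have all5 : ∀ {x}, C.f 1 x ≠ 0 → C.c C.θ0 x = C.f 1 x → ∀ φ, C.c φ x = C.f 1 x := fun {x} hx e φ =>
      (C.c_eq hgood φ C.θ0 hx).trans e
    rcases a56 with e | e <;> rcases a78 with e' | e'
    · exact C.two_alt P.swap56.swap78 (conv p6 (by linarith)) (conv p8 (by linarith))
        (all5 p6 (conv p6 (by linarith)))
    · exact C.two_alt P.swap56 (conv p6 (by linarith)) (conv p7 (by linarith)) (all5 p6 (conv p6 (by linarith)))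
    · exact C.two_alt P.swap78 (conv p5 (by linarith)) (conv p8 (by linarith)) (all5 p5 (conv p5 (by linarith)))
    · exact C.two_alt P (conv p5 (by linarith)) (conv p7 (by linarith)) (all5 p5 (conv p5 (by linarith)))

set_option maxHeartbeats 8000000 in
/-- Seven positions are impossible. -/
theorem seven_end {a b b' z c c' : ι} (nd : [C.o, a, b, b', z, c, c'].Nodup) (A0 : C.A 0 = {C.o, a, b, b'})
    (A1 : C.A 1 = {a, b, z, c}) (A2 : C.A 2 = {a, b', z, c'}) : False := by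
  have hne : ∀ {k χ}, χ ∈ C.A k → C.f k χ ≠ 0 := fun {k χ} h => C.mem_A.1 h
  have nd' := nd
  simp only [List.nodup_cons, List.mem_cons, List.not_mem_nil, or_false, not_or, List.nodup_nil, and_true,
    not_false_eq_true] at nd'
  have pa : C.f 0 a ≠ 0 := hne (by rw [A0]; simp)
  have pb : C.f 0 b ≠ 0 := hne (by rw [A0]; simp)
  have pb' : C.f 0 b' ≠ 0 := hne (by rw [A0]; simp)
  have pz : C.f 1 z ≠ 0 := hne (by rw [A1]; simp)
  have pc : C.f 1 c ≠ 0 := hne (by rw [A1]; simp)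
  have pc' : C.f 2 c' ≠ 0 := hne (by rw [A2]; simp)
  have a1 : C.f 1 a = C.f 0 a := C.f_eq pa (hne (by rw [A1]; simp))
  have a2 : C.f 2 a = C.f 0 a := C.f_eq pa (hne (by rw [A2]; simp))
  have b1 : C.f 1 b = C.f 0 b := C.f_eq pb (hne (by rw [A1]; simp))
  have b'2 : C.f 2 b' = C.f 0 b' := C.f_eq pb' (hne (by rw [A2]; simp))
  have z2 : C.f 2 z = C.f 1 z := C.f_eq pz (hne (by rw [A2]; simp))
  have b2 : C.f 2 b = 0 := C.f_zero A2 (by tauto)
  have b'1 : C.f 1 b' = 0 := C.f_zero A1 (by tauto)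
  have z0 : C.f 0 z = 0 := C.f_zero A0 (by tauto)
  have c0 : C.f 0 c = 0 := C.f_zero A0 (by tauto)
  have c2 : C.f 2 c = 0 := C.f_zero A2 (by tauto)
  have c'0 : C.f 0 c' = 0 := C.f_zero A0 (by tauto)
  have c'1 : C.f 1 c' = 0 := C.f_zero A1 (by tauto)
  have hu : ∀ {k : Fin 3} {χ : ι}, C.f k χ ≠ 0 → C.f k χ * C.f k χ = 1 := fun {k χ} h => by
    rcases (C.funit k χ).resolve_left h with e | e <;> rw [e] <;> norm_num
  have hzero : ∀ i χ, χ = a ∨ χ = b ∨ χ = b' ∨ χ = z ∨ χ = c ∨ χ = c' → C.z i χ = 0 := by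
    intro i χ hχ
    by_contra h
    obtain ⟨χ', hne', hz, -, hg⟩ := C.partner i h
    have g0 := hg (C.f 0) (C.zf i 0)
    have g1 := hg (C.f 1) (C.zf i 1)
    have g2 := hg (C.f 2) (C.zf i 2)
    have ho : χ' ≠ C.o := fun e => by rw [e, C.zo] at hz; omega
    have hsome : C.f 0 χ' ≠ 0 ∨ C.f 1 χ' ≠ 0 ∨ C.f 2 χ' ≠ 0 := by
      rw [g0, g1, g2]
      rcases hχ with rfl | rfl | rfl | rfl | rfl | rfl
      exacts [Or.inl pa, Or.inl pb, Or.inl pb', Or.inr (Or.inl pz), Or.inr (Or.inl pc), Or.inr (Or.inr pc')]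
    have hin : χ' = a ∨ χ' = b ∨ χ' = b' ∨ χ' = z ∨ χ' = c ∨ χ' = c' := by
      rcases hsome with e | e | e
      · rcases C.supp_A A0 _ e with e | e | e | e <;> tauto
      · rcases C.supp_A A1 _ e with e | e | e | e <;> tauto
      · rcases C.supp_A A2 _ e with e | e | e | e <;> tauto
    rcases hin with rfl | rfl | rfl | rfl | rfl | rfl <;> rcases hχ with rfl | rfl | rfl | rfl | rfl | rfl <;>
      first
        | exact hne' rfl
        | (simp only [a1, a2, b1, b'2, z2, b2, b'1, z0, c0, c2, c'0, c'1] at g0 g1 g2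
           first
             | exact pa g0 | exact pa g0.symm | exact pb g0 | exact pb g0.symm | exact pb' g0 | exact pb' g0.symm
             | exact pz g1 | exact pz g1.symm | exact pc g1 | exact pc g1.symm | exact pc' g2 | exact pc' g2.symm
             | exact pa g1 | exact pa g1.symm | exact pa g2 | exact pa g2.symm | exact pb g1 | exact pb g1.symm
             | exact pb' g2 | exact pb' g2.symm | exact pz g2 | exact pz g2.symm)
  have va : C.v a = C.f 0 a * C.Q := by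
    rw [C.v_row pa (fun i => hzero i a (by tauto)), a1, a2, C.hQh]; ring
  have vb : C.v b = C.f 0 b * (C.h + 1) := by
    rw [C.v_row pb (fun i => hzero i b (by tauto)), b1, b2]; ring
  have vb' : C.v b' = C.f 0 b' * (C.h + 1) := by
    rw [C.v_row pb' (fun i => hzero i b' (by tauto)), b'1, b'2]; ring
  have vz : C.v z = C.f 1 z * (2 * C.h) := by
    rw [C.v_row pz (fun i => hzero i z (by tauto)), z0, z2]; ring
  have vc : C.v c = C.f 1 c * C.h := by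
    rw [C.v_row pc (fun i => hzero i c (by tauto)), c0, c2]; ring
  have vc' : C.v c' = C.f 2 c' * C.h := by
    rw [C.v_row pc' (fun i => hzero i c' (by tauto)), c'0, c'1]; ring
  have sums : ∀ {M : Type} [CommRing M] (F : ι → M),
      (∑ χ, (C.f 0 χ : M) * F χ = F C.o + (C.f 0 a : M) * F a + (C.f 0 b : M) * F b + (C.f 0 b' : M) * F b') ∧
      (∑ χ, (C.f 1 χ : M) * F χ =
        (C.f 0 a : M) * F a + (C.f 0 b : M) * F b + (C.f 1 z : M) * F z + (C.f 1 c : M) * F c) ∧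
      (∑ χ, (C.f 2 χ : M) * F χ =
        (C.f 0 a : M) * F a + (C.f 0 b' : M) * F b' + (C.f 1 z : M) * F z + (C.f 2 c' : M) * F c') := by
    intro M _ F
    refine ⟨?_, ?_, ?_⟩
    · rw [sum_supp (by simp; tauto) (C.supp_A A0) F, C.fo0, Int.cast_one, one_mul]
    · rw [sum_supp (by simp; tauto) (C.supp_A A1) F, a1, b1]
    · rw [sum_supp (by simp; tauto) (C.supp_A A2) F, a2, b'2, z2]
  have hmem : ∀ θ χ k, C.c θ χ * C.f k χ ∈ Finset.Icc (-1 : ℤ) 1 := fun θ χ k => by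
    rcases C.c_unit θ χ with e | e | e <;> rcases C.funit k χ with e' | e' | e' <;> simp [e, e']
  have opts : ∀ θ, (C.c θ a * C.f 0 a = 0 ∧ C.c θ b * C.f 0 b = 0 ∧ C.c θ b' * C.f 0 b' = 0 ∧
      C.c θ z * C.f 1 z = 1 ∧ C.c θ c * C.f 1 c = 0 ∧ C.c θ c' * C.f 2 c' = 0) ∨
    (C.c θ a * C.f 0 a = 0 ∧ C.c θ b * C.f 0 b = 0 ∧ C.c θ b' * C.f 0 b' = 0 ∧
      C.c θ z * C.f 1 z = 0 ∧ C.c θ c * C.f 1 c = 1 ∧ C.c θ c' * C.f 2 c' = 1) := by
    intro θ
    refine seven_options _ (hmem θ a 0) _ (hmem θ b 0) _ (hmem θ b' 0) _ (hmem θ z 1) _ (hmem θ c 1) _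
      (hmem θ c' 2) ?_ ?_ ?_ ?_
    · have h := C.cf0 θ
      rw [Finset.sum_congr rfl fun χ _ => mul_comm _ _] at h
      have := (sums (C.c θ)).1
      simp only [Int.cast_id, h, C.co] at this
      linarith
    · have h := C.cf1 θ
      rw [Finset.sum_congr rfl fun χ _ => mul_comm _ _] at h
      have := (sums (C.c θ)).2.1
      simp only [Int.cast_id, h] at this
      linarith
    · have h := C.cf2 θ
      rw [Finset.sum_congr rfl fun χ _ => mul_comm _ _] at h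
      have := (sums (C.c θ)).2.2
      simp only [Int.cast_id, h] at this
      linarith
    · obtain ⟨E, p, hp, hcE, -, -, hfE, -, -, -⟩ := C.psi_E θ
      have hE : ∀ {k χ}, C.f k χ ≠ 0 → E ≠ χ := fun {k χ} h e => h (e ▸ hfE k)
      have hle := Finset.sum_le_sum_of_subset_of_nonneg
        (Finset.subset_univ [E, a, b, b', z, c, c'].toFinset) fun χ _ _ => sq_nonneg (C.c θ χ)
      rw [C.cnorm, List.sum_toFinset _ (by
        simp only [List.nodup_cons, List.mem_cons, List.not_mem_nil, or_false, not_or, List.nodup_nil, and_true,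
          not_false_eq_true]
        exact ⟨⟨hE pa, hE pb, hE pb', hE pz, hE pc, hE pc'⟩, nd'.2⟩)] at hle
      simp only [List.map_cons, List.map_nil, List.sum_cons, List.sum_nil, hcE, add_zero] at hle
      have hp2 : p ^ 2 = 1 := by rcases hp with e | e <;> rw [e] <;> norm_num
      have sq : ∀ χ k, C.f k χ ≠ 0 → C.c θ χ * C.f k χ * (C.c θ χ * C.f k χ) = C.c θ χ ^ 2 := fun χ k hk => by
        linear_combination C.c θ χ ^ 2 * hu hk
      rw [sq _ _ pa, sq _ _ pb, sq _ _ pb', sq _ _ pz, sq _ _ pc, sq _ _ pc']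
      linarith
  have conv : ∀ {θ χ k}, C.f k χ ≠ 0 → C.c θ χ * C.f k χ = 1 → C.c θ χ = C.f k χ := fun {θ χ k} hk e => by
    linear_combination C.f k χ * e - C.c θ χ * hu hk
  have ca : ∀ θ, C.c θ a = 0 := fun θ => by
    rcases opts θ with ⟨e, -⟩ | ⟨e, -⟩ <;> exact (mul_eq_zero.1 e).resolve_right pa
  have sa := (C.funit 0 a).resolve_left pa
  have sb := (C.funit 0 b).resolve_left pb
  have sb' := (C.funit 0 b').resolve_left pb'
  have sz := (C.funit 1 z).resolve_left pz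
  have sc := (C.funit 1 c).resolve_left pc
  have sc' := (C.funit 2 c').resolve_left pc'
  have n : ∀ {s : ℤ} (χ : ι), s ≠ 0 → s * (C.d χ : ℤ) ≠ 0 :=
    fun χ hs => mul_ne_zero hs (by have := C.dpos χ; omega)
  have hh := C.h_mod
  have hhq : (C.Q : ℚ) - 1 = 2 * C.h := by rw [C.hQh]; push_cast; ring
  rcases opts C.θ0 with ⟨ea, eb, eb', ez, ec, ec'⟩ | ⟨-, -, -, -, ec, ec'⟩
  · obtain ⟨E, p, hp, hcE, hTE, hvE, hfE, hzE, hTsupp, -⟩ := C.psi_E C.θ0
    set θ := C.θ0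
    have hcz := conv pz ez
    have hEz : E ≠ z := fun e => pz (e ▸ hfE 1)
    obtain ⟨β, hβ, hβE, hβz⟩ : ∃ β, C.c θ β ≠ 0 ∧ β ≠ E ∧ β ≠ z := by
      by_contra! hcon
      have h3 := C.cnorm θ
      rw [← Finset.sum_subset (Finset.subset_univ ({E, z} : Finset ι)) fun χ _ hχ => ?_, Finset.sum_pair hEz,
        hcE, hcz] at h3
      · rcases hp with e | e <;> rcases sz with e' | e' <;> rw [e, e'] at h3 <;> norm_num at h3
      · simp only [Finset.mem_insert, Finset.mem_singleton, not_or] at hχ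
        by_contra h0
        exact hχ.2 (hcon χ (fun e => h0 (by rw [e]; rfl)) hχ.1)
    have fβ : ∀ k, C.f k β = 0 := by
      have hin : ∀ {x : ι} {k : Fin 3}, β = x → C.c θ x * C.f k x = 0 → C.f k x ≠ 0 → False := fun {x k} e e0 hx =>
        hβ (e ▸ (mul_eq_zero.1 e0).resolve_right hx)
      intro k
      by_contra h0
      fin_cases k
      · rcases C.supp_A A0 β h0 with e | e | e | e
        · exact hβ (e ▸ C.co θ)
        exacts [hin e ea pa, hin e eb pb, hin e eb' pb']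
      · rcases C.supp_A A1 β h0 with e | e | e | e
        exacts [hin e ea pa, hin e eb pb, hβz e, hin e ec pc]
      · rcases C.supp_A A2 β h0 with e | e | e | e
        exacts [hin e ea pa, hin e eb' pb', hβz e, hin e ec' pc']
    obtain ⟨hout, hsum⟩ := C.c_three (θ := θ) hβE hβz hEz hβ (by rw [hcE]; omega) (by rw [hcz]; exact pz)
    have hzβ : ∀ i, C.z i β = 0 := by
      intro i
      by_contra h
      obtain ⟨χ', hne', hz, -, hg⟩ := C.partner i h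
      have g1 := hg (C.f 1) (C.zf i 1)
      have gc := hg (C.c θ) (by rw [← C.cz θ i]; exact Finset.sum_congr rfl fun χ _ => mul_comm _ _)
      by_cases e : χ' = E
      · rw [e, hzE] at hz; omega
      by_cases e' : χ' = z
      · rw [e', fβ] at g1; exact pz g1
      rw [hout χ' hne' e e'] at gc
      exact hβ gc.symm
    have hyβ : C.yS β = 0 := by
      by_contra h
      obtain ⟨φ, hφ⟩ := C.ysup β h
      have hTθ : C.T θ 0 β = 0 := by
        by_contra h0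
        exact hβ (hTsupp β h0 hβE)
      rcases C.cTT θ φ with hsub | ⟨hdot, hdis⟩
      · exact hsub β hφ hTθ
      · have := hsum (M := ℤ) (C.T φ 0)
        simp only [Int.cast_id] at this
        rw [hdot, hdis E (by rw [hTE]; omega)] at this
        have hz0 : C.T φ 0 z = 0 := by
          by_contra h0
          exact pz (C.fT 1 φ z h0)
        rw [hz0] at this
        simp only [mul_zero, add_zero] at this
        exact mul_ne_zero hβ hφ this.symm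
    have vβ : C.v β = 0 := by
      rw [C.hv, fβ, fβ, fβ, hyβ, Finset.sum_eq_zero fun i _ => hzβ i]; ring
    have hd := hsum (M := ℤ) (fun χ => (C.d χ : ℤ))
    simp only [Int.cast_id] at hd
    rw [C.cdeg, hcE, hcz] at hd
    have hq := hsum (M := ℚ) (fun χ => (C.v χ : ℚ) ^ 2 / C.d χ)
    simp only [← mul_div_assoc] at hq
    rw [C.eqC, hcE, hcz, vβ, signed_term hp (show C.v E = p * (1 - C.Q) by rw [hvE]; ring),
      signed_term sz vz] at hq
    have hpE : ((p * C.d E : ℤ) : ℚ) ≠ 0 := Int.cast_ne_zero.2 (n E (by omega))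
    have hZ : ((C.f 1 z * C.d z : ℤ) : ℚ) ≠ 0 := Int.cast_ne_zero.2 (n z pz)
    generalize hk : p * (C.d E : ℤ) = k at hd hq hpE
    generalize hW : C.f 1 z * (C.d z : ℤ) = W at hd hq hZ
    push_cast at hq
    have hh0 : (C.h : ℚ) ≠ 0 := Int.cast_ne_zero.2 C.h_ne
    have hkW : k + W = 0 := by
      have : ((k : ℚ) + W) = 0 := by
        rw [show (1 : ℚ) - C.Q = -(2 * C.h) by linarith] at hq
        field_simp at hq
        apply mul_left_cancel₀ (mul_ne_zero four_ne_zero (pow_ne_zero 2 hh0))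
        linear_combination -hq
      exact_mod_cast this
    have hd0 : C.c θ β * (C.d β : ℤ) = 0 := by linarith only [hd, hkW]
    rcases mul_eq_zero.1 hd0 with e | e
    · exact hβ e
    · exact (C.dpos β).ne' (Int.natCast_eq_zero.1 e)
  · have hcc := conv pc ec
    have hcc' := conv pc' ec'
    have hne_cc : c ≠ c' := by tauto
    obtain ⟨E, k, hk0, -, -, -, hd, heq, hY⟩ :=
      C.psi_three hne_cc (by rw [hcc]; exact pc) (by rw [hcc']; exact pc') pc pc'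
    obtain ⟨d1, d2, d3⟩ := sums (fun χ => (C.d χ : ℤ))
    obtain ⟨q1, q2, -⟩ := sums (fun χ => (C.v χ : ℚ) ^ 2 / C.d χ)
    simp only [Int.cast_id, C.fdeg, C.d_o, Nat.cast_one] at d1 d2 d3
    simp only [← mul_div_assoc, C.eqF0, signed_term sa va, signed_term sb vb, signed_term sb' vb', C.v_o, C.d_o]
      at q1
    simp only [← mul_div_assoc, C.eqF1, signed_term sa va, signed_term sb vb, signed_term sz vz, signed_term sc vc]
      at q2
    rw [hcc, hcc'] at hd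
    rw [hcc, hcc', signed_term sc vc, signed_term sc' vc'] at heq
    set XA := C.f 0 a * C.d a with hXA
    set XB := C.f 0 b * C.d b with hXB
    set XB' := C.f 0 b' * C.d b' with hXB'
    set XZ := C.f 1 z * C.d z with hXZ
    set XC := C.f 1 c * C.d c with hXC
    set XC' := C.f 2 c' * C.d c' with hXC'
    have hk : k = -(XC + XC') := by linarith
    have hs : XC + XC' ≠ 0 := fun e => hk0 (by rw [hk, e]; rfl)
    rw [hk] at heq
    have hCC : XC = XC' := by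
      have h0 := three_term (a := (C.h : ℚ)) (b := C.h) (u := (XC : ℚ)) (v := XC') (Int.cast_ne_zero.2 (n c pc))
        (Int.cast_ne_zero.2 (n c' pc')) (by exact_mod_cast hs) (by
          rw [← heq, hhq]; push_cast; rw [div_neg]; ring)
      exact_mod_cast (mul_left_cancel₀ (Int.cast_ne_zero.2 C.h_ne) h0 : (XC : ℚ) = XC')
    have hBB : XB = XB' := by linarith
    have hA8 : (8 : ℤ) ∣ XA - C.Q := by
      have := C.cong8 a
      rw [va] at this
      exact signed_dvd sa this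
    have hAb : C.h + 1 ∣ 2 * (XA - C.Q) := by
      have := C.congb a 0 pa 0 ca
      rw [va, mul_zero, sub_zero] at this
      exact C.h_succ_dvd (signed_dvd sa this)
    push_cast at q1 q2
    refine seven_false (K := C.kap) (A := XA) (B := XB) (C := XC) (Z := XZ) C.hQh C.hQ C.hQ8 hA8 hAb (n a pa) (n b pb) (n c pc) (n z pz) (by linarith)
      (by linarith) ?_ ?_ ?_
    · rw [hY, hk, ← hCC]; push_cast; ring
    · rw [q1, ← hBB]; ring
    · rw [q2]; ring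

/-- The order. -/
theorem ree : C.Ree := by
  rcases C.shapes with ⟨x2, x3, x4, x5, x6, x7, x8, nd, h0, h1, h2⟩ | ⟨a, b, b', z, c, c', nd, h0, h1, h2⟩
  · exact C.two_end ⟨nd, h0, h1, h2⟩
  · exact (C.seven_end nd h0 h1 h2).elim

end Coords

end Cfsg.Agent.Char.ReeOrder
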