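import Mathlib
import Cfsg.Agent.Lib.Classical.Dickson.Tools
import Cfsg.Agent.Lib.Classical.SL2FourSylow

/-!
# The data of `PSL₂(q)`, `q ≡ 3, 5 (mod 8)`, used for the class functions

`a = (q - ε)/2` is the order of the torus of odd order, `b = (q + ε)/4` the odd part of the other one. Everything
about fusion is stored as the number of elements conjugating one element of a subgroup to another.
-/

set_option autoImplicit false

open scoped Classical

namespace Cfsg.Agent.Char.ReeOrder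

open Subgroup

universe u v

/-- What is used of `P ≅ PSL₂(q)`. -/
structure KD (P : Type u) [Group P] (F : Type v) [Field F] [Fintype F] where
  ε : ℤ
  a : ℕ
  b : ℕ
  A : Subgroup P
  B : Subgroup P
  s : P
  eU : Multiplicative F →* P
  hε : ε = 1 ∨ ε = -1
  q8 : Fintype.card F % 8 = 3 ∨ Fintype.card F % 8 = 5
  q5 : 5 < Fintype.card F
  ha : 2 * (a : ℤ) = Fintype.card F - ε
  hb : 4 * (b : ℤ) = Fintype.card F + ε
  a_odd : Odd a
  b_odd : Odd b
  card_P : 2 * Nat.card P = Fintype.card F * (Fintype.card F ^ 2 - 1)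
  eU_inj : Function.Injective eU
  card_A : Nat.card A = a
  card_B : Nat.card B = b
  A_comm : ∀ x ∈ A, ∀ y ∈ A, x * y = y * x
  B_comm : ∀ x ∈ B, ∀ y ∈ B, x * y = y * x
  B_s : ∀ x ∈ B, s * x = x * s
  hs : orderOf s = 2
  s_conj : ∀ x : P, orderOf x = 2 → IsConj s x
  card_cent : Nat.card (centralizer ({s} : Set P)) = 4 * b
  no_four : ∀ g : P, g ^ 4 = 1 → g ^ 2 = 1
  cntA : ∀ x ∈ A, x ≠ 1 → ∀ y ∈ A,
    Nat.card {g : P // g * x * g⁻¹ = y} = if y = x ∨ y = x⁻¹ then a else 0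
  cntB : ∀ x ∈ B, x ≠ 1 → ∀ y ∈ B,
    Nat.card {g : P // g * x * g⁻¹ = y} = if y = x ∨ y = x⁻¹ then 2 * b else 0
  cntU : ∀ x : F, x ≠ 0 → ∀ y : F,
    Nat.card {g : P // g * eU (Multiplicative.ofAdd x) * g⁻¹ = eU (Multiplicative.ofAdd y)} =
      if ∃ r : F, r ≠ 0 ∧ y = r ^ 2 * x then Fintype.card F else 0

namespace Psl

open Cfsg.Agent.Small Cfsg.Agent.Small.SL2C

variable {F : Type v} [Field F] [Fintype F]

local notation "SL2" => Matrix.SpecialLinearGroup (Fin 2) F
local notation "P2" => Matrix.ProjectiveSpecialLinearGroup (Fin 2) F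

theorem four_ne (h2 : (2 : F) ≠ 0) : (4 : F) ≠ 0 := by
  rw [show (4 : F) = 2 * 2 by norm_num]
  exact mul_ne_zero h2 h2

/-- The image of a torus. -/
noncomputable def torusP (g : SL2) : Subgroup P2 := (tor g).map PSL2.pr

theorem torusP_comm {g : SL2} (ht : g.1.trace * g.1.trace ≠ 4) {x y : P2} (hx : x ∈ torusP g) (hy : y ∈ torusP g) :
    x * y = y * x := by
  obtain ⟨X, hX, rfl⟩ := hx
  obtain ⟨Y, hY, rfl⟩ := hy
  rw [← map_mul, ← map_mul, tor_comm (not_isSc_of_trace ht) X hX Y hY]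

theorem card_torusP {g : SL2} (h2 : (2 : F) ≠ 0) (ht : g.1.trace * g.1.trace ≠ 4) :
    2 * Nat.card (torusP g) = sol g.1.trace 1 := by
  have h := Classical.Dickson.card_map_pr (Subgroup.center_le_centralizer ({g} : Set SL2))
  rw [show Nat.card (Subgroup.centralizer ({g} : Set SL2)) = _ from card_centralizer _ (not_isSc_of_trace ht),
    Classical.Dickson.two_dvd_pred h2] at h
  rw [torusP, h, mul_comm]

theorem torusP_cyclic {g : SL2} (ht : g.1.trace * g.1.trace ≠ 4) : IsCyclic (torusP g) := by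
  haveI := isCyclic_centralizer ht
  exact isCyclic_of_surjective (PSL2.pr.subgroupMap (tor g)) (MonoidHom.subgroupMap_surjective _ _)

theorem exists_invert {g : SL2} (ht : g.1.trace * g.1.trace ≠ 4) :
    ∃ w : P2, ∀ x ∈ torusP g, w * x * w⁻¹ = x⁻¹ := by
  obtain ⟨S, hS⟩ := exists_inverter ht
  refine ⟨PSL2.pr S, ?_⟩
  rintro _ ⟨X, hX, rfl⟩
  rw [mul_inv_eq_iff_eq_mul, ← map_inv, ← map_mul, ← map_mul, inverts (not_isSc_of_trace ht) hS hX]

theorem conj_cases {g : SL2} (ht : g.1.trace * g.1.trace ≠ 4) {h x : P2} (hx : x ∈ torusP g) (hx1 : x ≠ 1)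
    (hh : h * x * h⁻¹ ∈ torusP g) : h ∈ torusP g ∨ h * x * h⁻¹ = x⁻¹ := by
  obtain ⟨X, hX, rfl⟩ := hx
  obtain ⟨C, rfl⟩ := PSL2.pr_surjective h
  obtain ⟨Y, hY, e⟩ := hh
  rw [← map_inv, ← map_mul, ← map_mul] at e
  have hY' : C * X * C⁻¹ ∈ tor g := by
    have hc : Y⁻¹ * (C * X * C⁻¹) ∈ Subgroup.center SL2 := by
      rw [SL2C.mem_center_iff, ← pr_eq_one_iff, map_mul, map_inv, e, inv_mul_cancel]
    have := mul_mem hY (Subgroup.center_le_centralizer ({g} : Set SL2) hc)
    rwa [mul_inv_cancel_left] at this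
  have hns : ¬ IsSc X.1 := fun hs => hx1 (pr_eq_one_iff.2 hs)
  have hns' : ¬ IsSc (C * X * C⁻¹).1 := fun hs => hx1 (by
    have h1 := pr_eq_one_iff.2 hs
    rw [map_mul, map_mul, map_inv, mul_inv_eq_one, mul_eq_left] at h1
    exact h1)
  have e1 := (tor_eq ht hX hns).1
  have e2 := (tor_eq ht hY' hns').1
  have hm : C ∈ Subgroup.normalizer (tor g : Set SL2) := by
    have key : ∀ z, z ∈ tor X ↔ C * z * C⁻¹ ∈ tor (C * X * C⁻¹) := fun z => by
      rw [Subgroup.mem_centralizer_singleton_iff, Subgroup.mem_centralizer_singleton_iff]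
      constructor
      · intro hz
        rw [show C * z * C⁻¹ * (C * X * C⁻¹) = C * (z * X) * C⁻¹ by group, hz]
        group
      · intro hz
        rw [show C * z * C⁻¹ * (C * X * C⁻¹) = C * (z * X) * C⁻¹ by group,
          show C * X * C⁻¹ * (C * z * C⁻¹) = C * (X * z) * C⁻¹ by group] at hz
        exact mul_left_cancel (mul_right_cancel hz)
    rw [e1, e2] at key
    exact Subgroup.mem_normalizer_iff.2 key
  rcases normalizer_cases ht hm with hc | hc
  · exact Or.inl ⟨C, hc, rfl⟩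
  · right
    rw [← map_inv, ← map_mul, ← map_mul, ← map_inv]
    congr 1
    rw [mul_inv_eq_iff_eq_mul, inverts (not_isSc_of_trace ht) hc hX]

/-- The elements conjugating one element of a torus to another. -/
theorem card_conj_torus {g : SL2} (ht : g.1.trace * g.1.trace ≠ 4) {x y : P2} (hx : x ∈ torusP g)
    (hx2 : x ≠ x⁻¹) (hy : y ∈ torusP g) :
    Nat.card {h : P2 // h * x * h⁻¹ = y} =
      if y = x ∨ y = x⁻¹ then Nat.card (torusP g) else 0 := by
  have hx1 : x ≠ 1 := by rintro rfl; exact hx2 inv_one.symm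
  have hcent : ∀ h : P2, h * x * h⁻¹ = x ↔ h ∈ torusP g := fun h => by
    refine ⟨fun e => (conj_cases ht hx hx1 (by rw [e]; exact hx)).resolve_right fun e' => hx2 (e.symm.trans e'),
      fun hh => ?_⟩
    rw [torusP_comm ht hh hx, mul_inv_cancel_right]
  have shift : ∀ w : P2, w * x * w⁻¹ = y → Nat.card {h : P2 // h * x * h⁻¹ = y} = Nat.card (torusP g) := by
    intro w hw
    refine Nat.card_congr ((Equiv.mulLeft w⁻¹).subtypeEquiv fun h => ?_)
    show _ ↔ w⁻¹ * h ∈ torusP g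
    rw [← hcent, show w⁻¹ * h * x * (w⁻¹ * h)⁻¹ = w⁻¹ * (h * x * h⁻¹) * w by group]
    constructor
    · intro e; rw [e, ← hw]; group
    · intro e; rw [← hw]; conv_rhs => rw [← e]
      group
  split_ifs with hxy
  · rcases hxy with rfl | rfl
    · exact shift 1 (by group)
    · obtain ⟨w, hw⟩ := exists_invert ht
      exact shift w (hw x hx)
  · rw [Nat.card_eq_zero]
    refine Or.inl ⟨fun ⟨h, e⟩ => hxy ?_⟩
    rcases conj_cases ht hx hx1 (by rw [e]; exact hy) with hh | hh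
    · exact Or.inl (e.symm.trans ((hcent h).2 hh))
    · exact Or.inr (e.symm.trans hh)

theorem ne_inv_of_odd {T : Subgroup P2} (hodd : Odd (Nat.card T)) {x : P2} (hx : x ∈ T) (hx1 : x ≠ 1) : x ≠ x⁻¹ := by
  intro e
  have h2 : x ^ 2 = 1 := by rw [pow_two]; nth_rewrite 2 [e]; exact mul_inv_cancel x
  have ho := orderOf_dvd_of_pow_eq_one h2
  have hd : orderOf x ∣ Nat.card T := by
    rw [← Subgroup.orderOf_mk x hx]
    exact _root_.orderOf_dvd_natCard _
  rcases (Nat.dvd_prime Nat.prime_two).1 ho with h | h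
  · exact hx1 (orderOf_eq_one_iff.1 h)
  · rw [h] at hd
    exact (Nat.not_even_iff_odd.2 hodd) (even_iff_two_dvd.2 hd)

theorem card_conj_U {x : F} (hx : x ≠ 0) (y : F) :
    Nat.card {h : P2 // h * PSL2.uP (Multiplicative.ofAdd x) * h⁻¹ = PSL2.uP (Multiplicative.ofAdd y)} =
      if ∃ r : F, r ≠ 0 ∧ y = r ^ 2 * x then Fintype.card F else 0 := by
  have conj : ∀ (A : SL2) (z : F), A.1 1 0 = 0 →
      A * PSL2.uS z * A⁻¹ = PSL2.uS (A.1 0 0 ^ 2 * z) := by
    intro A z hA
    obtain ⟨a1, a2, a3, a4⟩ := Fusion.Dickson.inv_entries A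
    have hd := Fusion.Dickson.det_eq A
    rw [hA, mul_zero, sub_zero] at hd
    apply Fusion.Dickson.ext' <;>
      simp [Classical.Dickson.uS_eq_upU, Fusion.Dickson.mul_entry, a1, a2, a3, a4, hA]
    all_goals grind
  have hcentral : ∀ h : P2, h * PSL2.uP (Multiplicative.ofAdd x) * h⁻¹ = PSL2.uP (Multiplicative.ofAdd x) ↔
      h ∈ (PSL2.U : Subgroup P2) := by
    intro h
    refine ⟨fun e => PSL2.mem_U_of_commute hx (mul_inv_eq_iff_eq_mul.1 e), fun hh => ?_⟩
    obtain ⟨z, rfl⟩ := (PSL2.mem_U h).1 hh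
    show PSL2.uP (Multiplicative.ofAdd z) * _ * (PSL2.uP (Multiplicative.ofAdd z))⁻¹ = _
    rw [← map_mul, mul_comm (Multiplicative.ofAdd z), map_mul, mul_inv_cancel_right]
  have cardU : Nat.card (PSL2.U : Subgroup P2) = Fintype.card F := by
    rw [PSL2.U, ← Nat.card_congr (MonoidHom.ofInjective (f := PSL2.uP (F := F)) fun x y h =>
      Multiplicative.toAdd.injective (PSL2.pr_uS_inj h)).toEquiv, Nat.card_congr Multiplicative.toAdd,
      Nat.card_eq_fintype_card]
  split_ifs with hr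
  · obtain ⟨r, hr0, rfl⟩ := hr
    let D : SL2 := ⟨!![r, 0; 0, r⁻¹], by simp [Matrix.det_fin_two, hr0]⟩
    have hw : PSL2.pr D * PSL2.uP (Multiplicative.ofAdd x) * (PSL2.pr D)⁻¹ =
        PSL2.uP (Multiplicative.ofAdd (r ^ 2 * x)) := by
      show PSL2.pr D * PSL2.pr (PSL2.uS x) * (PSL2.pr D)⁻¹ = PSL2.pr (PSL2.uS (r ^ 2 * x))
      rw [← map_inv, ← map_mul, ← map_mul, conj D x (by simp [D])]
      simp [D]
    rw [← cardU]
    refine Nat.card_congr ((Equiv.mulLeft (PSL2.pr D)⁻¹).subtypeEquiv fun h => ?_)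
    show _ ↔ (PSL2.pr D)⁻¹ * h ∈ _
    rw [← hcentral, show (PSL2.pr D)⁻¹ * h * PSL2.uP (Multiplicative.ofAdd x) * ((PSL2.pr D)⁻¹ * h)⁻¹ =
      (PSL2.pr D)⁻¹ * (h * PSL2.uP (Multiplicative.ofAdd x) * h⁻¹) * PSL2.pr D by group]
    constructor
    · intro e; rw [e, ← hw]; group
    · intro e; rw [← hw]; conv_rhs => rw [← e]
      group
  · rw [Nat.card_eq_zero]
    refine Or.inl ⟨fun ⟨h, e⟩ => hr ?_⟩
    obtain ⟨A, rfl⟩ := PSL2.pr_surjective h
    change PSL2.pr A * PSL2.pr (PSL2.uS x) * (PSL2.pr A)⁻¹ = PSL2.pr (PSL2.uS y) at e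
    have h10 := PSL2.triangular_of_conj hx (mul_inv_eq_iff_eq_mul.1 e)
    rw [← map_inv, ← map_mul, ← map_mul, conj A x h10] at e
    refine ⟨A.1 0 0, fun h0 => ?_, (PSL2.pr_uS_inj e).symm⟩
    have hd := Fusion.Dickson.det_eq A
    rw [h10, h0] at hd
    simp at hd

theorem exists_kd_s (hq8 : Fintype.card F % 8 = 3 ∨ Fintype.card F % 8 = 5) (hq5 : 5 < Fintype.card F) :
    ∃ D : KD P2 F, D.s = PSL2.pr PSL2.wS := by
  classical
  have h2 : (2 : F) ≠ 0 := SL2C.not_two_dvd_iff.1 (by omega)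
  have hwt : (PSL2.wS : SL2).1.trace = 0 := by simp [Matrix.trace_fin_two]
  have hw : (PSL2.wS : SL2).1.trace * (PSL2.wS : SL2).1.trace ≠ 4 := by
    rw [hwt, mul_zero]; exact (four_ne h2).symm
  set q := Fintype.card F with hq
  obtain ⟨ε, a, b, hε, ha, hb, hao, hbo, hsolw, g, hg, hsolg⟩ : ∃ (ε : ℤ) (a b : ℕ), (ε = 1 ∨ ε = -1) ∧
      2 * (a : ℤ) = q - ε ∧ 4 * (b : ℤ) = q + ε ∧ Odd a ∧ Odd b ∧ sol (0 : F) 1 = 4 * b ∧
      ∃ g : SL2, g.1.trace * g.1.trace ≠ 4 ∧ sol g.1.trace 1 = 2 * a := by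
    have h00 : (0 : F) * 0 ≠ 4 := by rw [mul_zero]; exact (four_ne h2).symm
    rcases hq8 with h8 | h8
    · refine ⟨1, (q - 1) / 2, (q + 1) / 4, Or.inl rfl, by omega, by omega, Nat.odd_iff.2 (by omega),
        Nat.odd_iff.2 (by omega), ?_, ?_⟩
      · rcases sol_eq h00 with ⟨hr, -⟩ | ⟨-, hs⟩
        · have := (roots_zero_iff h2).1 hr; omega
        · omega
      · obtain ⟨c, hc, hc2⟩ := exists_sq_ne_one (F := F) (by omega)
        obtain ⟨ht, hr⟩ := exists_split hc hc2
        obtain ⟨g, hgt, -⟩ := comp_elt (c + c⁻¹)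
        refine ⟨g, hgt ▸ ht, ?_⟩
        rcases sol_eq ht with ⟨-, hs⟩ | ⟨hr', -⟩
        · rw [hgt, hs]; omega
        · omega
    · refine ⟨-1, (q + 1) / 2, (q - 1) / 4, Or.inr rfl, by omega, by omega, Nat.odd_iff.2 (by omega),
        Nat.odd_iff.2 (by omega), ?_, ?_⟩
      · have hr : roots (0 : F) 1 = 2 := (roots_zero_iff h2).2 (by omega)
        rcases sol_eq h00 with ⟨-, hs⟩ | ⟨hr', -⟩
        · omega
        · omega
      · obtain ⟨t, ht, hr⟩ := exists_roots_zero (F := F)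
        obtain ⟨g, hgt, -⟩ := comp_elt t
        refine ⟨g, hgt ▸ ht, ?_⟩
        rcases sol_eq ht with ⟨hr', -⟩ | ⟨-, hs⟩
        · omega
        · rw [hgt, hs]; omega
  have cA : Nat.card (torusP g) = a := by have := card_torusP h2 hg; omega
  have cW : Nat.card (torusP (PSL2.wS : SL2)) = 2 * b := by
    have := card_torusP h2 hw
    rw [hwt] at this
    omega
  haveI := torusP_cyclic hw
  obtain ⟨c, hc⟩ := IsCyclic.exists_ofOrder_eq_natCard (α := torusP (PSL2.wS : SL2))
  set B : Subgroup P2 := zpowers ((c : P2) ^ 2) with hBdef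
  have hBT : B ≤ torusP (PSL2.wS : SL2) := zpowers_le.2 (pow_mem c.2 2)
  have cB : Nat.card B = b := by
    rw [hBdef, Nat.card_zpowers, orderOf_pow_of_dvd two_ne_zero (by rw [Subgroup.orderOf_coe, hc, cW]; exact dvd_mul_right 2 b),
      Subgroup.orderOf_coe, hc, cW, Nat.mul_div_cancel_left _ two_pos]
  have hs : orderOf (PSL2.pr (PSL2.wS : SL2)) = 2 := by
    refine orderOf_eq_prime ?_ fun h => not_isSc_of_trace hw (pr_eq_one_iff.1 h)
    rw [pow_two, ← map_mul, pr_eq_one_iff]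
    refine ⟨-1, ?_⟩
    rw [val_mul', SL2C.sq_eq, hwt, zero_smul, zero_sub, neg_one_smul]
  refine ⟨{
    ε := ε, a := a, b := b, A := torusP g, B := B, s := PSL2.pr PSL2.wS, eU := PSL2.uP,
    hε := hε, q8 := hq8, q5 := hq5, ha := ha, hb := hb, a_odd := hao, b_odd := hbo
    card_P := ?_, eU_inj := fun x y h => Multiplicative.toAdd.injective (PSL2.pr_uS_inj h)
    card_A := cA, card_B := cB
    A_comm := fun x hx y hy => torusP_comm hg hx hy
    B_comm := fun x hx y hy => torusP_comm hw (hBT hx) (hBT hy)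
    B_s := fun x hx => torusP_comm hw ⟨_, self_mem_tor _, rfl⟩ (hBT hx)
    hs := hs, s_conj := fun x hx => Classical.SL2Four.involutions_conj h2 hs hx
    card_cent := ?_, no_four := ?_
    cntA := fun x hx hx1 y hy => by
      rw [card_conj_torus hg hx (ne_inv_of_odd (cA ▸ hao) hx hx1) hy, cA]
      congr 1
    cntB := fun x hx hx1 y hy => by
      rw [card_conj_torus hw (hBT hx) (ne_inv_of_odd (cB ▸ hbo) hx hx1) (hBT hy), cW]
      congr 1
    cntU := fun x hx y => card_conj_U hx y }, rfl⟩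
  · have h := Classical.Dickson.card_P2 (F := F)
    rw [Classical.Dickson.two_dvd_pred h2] at h
    omega
  · have h := card_centralizer_pr (PSL2.wS : SL2) (not_isSc_of_trace hw)
    rw [center_card_odd h2, hwt, if_pos ⟨h2, rfl⟩, hsolw] at h
    omega
  · intro x hx
    have h4 : orderOf x ∣ 2 ^ 2 := orderOf_dvd_of_pow_eq_one (by simpa using hx)
    obtain ⟨i, hi, e⟩ := (Nat.dvd_prime_pow Nat.prime_two).1 h4
    rcases (show i ≤ 1 ∨ i = 2 by omega) with h | rfl
    · exact orderOf_dvd_iff_pow_eq_one.1 (e ▸ (pow_dvd_pow 2 h).trans (by norm_num))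
    exfalso
    obtain ⟨p, hp⟩ := CharP.exists F
    haveI := Fact.mk (CharP.char_is_prime F p)
    obtain ⟨n, -, hn⟩ := FiniteField.card F p
    have hp4 : ¬ 4 ∣ p := fun h => by
      rcases (Nat.dvd_prime (CharP.char_is_prime F p)).1 h with h | h
      · norm_num at h
      · rw [← h] at hn
        have := (CharP.char_is_prime F p)
        rw [← h] at this
        norm_num at this
    rcases SL2C.orderOf_dvd p x with h | h | h <;> rw [e, show (2 : ℕ) ^ 2 = 4 by norm_num] at h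
    · exact hp4 h
    all_goals
      rw [Classical.Dickson.two_dvd_pred h2] at h
      omega

theorem exists_kd (hq8 : Fintype.card F % 8 = 3 ∨ Fintype.card F % 8 = 5) (hq5 : 5 < Fintype.card F) :
    Nonempty (KD P2 F) := by
  obtain ⟨D, -⟩ := exists_kd_s hq8 hq5
  exact ⟨D⟩

end Psl

/-- Transport along an isomorphism. -/
theorem exists_kd_map {P : Type u} [Group P] {F : Type v} [Field F] [Fintype F]
    (e : P ≃* Matrix.ProjectiveSpecialLinearGroup (Fin 2) F)
    (D : KD (Matrix.ProjectiveSpecialLinearGroup (Fin 2) F) F) : ∃ D' : KD P F, e D'.s = D.s := by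
  have hcong : ∀ (x y : P),
      Nat.card {g : P // g * x * g⁻¹ = y} = Nat.card {g // g * e x * g⁻¹ = e y} := fun x y =>
    Nat.card_congr (e.toEquiv.subtypeEquiv fun g => by
      show _ ↔ e g * e x * (e g)⁻¹ = e y
      rw [← map_inv, ← map_mul, ← map_mul, e.injective.eq_iff])
  have hmem : ∀ {S : Subgroup _} {x : P}, x ∈ S.comap e.toMonoidHom ↔ e x ∈ S := Iff.rfl
  refine ⟨{
    ε := D.ε, a := D.a, b := D.b, A := D.A.comap e.toMonoidHom, B := D.B.comap e.toMonoidHom
    s := e.symm D.s, eU := e.symm.toMonoidHom.comp D.eU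
    hε := D.hε, q8 := D.q8, q5 := D.q5, ha := D.ha, hb := D.hb, a_odd := D.a_odd, b_odd := D.b_odd
    card_P := by rw [Nat.card_congr e.toEquiv]; exact D.card_P
    eU_inj := e.symm.injective.comp D.eU_inj
    card_A := (Nat.card_congr (Equiv.subtypeEquiv e.toEquiv fun _ => Iff.rfl)).trans D.card_A
    card_B := (Nat.card_congr (Equiv.subtypeEquiv e.toEquiv fun _ => Iff.rfl)).trans D.card_B
    A_comm := fun x hx y hy => e.injective (by rw [map_mul, map_mul]; exact D.A_comm _ hx _ hy)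
    B_comm := fun x hx y hy => e.injective (by rw [map_mul, map_mul]; exact D.B_comm _ hx _ hy)
    B_s := fun x hx => e.injective (by rw [map_mul, map_mul, e.apply_symm_apply]; exact D.B_s _ hx)
    hs := by rw [MulEquiv.orderOf_eq, D.hs]
    s_conj := fun x hx => by
      obtain ⟨c, hc⟩ := isConj_iff.1 (D.s_conj (e x) (by rw [MulEquiv.orderOf_eq, hx]))
      exact isConj_iff.2 ⟨e.symm c, e.injective (by simpa using hc)⟩
    card_cent := by
      rw [← D.card_cent]
      refine Nat.card_congr (Equiv.subtypeEquiv e.toEquiv fun x => ?_)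
      rw [Subgroup.mem_centralizer_singleton_iff, Subgroup.mem_centralizer_singleton_iff]
      exact ⟨fun h => by simpa using congrArg e h, fun h => e.injective (by simpa using h)⟩
    no_four := fun g hg => e.injective (by
      rw [map_pow, map_one]
      exact D.no_four _ (by rw [← map_pow, hg, map_one]))
    cntA := fun x hx hx1 y hy => by
      rw [hcong, D.cntA (e x) hx (fun h => hx1 (e.injective (h.trans (map_one e).symm))) (e y) hy]
      simp [← map_inv, e.injective.eq_iff]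
    cntB := fun x hx hx1 y hy => by
      rw [hcong, D.cntB (e x) hx (fun h => hx1 (e.injective (h.trans (map_one e).symm))) (e y) hy]
      simp [← map_inv, e.injective.eq_iff]
    cntU := fun x hx y => by
      rw [hcong, ← D.cntU x hx y]
      simp }, e.apply_symm_apply _⟩

theorem exists_kd {P : Type u} [Group P] {F : Type v} [Field F] [Fintype F]
    (e : P ≃* Matrix.ProjectiveSpecialLinearGroup (Fin 2) F)
    (hq8 : Fintype.card F % 8 = 3 ∨ Fintype.card F % 8 = 5) (hq5 : 5 < Fintype.card F) :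
    Nonempty (KD P F) := by
  obtain ⟨D⟩ := Psl.exists_kd hq8 hq5
  obtain ⟨D', -⟩ := exists_kd_map e D
  exact ⟨D'⟩

end Cfsg.Agent.Char.ReeOrder
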