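import Cfsg.Agent.Lib.Char.ReeOrder.Setting
import Cfsg.Agent.Lib.Char.ReeOrder.KData
import Cfsg.Agent.Lib.Char.ReeThree.RTLocal

/-!
# The four group `V = ⟨t, s⟩`, the element `ρ` and the normaliser of `B`
-/

set_option autoImplicit false
set_option linter.unusedSectionVars false
set_option linter.style.haveILetI false

namespace Cfsg.Agent.Char.ReeOrder

open Subgroup Cfsg.Agent.Char.ReeThree

universe u v

theorem odd_sq_one {P : Type u} [Group P] {x : P} (ho : Odd (orderOf x)) (h : x * x = 1) : x = 1 := by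
  obtain ⟨k, hk⟩ := ho
  have := pow_orderOf_eq_one x
  rw [hk, pow_succ, pow_mul, pow_two, h, one_pow, one_mul] at this
  exact this

theorem sq_of_order_two {P : Type u} [Group P] {x : P} (h : orderOf x = 2) : x * x = 1 := by
  rw [← pow_two, ← h, pow_orderOf_eq_one]

/-- The homomorphism from the group of order two picking an element. -/
def invHom {G : Type u} [Group G] {g : G} (hg : g * g = 1) : ℤˣ →* G where
  toFun u := if u = 1 then 1 else g
  map_one' := if_pos rfl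
  map_mul' u v := by
    rcases Int.units_eq_one_or u with rfl | rfl <;> rcases Int.units_eq_one_or v with rfl | rfl <;> simp [hg]

theorem invHom_comm {G : Type u} [Group G] {g h : G} (hg : g * g = 1) (hh : h * h = 1) (hc : g * h = h * g)
    (a b : ℤˣ) : Commute (invHom hg a) (invHom hh b) := by
  rcases Int.units_eq_one_or a with rfl | rfl <;> rcases Int.units_eq_one_or b with rfl | rfl <;>
    simp [invHom, Commute.one_left, Commute.one_right]
  exact hc

/-- The local configuration. -/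
structure Ctx (G : Type u) [Group G] (F : Type v) [Field F] [Fintype F] where
  S : Split G
  D : KD S.K F
  hconj : ∀ x : G, orderOf x = 2 → IsConj S.t x
  hab : ∀ P : Sylow 2 G, ∀ a b : P, a * b = b * a
  loc : LocalClaim S

namespace Ctx

variable {G : Type u} [Group G] [Finite G] {F : Type v} [Field F] [Fintype F] (C : Ctx G F)

/-- The second involution. -/
abbrev s : G := (C.D.s : C.S.K)

/-- `B` in `G`. -/
abbrev emb : C.D.B →* G := C.S.K.subtype.comp C.D.B.subtype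

theorem emb_inj {x y : C.D.B} (h : C.emb x = C.emb y) : x = y := Subtype.ext (Subtype.ext h)

theorem hs : orderOf C.s = 2 := by rw [Subgroup.orderOf_coe, C.D.hs]

theorem sq_s : C.s * C.s = 1 := sq_of_order_two C.hs

theorem ts : C.S.t * C.s = C.s * C.S.t := (C.S.comm_t (SetLike.coe_mem _)).symm

theorem emb_t (x : C.D.B) : C.emb x * C.S.t = C.S.t * C.emb x := C.S.comm_t (SetLike.coe_mem _)

theorem emb_s (x : C.D.B) : C.s * C.emb x = C.emb x * C.s :=
  congrArg Subtype.val (C.D.B_s x x.2)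

theorem odd_B (x : C.D.B) : Odd (orderOf x) := by
  refine Odd.of_dvd_nat ?_ (_root_.orderOf_dvd_natCard x)
  rw [C.D.card_B]
  exact C.D.b_odd

theorem odd_emb (x : C.D.B) : Odd (orderOf (C.emb x)) := by
  rw [orderOf_injective C.emb (fun a b h => C.emb_inj h)]
  exact C.odd_B x

theorem ne_inv {x : C.D.B} (hx : x ≠ 1) : x ≠ x⁻¹ := fun e => hx (odd_sq_one (C.odd_B x) (by
  nth_rewrite 2 [e]; exact mul_inv_cancel x))

theorem s_not_B : C.D.s ∉ C.D.B := fun h => by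
  have := C.odd_B ⟨C.D.s, h⟩
  rw [Subgroup.orderOf_mk, C.D.hs] at this
  exact absurd this (by decide)

/-- The centraliser of `x ∈ B` in `K`. -/
theorem cent_K {x : C.D.B} (hx : x ≠ 1) {g : C.S.K} (hg : g * (x : C.S.K) * g⁻¹ = x) :
    g ∈ C.D.B ∨ ∃ y ∈ C.D.B, g = C.D.s * y := by
  let X := {g : C.S.K // g * (x : C.S.K) * g⁻¹ = x}
  have hcard : Nat.card X = 2 * C.D.b := by
    show Nat.card {g : C.S.K // g * (x : C.S.K) * g⁻¹ = x} = _
    rw [C.D.cntB x x.2 (fun e => hx (Subtype.ext e)) x x.2, if_pos (Or.inl rfl)]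
  let f : Bool × C.D.B → X := fun p => ⟨(if p.1 then C.D.s else 1) * p.2, by
    rw [mul_inv_eq_iff_eq_mul]
    cases p.1
    · simpa using C.D.B_comm _ p.2.2 _ x.2
    · simp only [if_true]
      rw [mul_assoc, C.D.B_comm _ p.2.2 _ x.2, ← mul_assoc, C.D.B_s _ x.2, mul_assoc]⟩
  have hinj : Function.Injective f := by
    rintro ⟨i, a⟩ ⟨j, b⟩ e
    have e' := congrArg Subtype.val e
    cases i <;> cases j <;> simp [f] at e'
    · exact Prod.ext rfl e'
    · exact absurd (by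
        have := mul_mem a.2 (inv_mem b.2); rwa [e', mul_inv_cancel_right] at this) C.s_not_B
    · exact absurd (by
        have := mul_mem b.2 (inv_mem a.2); rwa [← e', mul_inv_cancel_right] at this) C.s_not_B
    · exact Prod.ext rfl e'
  haveI : Finite X := Subtype.finite
  obtain ⟨p, hp⟩ := ((Nat.bijective_iff_injective_and_card f).2 ⟨hinj, by
    rw [Nat.card_prod, C.D.card_B, hcard, Nat.card_eq_fintype_card, Fintype.card_bool]⟩).2 ⟨g, hg⟩
  have e := congrArg Subtype.val hp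
  rcases hpb : p.1 with _ | _
  · exact Or.inl (by simp [f, hpb] at e; rw [← e]; exact p.2.2)
  · exact Or.inr ⟨p.2, p.2.2, by simp [f, hpb] at e; exact e.symm⟩

theorem nontrivialB : ∃ x : C.D.B, x ≠ 1 := by
  haveI : Nontrivial C.D.B := Finite.one_lt_card_iff_nontrivial.1 (by
    rw [C.D.card_B]
    have := C.D.hb
    have := C.D.q5
    have := C.D.q8
    rcases C.D.hε with h | h <;> omega)
  exact exists_ne 1

/-- An element of `K` inverting one `x ∈ B`. -/
theorem inv_props {x : C.D.B} (hx : x ≠ 1) {g : C.S.K} (hg : g * (x : C.S.K) * g⁻¹ = (x : C.S.K)⁻¹) :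
    g * g = 1 ∧ g * C.D.s = C.D.s * g := by
  have hne : g * (x : C.S.K) * g⁻¹ ≠ x := fun e => C.ne_inv hx (Subtype.ext (e.symm.trans hg))
  have h2 : g * g * (x : C.S.K) * (g * g)⁻¹ = x := by
    calc g * g * (x : C.S.K) * (g * g)⁻¹ = g * (g * (x : C.S.K) * g⁻¹) * g⁻¹ := by group
      _ = g * (x : C.S.K)⁻¹ * g⁻¹ := by rw [hg]
      _ = (g * (x : C.S.K) * g⁻¹)⁻¹ := by group
      _ = x := by rw [hg, inv_inv]
  -- the fourth power
  obtain ⟨y, hy, e4⟩ : ∃ y ∈ C.D.B, g * g * (g * g) = y := by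
    rcases C.cent_K hx h2 with h | ⟨y, hy, e⟩
    · exact ⟨_, mul_mem h h, rfl⟩
    · refine ⟨y * y, mul_mem hy hy, ?_⟩
      rw [e, show C.D.s * y * (C.D.s * y) = C.D.s * (y * C.D.s) * y by group, ← C.D.B_s y hy, ← mul_assoc C.D.s,
        sq_of_order_two C.D.hs, one_mul]
  have hy1 : y = 1 := by
    by_contra hy1
    rcases C.cent_K (x := ⟨y, hy⟩) (fun e => hy1 (congrArg Subtype.val e)) (g := g)
      (by show g * y * g⁻¹ = y; rw [← e4]; group) with h | ⟨y', hy', e⟩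
    · exact hne (by rw [C.D.B_comm g h x x.2, mul_inv_cancel_right])
    · apply hne
      rw [e, mul_assoc C.D.s, C.D.B_comm y' hy' x x.2, ← mul_assoc, C.D.B_s x x.2]
      group
  have hgg : g * g = 1 := by
    rw [← pow_two]
    refine C.D.no_four g ?_
    rw [hy1] at e4
    rw [← e4, show (4 : ℕ) = 2 + 2 from rfl, pow_add, pow_two]
  refine ⟨hgg, ?_⟩
  have hsx : g * C.D.s * g⁻¹ * (x : C.S.K) * (g * C.D.s * g⁻¹)⁻¹ = x := by
    calc g * C.D.s * g⁻¹ * (x : C.S.K) * (g * C.D.s * g⁻¹)⁻¹ =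
          g * (C.D.s * (g⁻¹ * (x : C.S.K) * g) * C.D.s⁻¹) * g⁻¹ := by group
      _ = g * (C.D.s * (x : C.S.K)⁻¹ * C.D.s⁻¹) * g⁻¹ := by
          rw [inv_eq_of_mul_eq_one_left hgg] at hg ⊢; rw [hg]
      _ = x := by
          rw [C.D.B_s _ (inv_mem x.2), mul_inv_cancel_right,
            show g * (x : C.S.K)⁻¹ * g⁻¹ = (g * (x : C.S.K) * g⁻¹)⁻¹ by group, hg, inv_inv]
  have hord : orderOf (g * C.D.s * g⁻¹) = 2 := by
    rw [show g * C.D.s * g⁻¹ = MulAut.conj g C.D.s from rfl, MulEquiv.orderOf_eq, C.D.hs]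
  rcases C.cent_K hx hsx with h | ⟨y', hy', e⟩
  · have ho := C.odd_B ⟨_, h⟩
    rw [Subgroup.orderOf_mk, hord] at ho
    exact absurd ho (by decide)
  · have h1 := sq_of_order_two hord
    rw [e, show C.D.s * y' * (C.D.s * y') = C.D.s * (y' * C.D.s) * y' by group, ← C.D.B_s y' hy', ← mul_assoc C.D.s,
      sq_of_order_two C.D.hs, one_mul] at h1
    have hy'1 : (⟨y', hy'⟩ : C.D.B) = 1 := odd_sq_one (C.odd_B _) (Subtype.ext h1)
    rw [show y' = 1 from congrArg Subtype.val hy'1, mul_one] at e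
    exact mul_inv_eq_iff_eq_mul.1 e

theorem exists_w : ∃ w : C.S.K, w * w = 1 ∧ w * C.D.s = C.D.s * w ∧
    (∀ x : C.D.B, w * (x : C.S.K) * w⁻¹ = (x : C.S.K)⁻¹) := by
  obtain ⟨x, hx⟩ := C.nontrivialB
  obtain ⟨⟨w, hw⟩⟩ : Nonempty {g : C.S.K // g * (x : C.S.K) * g⁻¹ = (x : C.S.K)⁻¹} := by
    refine (Nat.card_pos_iff.1 ?_).1
    rw [C.D.cntB x x.2 (fun e => hx (Subtype.ext e)) _ (inv_mem x.2), if_pos (Or.inr rfl)]
    have := C.D.b_odd.pos
    omega
  obtain ⟨hw2, hws⟩ := C.inv_props hx hw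
  refine ⟨w, hw2, hws, fun z => ?_⟩
  by_cases hz : z = 1
  · subst hz; simp
  -- `w z w⁻¹` is an element of `B`
  have hfix : w * (z : C.S.K) * w⁻¹ * (x : C.S.K) * (w * (z : C.S.K) * w⁻¹)⁻¹ = x := by
    calc w * (z : C.S.K) * w⁻¹ * (x : C.S.K) * (w * (z : C.S.K) * w⁻¹)⁻¹ =
          w * ((z : C.S.K) * (w⁻¹ * (x : C.S.K) * w) * (z : C.S.K)⁻¹) * w⁻¹ := by group
      _ = w * ((z : C.S.K) * (x : C.S.K)⁻¹ * (z : C.S.K)⁻¹) * w⁻¹ := by
          rw [inv_eq_of_mul_eq_one_left hw2] at hw ⊢; rw [hw]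
      _ = x := by
          rw [C.D.B_comm _ z.2 _ (inv_mem x.2), mul_inv_cancel_right,
            show w * (x : C.S.K)⁻¹ * w⁻¹ = (w * (x : C.S.K) * w⁻¹)⁻¹ by group, hw, inv_inv]
  have hordz : orderOf (w * (z : C.S.K) * w⁻¹) = orderOf z := by
    rw [show w * (z : C.S.K) * w⁻¹ = MulAut.conj w (z : C.S.K) from rfl, MulEquiv.orderOf_eq, Subgroup.orderOf_coe]
  have hB : w * (z : C.S.K) * w⁻¹ ∈ C.D.B := by
    rcases C.cent_K hx hfix with h | ⟨y, hy, e⟩
    · exact h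
    · exfalso
      have ho := C.odd_B z
      rw [← hordz, e] at ho
      have hc : Commute C.D.s y := C.D.B_s y hy
      obtain ⟨k, hk⟩ := ho
      have h1 := pow_orderOf_eq_one (C.D.s * y)
      rw [hk, hc.mul_pow, pow_succ, pow_mul, pow_two, sq_of_order_two C.D.hs, one_pow, one_mul] at h1
      exact C.s_not_B (by rw [eq_inv_of_mul_eq_one_left h1]; exact inv_mem (pow_mem hy _))
  have hcard := C.D.cntB z z.2 (fun e => hz (Subtype.ext e)) _ hB
  have hne : Nat.card {g : C.S.K // g * (z : C.S.K) * g⁻¹ = w * (z : C.S.K) * w⁻¹} ≠ 0 :=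
    (Nat.card_pos_iff.2 ⟨⟨⟨w, rfl⟩⟩, Subtype.finite⟩).ne'
  rw [hcard] at hne
  by_cases h : w * (z : C.S.K) * w⁻¹ = z ∨ w * (z : C.S.K) * w⁻¹ = (z : C.S.K)⁻¹
  · rcases h with h | h
    · exfalso
      rcases C.cent_K hz h with hm | ⟨y, hy, e⟩
      · rw [C.D.B_comm w hm x x.2, mul_inv_cancel_right] at hw
        exact C.ne_inv hx (Subtype.ext hw)
      · apply C.ne_inv hx
        apply Subtype.ext
        show (x : C.S.K) = (x : C.S.K)⁻¹
        rw [← hw, e, mul_assoc C.D.s, C.D.B_comm y hy x x.2, ← mul_assoc, C.D.B_s x x.2]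
        group
    · exact h
  · exact absurd (if_neg h) hne

/-- The involution inverting `B`. -/
noncomputable def w : C.S.K := C.exists_w.choose

theorem w_sq : C.w * C.w = 1 := C.exists_w.choose_spec.1

theorem w_s : C.w * C.D.s = C.D.s * C.w := C.exists_w.choose_spec.2.1

theorem w_inv (x : C.D.B) : C.w * (x : C.S.K) * C.w⁻¹ = (x : C.S.K)⁻¹ := C.exists_w.choose_spec.2.2 x

theorem w_emb (x : C.D.B) : (C.w : G) * C.emb x * (C.w : G)⁻¹ = (C.emb x)⁻¹ := congrArg Subtype.val (C.w_inv x)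

theorem w_not : C.w ∉ C.D.B ∧ ∀ y ∈ C.D.B, C.w ≠ C.D.s * y := by
  obtain ⟨x, hx⟩ := C.nontrivialB
  have hne : C.w * (x : C.S.K) * C.w⁻¹ ≠ x := fun e => C.ne_inv hx (Subtype.ext (e.symm.trans (C.w_inv x)))
  refine ⟨fun h => hne ?_, fun y hy e => hne ?_⟩
  · rw [C.D.B_comm _ h x x.2, mul_inv_cancel_right]
  · rw [e, mul_assoc C.D.s, C.D.B_comm y hy x x.2, ← mul_assoc, C.D.B_s x x.2]
    group

include C in
theorem two_comm {T : Subgroup G} (hT : IsPGroup 2 T) {x y : G} (hx : x ∈ T) (hy : y ∈ T) : x * y = y * x := by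
  haveI : Fact (Nat.Prime 2) := ⟨Nat.prime_two⟩
  obtain ⟨E, hE⟩ := hT.exists_le_sylow
  exact congrArg Subtype.val (C.hab E ⟨x, hE hx⟩ ⟨y, hE hy⟩)

theorem ord_ts {x : G} (hx : x ∈ C.S.K) (h2 : x * x = 1) : orderOf (C.S.t * x) = 2 := by
  refine orderOf_eq_prime ?_ fun e => C.S.not_both hx (e ▸ one_mem _)
  rw [pow_two, show C.S.t * x * (C.S.t * x) = C.S.t * (x * C.S.t) * x by group, C.S.comm_t hx,
    show C.S.t * (C.S.t * x) * x = (C.S.t * C.S.t) * (x * x) by group, C.S.sq_t, h2, one_mul]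

theorem conj_K_s {x : G} (hx : x ∈ C.S.K) (h2 : orderOf x = 2) :
    ∃ c : C.S.K, (c : G) * C.s * (c : G)⁻¹ = x := by
  obtain ⟨c, hc⟩ := isConj_iff.1 (C.D.s_conj ⟨x, hx⟩ (by rw [← Subgroup.orderOf_coe]; exact h2))
  exact ⟨c, congrArg Subtype.val hc⟩

/-- A three-cycle on `V`. -/
theorem exists_cycle : ∃ g : G, g * C.S.t * g⁻¹ = C.s ∧ g * C.s * g⁻¹ = C.S.t * C.s := by
  classical
  haveI : Fact (Nat.Prime 2) := ⟨Nat.prime_two⟩
  obtain ⟨g0, hg0⟩ := isConj_iff.1 (C.hconj C.s C.hs)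
  have hordK : orderOf (g0⁻¹ * C.S.t * g0) = 2 := by
    rw [show g0⁻¹ * C.S.t * g0 = MulAut.conj g0⁻¹ C.S.t by simp [MulAut.conj_apply], MulEquiv.orderOf_eq, C.S.ht]
  have hnK : g0⁻¹ * C.S.t * g0 ∉ C.S.K := by
    intro hK
    obtain ⟨c, hc'⟩ := C.conj_K_s hK hordK
    set g := g0 * c with hg
    have hgt : g * C.S.t * g⁻¹ = C.s := by
      rw [hg, show g0 * c * C.S.t * (g0 * c)⁻¹ = g0 * (c * C.S.t) * (c : G)⁻¹ * g0⁻¹ by group, C.S.comm_t c.2, ← hg0]
      group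
    have hgs : g * C.s * g⁻¹ = C.S.t := by
      calc g * C.s * g⁻¹ = g0 * ((c : G) * C.s * (c : G)⁻¹) * g0⁻¹ := by rw [hg]; group
        _ = C.S.t := by rw [hc']; group
    have hg2t : Commute (g * g) C.S.t := by
      show g * g * C.S.t = C.S.t * (g * g)
      calc g * g * C.S.t = g * (g * C.S.t * g⁻¹) * g⁻¹ * (g * g) := by group
        _ = _ := by rw [hgt, hgs]
    have hg2s : Commute (g * g) C.s := by
      show g * g * C.s = C.s * (g * g)
      calc g * g * C.s = g * (g * C.s * g⁻¹) * g⁻¹ * (g * g) := by group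
        _ = _ := by rw [hgs, hgt]
    obtain ⟨k, o, ho, hko⟩ := Nat.exists_eq_two_pow_mul_odd (orderOf_pos g).ne'
    obtain ⟨j, rfl⟩ := ho
    set x := g ^ (2 * j + 1) with hx
    have hxg : x = g * (g * g) ^ j := by rw [hx, pow_succ', pow_mul, pow_two]
    have hxt : x * C.S.t * x⁻¹ = C.s := by
      rw [hxg, show g * (g * g) ^ j * C.S.t * (g * (g * g) ^ j)⁻¹ =
        g * ((g * g) ^ j * C.S.t) * ((g * g) ^ j)⁻¹ * g⁻¹ by group, (hg2t.pow_left j).eq, ← hgt]
      group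
    have hxs : x * C.s * x⁻¹ = C.S.t := by
      rw [hxg, show g * (g * g) ^ j * C.s * (g * (g * g) ^ j)⁻¹ =
        g * ((g * g) ^ j * C.s) * ((g * g) ^ j)⁻¹ * g⁻¹ by group, (hg2s.pow_left j).eq, ← hgs]
      group
    let f : ℤˣ × ℤˣ →* G :=
      MonoidHom.noncommCoprod (invHom C.S.sq_t) (invHom C.sq_s) (invHom_comm C.S.sq_t C.sq_s C.ts)
    have htT : C.S.t ∈ f.range := ⟨(-1, 1), by simp [f, invHom]⟩
    have hsT : C.s ∈ f.range := ⟨(1, -1), by simp [f, invHom]⟩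
    set T := closure ({C.S.t, C.s} : Set G)
    have hT : IsPGroup 2 T := by
      have hfr : IsPGroup 2 f.range := fun y => ⟨1, by
        obtain ⟨_, p, rfl⟩ := y
        apply Subtype.ext
        show f p ^ 2 ^ 1 = 1
        rw [← map_pow, show p ^ 2 ^ 1 = 1 from Prod.ext (Int.units_sq _) (Int.units_sq _), map_one]⟩
      refine hfr.to_le ?_
      rw [closure_le]
      rintro y (rfl | rfl)
      exacts [htT, hsT]
    have hxN : zpowers x ≤ normalizer (T : Set G) := by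
      rw [zpowers_le, mem_normalizer_iff]
      have hmap : T.map (MulAut.conj x).toMonoidHom = T := by
        rw [MonoidHom.map_closure, Set.image_pair]
        show closure {x * C.S.t * x⁻¹, x * C.s * x⁻¹} = T
        rw [hxt, hxs, Set.pair_comm]
      intro y
      refine ⟨fun hy => hmap ▸ ⟨y, hy, rfl⟩, fun hy => ?_⟩
      rw [← hmap] at hy
      obtain ⟨z, hz, hzy⟩ := hy
      rwa [← (MulAut.conj x).injective hzy]
    have hxp : IsPGroup 2 (zpowers x) := by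
      obtain ⟨i, -, hi⟩ := (Nat.dvd_prime_pow Nat.prime_two).1
        (orderOf_dvd_of_pow_eq_one (x := x) (n := 2 ^ k) (by
          rw [hx, ← pow_mul, mul_comm, ← hko, pow_orderOf_eq_one]))
      exact IsPGroup.of_card (n := i) (by rw [Nat.card_zpowers, hi])
    have hsup : IsPGroup 2 (zpowers x ⊔ T : Subgroup G) := hxp.to_sup_of_normal_right' hT hxN
    have hcx := C.two_comm hsup (mem_sup_left (mem_zpowers x)) (mem_sup_right (subset_closure (Set.mem_insert _ _)))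
    rw [hcx, mul_inv_cancel_right] at hxt
    exact C.S.t_not_mem (by rw [show C.S.t = C.s from hxt]; exact SetLike.coe_mem _)
  have hC : g0⁻¹ * C.S.t * g0 ∈ C.S.C := by
    rw [C.S.mem_C]
    calc g0⁻¹ * C.S.t * g0 * C.S.t = g0⁻¹ * (C.S.t * (g0 * C.S.t * g0⁻¹)) * g0 := by group
      _ = g0⁻¹ * (g0 * C.S.t * g0⁻¹ * C.S.t) * g0 := by rw [hg0, C.ts]
      _ = C.S.t * (g0⁻¹ * C.S.t * g0) := by group
  have hK : C.S.t * (g0⁻¹ * C.S.t * g0) ∈ C.S.K := (C.S.split hC).resolve_left hnK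
  have hord : orderOf (C.S.t * (g0⁻¹ * C.S.t * g0)) = 2 := by
    have e : g0 * (C.S.t * (g0⁻¹ * C.S.t * g0)) * g0⁻¹ = C.s * C.S.t := by rw [← hg0]; group
    rw [← C.ord_ts (SetLike.coe_mem _) C.sq_s, C.ts, ← e,
      show g0 * (C.S.t * (g0⁻¹ * C.S.t * g0)) * g0⁻¹ = MulAut.conj g0 (C.S.t * (g0⁻¹ * C.S.t * g0)) from rfl,
      MulEquiv.orderOf_eq]
  obtain ⟨c, hc'⟩ := C.conj_K_s hK hord
  refine ⟨g0 * c, ?_, ?_⟩
  · rw [show g0 * c * C.S.t * (g0 * c)⁻¹ = g0 * (c * C.S.t) * (c : G)⁻¹ * g0⁻¹ by group, C.S.comm_t c.2, ← hg0]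
    group
  · calc g0 * c * C.s * (g0 * c)⁻¹ = g0 * ((c : G) * C.s * (c : G)⁻¹) * g0⁻¹ := by group
      _ = C.s * C.S.t := by rw [hc', ← hg0]; group
      _ = C.S.t * C.s := C.ts.symm

theorem exists_rho : ∃ r : G, Odd (orderOf r) ∧ r * C.S.t * r⁻¹ = C.s ∧ r * C.s * r⁻¹ = C.S.t * C.s := by
  obtain ⟨g, h1, h2⟩ := C.exists_cycle
  obtain ⟨k, o, ho, hko⟩ := Nat.exists_eq_two_pow_mul_odd (orderOf_pos g).ne'
  have h3 : g * (C.S.t * C.s) * g⁻¹ = C.S.t := by
    rw [show g * (C.S.t * C.s) * g⁻¹ = g * C.S.t * g⁻¹ * (g * C.s * g⁻¹) by group, h1, h2, ← mul_assoc, ← C.ts,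
      mul_assoc, C.sq_s, mul_one]
  have ht3 : Commute (g ^ 3) C.S.t := by
    show g ^ 3 * C.S.t = C.S.t * g ^ 3
    conv_rhs => rw [← h3, ← h2, ← h1]
    simp only [pow_succ, pow_zero, one_mul]
    group
  have hs3 : Commute (g ^ 3) C.s := by
    have e : g * (g * (g * C.s * g⁻¹) * g⁻¹) * g⁻¹ = C.s := by rw [h2, h3, h1]
    show g ^ 3 * C.s = C.s * g ^ 3
    conv_rhs => rw [← e]
    simp only [pow_succ, pow_zero, one_mul]
    group
  have h4 : ∀ n : ℕ, ∃ m, 4 ^ n = 3 * m + 1 := fun n => by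
    induction n with
    | zero => exact ⟨0, rfl⟩
    | succ n ih => obtain ⟨m, hm⟩ := ih; exact ⟨4 * m + 1, by rw [pow_succ, hm]; ring⟩
  obtain ⟨m, hm⟩ := h4 k
  refine ⟨g ^ (4 ^ k), ?_, ?_, ?_⟩
  · have hd : orderOf (g ^ (4 ^ k)) ∣ o := orderOf_dvd_of_pow_eq_one (by
      rw [← pow_mul]
      apply orderOf_dvd_iff_pow_eq_one.1
      rw [hko]
      exact mul_dvd_mul_right (pow_dvd_pow_of_dvd (show 2 ∣ 4 by norm_num) k) o)
    exact ho.of_dvd_nat hd
  · rw [hm, pow_succ', pow_mul,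
      show g * (g ^ 3) ^ m * C.S.t * (g * (g ^ 3) ^ m)⁻¹ = g * ((g ^ 3) ^ m * C.S.t) * ((g ^ 3) ^ m)⁻¹ * g⁻¹ by group,
      (ht3.pow_left m).eq]
    calc g * (C.S.t * (g ^ 3) ^ m) * ((g ^ 3) ^ m)⁻¹ * g⁻¹ = g * C.S.t * g⁻¹ := by group
      _ = C.s := h1
  · rw [hm, pow_succ', pow_mul,
      show g * (g ^ 3) ^ m * C.s * (g * (g ^ 3) ^ m)⁻¹ = g * ((g ^ 3) ^ m * C.s) * ((g ^ 3) ^ m)⁻¹ * g⁻¹ by group,
      (hs3.pow_left m).eq]
    calc g * (C.s * (g ^ 3) ^ m) * ((g ^ 3) ^ m)⁻¹ * g⁻¹ = g * C.s * g⁻¹ := by group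
      _ = C.S.t * C.s := h2

/-- The element permuting `V` cyclically. -/
noncomputable def rho : G := C.exists_rho.choose

theorem rho_odd : Odd (orderOf C.rho) := C.exists_rho.choose_spec.1

theorem rho_t : C.rho * C.S.t * C.rho⁻¹ = C.s := C.exists_rho.choose_spec.2.1

theorem rho_s : C.rho * C.s * C.rho⁻¹ = C.S.t * C.s := C.exists_rho.choose_spec.2.2

theorem rho_ts : C.rho * (C.S.t * C.s) * C.rho⁻¹ = C.S.t := by
  rw [show C.rho * (C.S.t * C.s) * C.rho⁻¹ = C.rho * C.S.t * C.rho⁻¹ * (C.rho * C.s * C.rho⁻¹) by group, C.rho_t,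
    C.rho_s, ← mul_assoc, ← C.ts, mul_assoc, C.sq_s, mul_one]

/-- An odd element commuting with `t` and `s` lies in `B`. -/
theorem odd_cent_V {g : G} (ho : Odd (orderOf g)) (ht : g * C.S.t = C.S.t * g) (hs : g * C.s = C.s * g) :
    ∃ y : C.D.B, C.emb y = g := by
  have hgC : g ∈ C.S.C := C.S.mem_C.2 ht
  have hgK : g ∈ C.S.K := by
    rcases C.S.split hgC with h | h
    · exact h
    exfalso
    have hc : Commute C.S.t g := ht.symm
    obtain ⟨k, hk⟩ := ho
    have h1 : (C.S.t * g) ^ orderOf g = C.S.t := by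
      rw [hc.mul_pow, pow_orderOf_eq_one, mul_one, hk, pow_succ, pow_mul, pow_two, C.S.sq_t, one_pow, one_mul]
    exact C.S.t_not_mem (h1 ▸ pow_mem h _)
  set k : C.S.K := ⟨g, hgK⟩
  obtain ⟨x, hx⟩ := C.nontrivialB
  let Cs := {g : C.S.K // g * C.D.s = C.D.s * g}
  let J := {g : C.S.K // g * (x : C.S.K) * g⁻¹ = x}
  let W := {g : C.S.K // g * (x : C.S.K) * g⁻¹ = (x : C.S.K)⁻¹}
  have hJ : ∀ j : J, j.1 * C.D.s = C.D.s * j.1 := fun j => by
    rcases C.cent_K hx j.2 with h | ⟨y, hy, e⟩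
    · exact (C.D.B_s _ h).symm
    · rw [e, mul_assoc, ← C.D.B_s y hy]
  let f : J ⊕ W → Cs := Sum.elim (fun j => ⟨j.1, hJ j⟩) (fun i => ⟨i.1, (C.inv_props hx i.2).2⟩)
  have hxx : (x : C.S.K) ≠ (x : C.S.K)⁻¹ := fun e => C.ne_inv hx (Subtype.ext e)
  have hf : Function.Injective f := by
    rintro (a | a) (c | c) e <;> have e' := congrArg Subtype.val e <;> simp only [f, Sum.elim_inl, Sum.elim_inr] at e'
    · exact congrArg Sum.inl (Subtype.ext e')
    · have h1 := a.2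
      rw [e', c.2] at h1
      exact absurd h1.symm hxx
    · have h1 := c.2
      rw [← e', a.2] at h1
      exact absurd h1.symm hxx
    · exact congrArg Sum.inr (Subtype.ext e')
  have hcard : Nat.card (J ⊕ W) = Nat.card Cs := by
    haveI : Finite J := Subtype.finite
    haveI : Finite W := Subtype.finite
    rw [Nat.card_sum]
    show Nat.card {g : C.S.K // g * (x : C.S.K) * g⁻¹ = x} +
      Nat.card {g : C.S.K // g * (x : C.S.K) * g⁻¹ = (x : C.S.K)⁻¹} = _
    rw [C.D.cntB x x.2 (fun e => hx (Subtype.ext e)) x x.2, if_pos (Or.inl rfl),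
      C.D.cntB x x.2 (fun e => hx (Subtype.ext e)) _ (inv_mem x.2), if_pos (Or.inr rfl),
      show 2 * C.D.b + 2 * C.D.b = 4 * C.D.b by ring, ← C.D.card_cent]
    exact Nat.card_congr (Equiv.subtypeEquivRight fun g => mem_centralizer_singleton_iff)
  haveI : Finite Cs := Subtype.finite
  haveI : Finite J := Subtype.finite
  haveI : Finite W := Subtype.finite
  obtain ⟨p, hp⟩ := ((Nat.bijective_iff_injective_and_card f).2 ⟨hf, hcard⟩).2 ⟨k, Subtype.ext hs⟩
  have hko : Odd (orderOf k) := by rw [Subgroup.orderOf_mk]; exact ho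
  rcases p with j | i <;> have e := congrArg Subtype.val hp <;> simp only [f, Sum.elim_inl, Sum.elim_inr] at e
  · rcases C.cent_K hx j.2 with h | ⟨y, hy, e'⟩
    · exact ⟨⟨j.1, h⟩, congrArg Subtype.val e⟩
    · exfalso
      rw [e] at e'
      rw [e'] at hko
      have hc : Commute C.D.s y := C.D.B_s y hy
      obtain ⟨n, hn⟩ := hko
      have h1 := pow_orderOf_eq_one (C.D.s * y)
      rw [hn, hc.mul_pow, pow_succ, pow_mul, pow_two, sq_of_order_two C.D.hs, one_pow, one_mul] at h1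
      exact C.s_not_B (by rw [eq_inv_of_mul_eq_one_left h1]; exact inv_mem (pow_mem hy _))
  · exfalso
    have h2 := (C.inv_props hx i.2).1
    rw [e] at h2
    have hi2 := i.2
    rw [e, odd_sq_one hko h2, one_mul, inv_one, mul_one] at hi2
    exact hxx hi2

theorem rho_norm (x : C.D.B) : ∃ y : C.D.B, C.emb y = C.rho * C.emb x * C.rho⁻¹ := by
  refine C.odd_cent_V ?_ ?_ ?_
  · rw [show C.rho * C.emb x * C.rho⁻¹ = MulAut.conj C.rho (C.emb x) from rfl, MulEquiv.orderOf_eq]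
    exact C.odd_emb x
  · have h : (C.S.t * C.s) * C.emb x = C.emb x * (C.S.t * C.s) := by
      rw [mul_assoc, C.emb_s, ← mul_assoc, ← C.emb_t, mul_assoc]
    rw [← C.rho_ts]
    calc C.rho * C.emb x * C.rho⁻¹ * (C.rho * (C.S.t * C.s) * C.rho⁻¹) =
          C.rho * (C.emb x * (C.S.t * C.s)) * C.rho⁻¹ := by group
      _ = C.rho * ((C.S.t * C.s) * C.emb x) * C.rho⁻¹ := by rw [h]
      _ = _ := by group
  · rw [← C.rho_t]
    calc C.rho * C.emb x * C.rho⁻¹ * (C.rho * C.S.t * C.rho⁻¹) =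
          C.rho * (C.emb x * C.S.t) * C.rho⁻¹ := by group
      _ = C.rho * (C.S.t * C.emb x) * C.rho⁻¹ := by rw [C.emb_t]
      _ = _ := by group

/-- The action of `ρ` on `B`. -/
noncomputable def act : C.D.B →* C.D.B where
  toFun x := (C.rho_norm x).choose
  map_one' := C.emb_inj (by rw [(C.rho_norm 1).choose_spec, map_one, mul_one, mul_inv_cancel])
  map_mul' a b := C.emb_inj (by
    rw [(C.rho_norm (a * b)).choose_spec, map_mul C.emb (C.rho_norm a).choose, (C.rho_norm a).choose_spec,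
      (C.rho_norm b).choose_spec, map_mul C.emb a b]
    group)

theorem emb_act (x : C.D.B) : C.emb (C.act x) = C.rho * C.emb x * C.rho⁻¹ := (C.rho_norm x).choose_spec

theorem act_three (x : C.D.B) : C.act (C.act (C.act x)) = x := by
  have h3t : C.rho ^ 3 * C.S.t = C.S.t * C.rho ^ 3 := by
    conv_rhs => rw [← C.rho_ts, ← C.rho_s, ← C.rho_t]
    simp only [pow_succ, pow_zero, one_mul]
    group
  have h3s : C.rho ^ 3 * C.s = C.s * C.rho ^ 3 := by
    have e : C.rho * (C.rho * (C.rho * C.s * C.rho⁻¹) * C.rho⁻¹) * C.rho⁻¹ = C.s := by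
      rw [C.rho_s, C.rho_ts, C.rho_t]
    conv_rhs => rw [← e]
    simp only [pow_succ, pow_zero, one_mul]
    group
  obtain ⟨y, hy⟩ := C.odd_cent_V (g := C.rho ^ 3) (C.rho_odd.of_dvd_nat (orderOf_pow_dvd 3)) h3t h3s
  apply C.emb_inj
  rw [C.emb_act, C.emb_act, C.emb_act]
  calc C.rho * (C.rho * (C.rho * C.emb x * C.rho⁻¹) * C.rho⁻¹) * C.rho⁻¹
      = C.rho ^ 3 * C.emb x * (C.rho ^ 3)⁻¹ := by simp only [pow_succ, pow_zero, one_mul]; group
    _ = C.emb x := by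
      rw [← hy, ← map_mul, ← map_inv, ← map_mul]
      congr 1
      rw [show y * x = x * y from Subtype.ext (C.D.B_comm y y.2 x x.2), mul_inv_cancel_right]

theorem act_fpf {x : C.D.B} (h : C.act x = x) : x = 1 := by
  by_contra hx
  have he : C.rho * C.emb x * C.rho⁻¹ = C.emb x := by rw [← C.emb_act, h]
  have hm : C.rho ∈ centralizer ({C.emb x} : Set G) :=
    mem_centralizer_singleton_iff.2 (mul_inv_eq_iff_eq_mul.1 he)
  have h1 := C.loc C.s (C.emb x) (SetLike.coe_mem _) (SetLike.coe_mem _) C.hs (C.emb_s x).symm (C.odd_emb x)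
    (fun e => hx (C.emb_inj (e.trans (map_one C.emb).symm))) hm
  have h2 := C.rho_t
  rw [mem_centralizer_singleton_iff.1 h1, mul_inv_cancel_right] at h2
  exact C.S.t_not_mem (by rw [h2]; exact SetLike.coe_mem _)

theorem act_ne_inv {x : C.D.B} (h : C.act x = x⁻¹) : x = 1 := by
  apply C.act_fpf
  have h3 := C.act_three x
  rw [h, map_inv, h, inv_inv] at h3
  exact h3

theorem act_bijective : Function.Bijective C.act :=
  ⟨fun a b h => by rw [← C.act_three a, ← C.act_three b, h], fun a => ⟨C.act (C.act a), C.act_three a⟩⟩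

end Ctx

end Cfsg.Agent.Char.ReeOrder
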