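import Cfsg.Agent.Lib.Char.ReeOrder.KValues
import Cfsg.Agent.Lib.Char.ReeOrder.Ctx

/-!
# Numbers of inverting involutions in `PSL₂(q)`
-/

set_option autoImplicit false
set_option linter.unusedSectionVars false
set_option linter.style.haveILetI false

open scoped Classical

namespace Cfsg.Agent.Char.ReeOrder

open Subgroup

universe u v

namespace KD

variable {P : Type u} [Group P] [Fintype P] {F : Type v} [Field F] [Fintype F] (D : KD P F)

theorem two_invol : 2 * (Nat.card {x : P // orderOf x = 2} : ℂ) = Fintype.card F * ((Fintype.card F : ℂ) - D.ε) := by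
  have e : Nat.card {x : P // orderOf x = 2} = (centralizer ({D.s} : Set P)).index := by
    rw [← Cfsg.Agent.Char.card_conjClass_eq_index D.s]
    refine Nat.card_congr (Equiv.subtypeEquivRight fun x => ?_)
    refine ⟨fun h => D.s_conj x h, fun h => ?_⟩
    obtain ⟨c, hc⟩ := isConj_iff.1 h
    rw [← hc, show c * D.s * c⁻¹ = MulAut.conj c D.s from rfl, MulEquiv.orderOf_eq, D.hs]
  have h := (centralizer ({D.s} : Set P)).card_mul_index
  rw [D.card_cent, ← e] at h
  have h' : 4 * (D.b : ℂ) * (Nat.card {x : P // orderOf x = 2} : ℂ) = Nat.card P := by exact_mod_cast h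
  refine mul_left_cancel₀ (mul_ne_zero two_ne_zero D.bC_ne) ?_
  linear_combination h' + (1 / 2) * D.card_PC -
    (Fintype.card F : ℂ) * ((Fintype.card F : ℂ) - D.ε) / 2 * D.four_bC + (Fintype.card F : ℂ) / 2 * D.εC_sq

theorem inv_iff {x : P} (g : P) (hsq : g * x * g⁻¹ = x⁻¹ → g * g = 1) (hx : x ≠ x⁻¹) :
    (orderOf g = 2 ∧ g * x * g⁻¹ = x⁻¹) ↔ g * x * g⁻¹ = x⁻¹ := by
  refine ⟨fun h => h.2, fun h => ⟨orderOf_eq_prime (by rw [pow_two]; exact hsq h) fun e => hx ?_, h⟩⟩
  rw [e, one_mul, inv_one, mul_one] at h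
  exact h

theorem inv_A {x : P} (hx : x ∈ D.A) (h1 : x ≠ 1) :
    Nat.card {g : P // orderOf g = 2 ∧ g * x * g⁻¹ = x⁻¹} = D.a := by
  have hcent : ∀ {y : P}, y ∈ D.A → y ≠ 1 → ∀ g : P, g * y * g⁻¹ = y → g ∈ D.A := by
    intro y hy hy1 g hg
    let X := {g : P // g * y * g⁻¹ = y}
    let f : D.A → X := fun z => ⟨z, by rw [D.A_comm _ z.2 _ hy, mul_inv_cancel_right]⟩
    have hcard : Nat.card D.A = Nat.card X := by
      show _ = Nat.card {g : P // g * y * g⁻¹ = y}
      rw [D.cntA y hy hy1 y hy, if_pos (Or.inl rfl), D.card_A]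
    obtain ⟨z, hz⟩ := ((Nat.bijective_iff_injective_and_card f).2
      ⟨fun a b e => Subtype.ext (congrArg (fun t : X => t.1) e), hcard⟩).2 ⟨g, hg⟩
    have e : (z : P) = g := congrArg Subtype.val hz
    exact e ▸ z.2
  have hne : x ≠ x⁻¹ := fun e => D.A_ne_inv (x := ⟨x, hx⟩) (fun e' => h1 (congrArg Subtype.val e')) (Subtype.ext e)
  have hsq : ∀ g : P, g * x * g⁻¹ = x⁻¹ → g * g = 1 := by
    intro g hg
    have hgg : g * g ∈ D.A := hcent hx h1 _ (by
      calc g * g * x * (g * g)⁻¹ = g * (g * x * g⁻¹) * g⁻¹ := by group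
        _ = g * x⁻¹ * g⁻¹ := by rw [hg]
        _ = (g * x * g⁻¹)⁻¹ := by group
        _ = x := by rw [hg, inv_inv])
    by_contra hne'
    have hgA : g ∈ D.A := hcent hgg hne' g (by group)
    rw [D.A_comm g hgA x hx, mul_inv_cancel_right] at hg
    exact hne hg
  rw [Nat.card_congr (Equiv.subtypeEquivRight fun g => inv_iff g (hsq g) hne),
    D.cntA x hx h1 _ (inv_mem hx), if_pos (Or.inr rfl)]

theorem inv_U {x : F} (hx : x ≠ 0) :
    2 * (Nat.card {g : P // orderOf g = 2 ∧ g * D.uu x * g⁻¹ = (D.uu x)⁻¹} : ℂ) =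
      Fintype.card F * (1 - (D.ε : ℂ)) := by
  have hinv : (D.uu x)⁻¹ = D.uu (-x) := by rw [uu, uu, ofAdd_neg, map_inv]
  have h2 : (2 : F) ≠ 0 := fun h => by
    have hc : ringChar F = 2 := by
      have := ringChar.dvd (R := F) (x := 2) (by exact_mod_cast h)
      rcases (Nat.dvd_prime Nat.prime_two).1 this with h' | h'
      · exact absurd h' (CharP.ringChar_ne_one)
      · exact h'
    have h' := (FiniteField.even_card_iff_char_two (F := F)).1 hc
    have := Nat.odd_iff.1 D.q_odd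
    omega
  have hne : D.uu x ≠ (D.uu x)⁻¹ := by
    rw [hinv]
    intro e
    have := Multiplicative.ofAdd.injective (D.eU_inj e)
    exact hx ((mul_eq_zero.1 (show (2 : F) * x = 0 by rw [two_mul]; nth_rewrite 2 [this]; exact add_neg_cancel x)).resolve_left h2)
  have hcent : ∀ {z : F}, z ≠ 0 → ∀ g : P, g * D.uu z * g⁻¹ = D.uu z → g ∈ D.U := by
    intro z hz g hg
    let X := {g : P // g * D.uu z * g⁻¹ = D.uu z}
    let f : D.U → X := fun y => ⟨y, by
      obtain ⟨_, m, rfl⟩ := y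
      show D.eU m * D.eU (Multiplicative.ofAdd z) * (D.eU m)⁻¹ = D.eU (Multiplicative.ofAdd z)
      rw [← map_mul, mul_comm, map_mul, mul_inv_cancel_right]⟩
    have hcard : Nat.card D.U = Nat.card X := by
      show _ = Nat.card {g : P // g * D.eU (Multiplicative.ofAdd z) * g⁻¹ = D.eU (Multiplicative.ofAdd z)}
      rw [D.cntU z hz z, if_pos ⟨1, one_ne_zero, by rw [one_pow, one_mul]⟩, D.card_U]
    obtain ⟨y, hy⟩ := ((Nat.bijective_iff_injective_and_card f).2
      ⟨fun a b e => Subtype.ext (congrArg (fun t : X => t.1) e), hcard⟩).2 ⟨g, hg⟩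
    have e : (y : P) = g := congrArg Subtype.val hy
    exact e ▸ y.2
  have hsq : ∀ g : P, g * D.uu x * g⁻¹ = (D.uu x)⁻¹ → g * g = 1 := by
    intro g hg
    obtain ⟨m, hm⟩ := hcent hx (g * g) (by
      calc g * g * D.uu x * (g * g)⁻¹ = g * (g * D.uu x * g⁻¹) * g⁻¹ := by group
        _ = g * (D.uu x)⁻¹ * g⁻¹ := by rw [hg]
        _ = (g * D.uu x * g⁻¹)⁻¹ := by group
        _ = D.uu x := by rw [hg, inv_inv])
    obtain ⟨z, rfl⟩ := Multiplicative.ofAdd.surjective m
    change D.uu z = g * g at hm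
    by_contra hne'
    have hz : z ≠ 0 := fun e => hne' (by rw [← hm, e, uu, ofAdd_zero, map_one])
    obtain ⟨m', hm'⟩ := hcent hz g (by rw [hm]; group)
    refine hne ?_
    rw [← hm'] at hg
    rw [uu, ← map_mul, mul_comm, map_mul, mul_inv_cancel_right] at hg
    exact hg
  rw [Nat.card_congr (Equiv.subtypeEquivRight fun g => inv_iff g (hsq g) hne), hinv]
  unfold uu
  rw [D.cntU x hx (-x)]
  have hiff : (∃ r : F, r ≠ 0 ∧ -x = r ^ 2 * x) ↔ IsSquare (-1 : F) := by
    constructor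
    · rintro ⟨r, -, e⟩
      exact ⟨r, mul_right_cancel₀ hx (by rw [neg_one_mul, e, pow_two])⟩
    · rintro ⟨r, e⟩
      exact ⟨r, fun h0 => by simp [h0] at e, by rw [pow_two, ← e, neg_one_mul]⟩
  have := D.q8
  have := D.hb
  rcases D.hε with h | h <;> rw [h] at this ⊢
  · have hns : ¬ IsSquare (-1 : F) := by rw [FiniteField.isSquare_neg_one_iff]; omega
    rw [if_neg (fun h' => hns (hiff.1 h'))]
    simp
  · have hs : IsSquare (-1 : F) := by rw [FiniteField.isSquare_neg_one_iff]; omega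
    rw [if_pos (hiff.2 hs)]
    push_cast; ring

end KD

end Cfsg.Agent.Char.ReeOrder
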