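import Cfsg.Agent.Lib.Char.ReeOrder.PsiFun
import Cfsg.Agent.Lib.Char.ReeOrder.KPairs
import Cfsg.Agent.Lib.Char.ReeOrder.Cases

/-!
# The coordinates in a group with centraliser `⟨t⟩ × PSL₂(q)`
-/

set_option autoImplicit false
set_option linter.unusedSectionVars false
set_option linter.unusedSimpArgs false
set_option linter.style.haveILetI false
set_option maxHeartbeats 800000

open Cfsg
open scoped ComplexConjugate Classical

namespace Cfsg.Agent.Char.ReeOrder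

open Subgroup Cfsg.Agent.Char.ReeThree

universe u v

section Coord

variable {G : Type u} [Group G] [Fintype G]

/-- The coordinates of a generalised character. -/
noncomputable def coord (f : G → ℂ) (χ : IrrCharacter G) : ℤ :=
  if h : IsGeneralizedCharacter G f then (exists_int_coords h).choose χ else 0

theorem coord_spec {f : G → ℂ} (h : IsGeneralizedCharacter G f) (χ : IrrCharacter G) :
    classInner f (χ : G → ℂ) = coord f χ := by
  rw [coord, dif_pos h]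
  exact (exists_int_coords h).choose_spec.2 χ

theorem coord_expand {f : G → ℂ} (h : IsGeneralizedCharacter G f) :
    f = ∑ χ, (coord f χ : ℂ) • (χ : G → ℂ) := by
  conv_lhs => rw [(exists_int_coords h).choose_spec.1]
  refine Finset.sum_congr rfl fun χ _ => ?_
  rw [coord, dif_pos h]

theorem coord_inner {f g : G → ℂ} (hf : IsGeneralizedCharacter G f) (hg : IsGeneralizedCharacter G g) :
    ((∑ χ, coord f χ * coord g χ : ℤ) : ℂ) = classInner f g := by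
  conv_rhs => rw [coord_expand hf, classInner_sum_left]
  push_cast
  refine Finset.sum_congr rfl fun χ _ => ?_
  rw [classInner_smul_left, ← classInner_symm g, coord_spec hg, map_intCast]

theorem coord_deg {f : G → ℂ} (hf : IsGeneralizedCharacter G f) (h1 : f 1 = 0) :
    ∑ χ, coord f χ * (deg (χ : G → ℂ) : ℤ) = 0 := by
  rw [coord_expand hf, Finset.sum_apply] at h1
  simp only [Pi.smul_apply, smul_eq_mul, char_one_eq_deg (irr_isCharacter (Subtype.prop _))] at h1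
  exact_mod_cast h1

end Coord

/-- `[θ = φ] + [θ φ = 1]` as an integer. -/
noncomputable def dd {X : Type u} [Mul X] [One X] (x y : X) : ℤ :=
  (if x = y then 1 else 0) + (if x * y = 1 then 1 else 0)

theorem dd_cast {X : Type u} [Mul X] [One X] (x y : X) : (dd x y : ℂ) = delta2 x y := by
  simp only [dd, delta2]; push_cast; ring

theorem dd_nonneg {X : Type u} [Mul X] [One X] (x y : X) : 0 ≤ dd x y := by
  simp only [dd]; split_ifs <;> norm_num

namespace Ctx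

variable {G : Type u} [Group G] [Fintype G] {F : Type v} [Field F] [Fintype F] (C : Ctx G F)

section Chars

theorem hom_ext_act {θ φ : C.D.B →* ℂˣ} (h : θ.comp C.act = φ.comp C.act) : θ = φ :=
  MonoidHom.ext fun y => by
    obtain ⟨z, rfl⟩ := C.act_bijective.2 y
    exact DFunLike.congr_fun h z

theorem comp_act_three (θ : C.D.B →* ℂˣ) : ((θ.comp C.act).comp C.act).comp C.act = θ :=
  MonoidHom.ext fun y => congrArg θ (C.act_three y)

theorem dd_comp (θ φ : C.D.B →* ℂˣ) : dd (θ.comp C.act) (φ.comp C.act) = dd θ φ := by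
  have e1 : θ.comp C.act = φ.comp C.act ↔ θ = φ := ⟨C.hom_ext_act, fun h => by rw [h]⟩
  have e2 : θ.comp C.act * φ.comp C.act = 1 ↔ θ * φ = 1 := by
    refine ⟨fun h => C.hom_ext_act ?_, fun h => ?_⟩
    · exact MonoidHom.ext fun y => DFunLike.congr_fun h y
    · exact MonoidHom.ext fun y => DFunLike.congr_fun h (C.act y)
  unfold dd
  split_ifs <;> first | rfl | (exfalso; tauto)

theorem comp_act_ne {θ : C.D.B →* ℂˣ} (hθ : θ ≠ 1) : θ.comp C.act ≠ θ := by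
  intro e
  apply hθ
  let g : C.D.B → C.D.B := fun y => C.act y * y⁻¹
  have hinj : Function.Injective g := by
    intro a b h
    have h' : C.act a * a⁻¹ = C.act b * b⁻¹ := h
    refine inv_mul_eq_one.1 (C.act_fpf ?_)
    rw [map_mul, map_inv]
    have hc : ∀ x y : C.D.B, x * y = y * x := fun x y => Subtype.ext (C.D.B_comm x x.2 y y.2)
    calc (C.act a)⁻¹ * C.act b = (C.act a)⁻¹ * (C.act b * b⁻¹) * b := by group
      _ = (C.act a)⁻¹ * (C.act a * a⁻¹) * b := by rw [← h']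
      _ = a⁻¹ * b := by group
  refine MonoidHom.ext fun y => ?_
  obtain ⟨z, rfl⟩ := (Finite.injective_iff_surjective.1 hinj) y
  show θ (C.act z * z⁻¹) = 1
  rw [map_mul, map_inv, show θ (C.act z) = θ z from DFunLike.congr_fun e z, mul_inv_cancel]

theorem dd_act {θ : C.D.B →* ℂˣ} (hθ : θ ≠ 1) : dd θ (θ.comp C.act) = 0 := by
  have h2 : θ * θ.comp C.act ≠ 1 := by
    intro e
    apply C.comp_act_ne hθ
    have e1 : ∀ y, θ y * θ (C.act y) = 1 := fun y => DFunLike.congr_fun e y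
    refine MonoidHom.ext fun y => ?_
    have a := eq_inv_of_mul_eq_one_right (e1 y)
    have b := eq_inv_of_mul_eq_one_right (e1 (C.act y))
    have c := eq_inv_of_mul_eq_one_right (e1 (C.act (C.act y)))
    rw [C.act_three, b, a, inv_inv] at c
    rw [MonoidHom.comp_apply, a]
    exact c.symm
  simp [dd, Ne.symm (C.comp_act_ne hθ), h2]

theorem dd_self {θ : C.D.B →* ℂˣ} (hθ : θ ≠ 1) : dd θ θ = 1 := by
  have : θ * θ ≠ 1 := fun e => hθ (hom_eq_one_of_sq (C.D.card_B.symm ▸ C.D.b_odd) e)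
  simp [dd, this]

theorem dd_symm (θ φ : C.D.B →* ℂˣ) : dd θ φ = dd φ θ := by
  have : θ * φ = φ * θ := MonoidHom.ext fun y => mul_comm (θ y) (φ y)
  have e1 : θ = φ ↔ φ = θ := eq_comm
  have e2 : θ * φ = 1 ↔ φ * θ = 1 := by rw [this]
  unfold dd
  split_ifs <;> first | rfl | (exfalso; tauto)

theorem dd_le {θ : C.D.B →* ℂˣ} (hθ : θ ≠ 1) (φ : C.D.B →* ℂˣ) : dd θ φ = 0 ∨ dd θ φ = 1 := by
  have hsq : θ * θ ≠ 1 := fun e => hθ (hom_eq_one_of_sq (C.D.card_B.symm ▸ C.D.b_odd) e)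
  simp only [dd]
  split_ifs with a b
  · subst a; exact absurd b hsq
  all_goals simp

theorem Yf_of_dd {θ φ : C.D.B →* ℂˣ} (h : dd θ φ ≠ 0) : C.D.Yf θ = C.D.Yf φ := by
  by_cases e : θ = φ
  · rw [e]
  · have e2 : θ * φ = 1 := by
      by_contra h2
      exact h (by simp [dd, e, h2])
    have : θ = φ⁻¹ := MonoidHom.ext fun y => eq_inv_of_mul_eq_one_left (DFunLike.congr_fun e2 y)
    rw [this, C.D.Yf_inv]

theorem tw1_ne {θ : C.D.B →* ℂˣ} (hθ : θ ≠ 1) : θ.comp C.act ≠ 1 := C.tw_ne hθ 2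

/-- The three characters of an orbit. -/
noncomputable def orb (θ : C.D.B →* ℂˣ) : Fin 3 → (C.D.B →* ℂˣ) :=
  ![θ, θ.comp C.act, (θ.comp C.act).comp C.act]

theorem orb_ne {θ : C.D.B →* ℂˣ} (hθ : θ ≠ 1) (k : Fin 3) : C.orb θ k ≠ 1 := by
  fin_cases k
  · exact hθ
  · exact C.tw1_ne hθ
  · exact C.tw1_ne (C.tw1_ne hθ)

theorem dd_orb {θ : C.D.B →* ℂˣ} (hθ : θ ≠ 1) (k l : Fin 3) :
    dd (C.orb θ k) (C.orb θ l) = if k = l then 1 else 0 := by
  have h20 : dd ((θ.comp C.act).comp C.act) θ = 0 := by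
    have h := C.dd_act (C.tw1_ne (C.tw1_ne hθ))
    rwa [C.comp_act_three] at h
  fin_cases k <;> fin_cases l
  · exact C.dd_self hθ
  · exact C.dd_act hθ
  · exact (C.dd_symm _ _).trans h20
  · exact (C.dd_symm _ _).trans (C.dd_act hθ)
  · exact C.dd_self (C.tw1_ne hθ)
  · exact C.dd_act (C.tw1_ne hθ)
  · exact h20
  · exact (C.dd_symm _ _).trans (C.dd_act (C.tw1_ne hθ))
  · exact C.dd_self (C.tw1_ne (C.tw1_ne hθ))

/-- `θ` is related to a member of the orbit of `φ` exactly when `φ` is related to one of that of `θ`. -/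
theorem dd_tw (θ φ : C.D.B →* ℂˣ) :
    dd θ (φ.comp (C.act.comp C.act)) = dd (θ.comp C.act) φ ∧
      dd θ (φ.comp C.act) = dd ((θ.comp C.act).comp C.act) φ := by
  constructor
  · rw [← C.dd_comp θ, show (φ.comp (C.act.comp C.act)).comp C.act = φ from C.comp_act_three φ]
  · rw [← C.dd_comp θ, ← C.dd_comp (θ.comp C.act), C.comp_act_three]

end Chars

/-- The coordinates of a lifted function. -/
noncomputable def L (Φ : C.S.K → ℂ) : IrrCharacter G → ℤ := coord (C.S.lift Φ)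

/-- The coordinates of `Ψ_θ`. -/
noncomputable def cP (θ : C.D.B →* ℂˣ) : IrrCharacter G → ℤ := coord (C.Psi θ)

/-- The pair count on `t K`. -/
noncomputable def rr : C.S.K → ℂ := fun z => ((pairs (C.S.t * (z : G)) : ℕ) : ℂ)

theorem L_gram {Φ Φ' : C.S.K → ℂ} (h : IsGeneralizedCharacter C.S.K Φ) (h' : IsGeneralizedCharacter C.S.K Φ')
    (hcl : IsClassFunction C.S.K Φ') (ho : ∀ z : C.S.K, ¬ Odd (orderOf z) → Φ z = 0)
    (ho' : ∀ z : C.S.K, ¬ Odd (orderOf z) → Φ' z = 0) :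
    ((∑ χ, C.L Φ χ * C.L Φ' χ : ℤ) : ℂ) = 2 * classInner Φ Φ' := by
  rw [L, L, coord_inner (C.S.gen_lift h) (C.S.gen_lift h'), C.S.isometry hcl ho' Φ ho]

theorem L_Psi {Φ : C.S.K → ℂ} (h : IsGeneralizedCharacter C.S.K Φ) (θ : C.D.B →* ℂˣ) :
    ((∑ χ, C.cP θ χ * C.L Φ χ : ℤ) : ℂ) = classInner (C.Psi θ) (C.S.lift Φ) := by
  rw [L, cP, coord_inner (C.gen_Psi θ) (C.S.gen_lift h)]

/-- The principal character. -/
noncomputable def one : IrrCharacter G := ⟨fun _ => 1, isIrrCharacter_one⟩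

theorem L_one {Φ : C.S.K → ℂ} (h : IsGeneralizedCharacter C.S.K Φ) :
    (C.L Φ (one (G := G)) : ℂ) = classInner Φ (fun _ => 1) := by
  rw [L, ← coord_spec (C.S.gen_lift h), show ((one : IrrCharacter G) : G → ℂ) = fun _ => 1 from rfl,
    C.S.inner_lift _ (fun _ _ => rfl), classInner]

theorem inner_ind_one {H : Subgroup C.S.K} (θ : H →* ℂˣ) :
    classInner (indFun H fun x => (θ x : ℂ)) (fun _ => (1 : ℂ)) = if θ = 1 then 1 else 0 := by
  rw [inner_ind_const H θ (fun _ _ => rfl) (c := 1) fun _ _ _ => rfl]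
  simp

theorem one_GS : classInner C.D.GS (fun _ => (1 : ℂ)) = 0 := by
  rw [KD.GS, classInner_add_left, KD.Gam, KD.Gam, C.inner_ind_one, C.inner_ind_one, if_neg (C.D.lam_ne _),
    if_neg (C.D.lam_ne _), add_zero]

theorem one_Zf (ψ : C.D.A →* ℂˣ) : classInner (C.D.Zf ψ) (fun _ => (1 : ℂ)) = if ψ = 1 then 1 else 0 := by
  rw [KD.Zf, classInner_sub_left, C.one_GS, sub_zero, KD.IA, C.inner_ind_one]

theorem one_Yf {θ : C.D.B →* ℂˣ} (hθ : θ ≠ 1) : classInner (C.D.Yf θ) (fun _ => (1 : ℂ)) = 0 := by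
  rw [KD.Yf, classInner_sub_left, classInner_smul_left, C.one_GS, KD.IB, C.inner_ind_one, if_neg hθ, mul_zero,
    sub_zero]

theorem one_Fp (i : Bool) : classInner (C.D.Fp i) (fun _ => (1 : ℂ)) = 0 := by
  rw [KD.Fp, classInner_sub_left, classInner_sub_left, classInner_smul_left, KD.Gam, C.inner_ind_one,
    if_neg (C.D.lam_ne _), classInner_sum_left, classInner_sum_left,
    Finset.sum_eq_zero fun θ hθ => C.one_Yf (C.D.hB_spec.1 θ hθ),
    Finset.sum_eq_zero (s := C.D.hA) fun ψ hψ => (C.one_Zf ψ).trans (if_neg (C.D.hA_spec.1 ψ hψ))]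
  ring

/-- The three functions `F`. -/
noncomputable def Ff : Fin 3 → (C.S.K → ℂ) := ![C.D.Zf 1, C.D.Fp false, C.D.Fp true]

theorem Ff_props (k : Fin 3) : IsGeneralizedCharacter C.S.K (C.Ff k) ∧ IsClassFunction C.S.K (C.Ff k) ∧
    ∀ z : C.S.K, ¬ Odd (orderOf z) → C.Ff k z = 0 := by
  fin_cases k
  · exact ⟨C.D.gen_Zf 1, C.D.cl_Zf 1, fun z hz => C.D.Zf_even 1 hz⟩
  · exact ⟨C.D.gen_Fp false, C.D.cl_Fp false, fun z hz => C.D.Fp_even false hz⟩
  · exact ⟨C.D.gen_Fp true, C.D.cl_Fp true, fun z hz => C.D.Fp_even true hz⟩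

theorem gram_FF (k l : Fin 3) : ∑ χ, C.L (C.Ff k) χ * C.L (C.Ff l) χ = if k = l then 4 else 2 := by
  have h11 : delta2 (1 : C.D.A →* ℂˣ) 1 = 2 := by
    simp [delta2, show (1 : C.D.A →* ℂˣ) * 1 = 1 from MonoidHom.ext fun a => mul_one _]
    norm_num
  have hz : ∀ i, classInner (C.D.Zf 1) (C.D.Fp i) = 1 := fun i => by
    rw [← classInner_symm, C.D.inner_FZ]; simp
  have hv : classInner (C.Ff k) (C.Ff l) = if k = l then 2 else 1 := by
    fin_cases k <;> fin_cases l <;> simp [Ff, C.D.inner_ZZ, C.D.inner_FZ, C.D.inner_FF, h11, hz]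
  have h := C.L_gram (C.Ff_props k).1 (C.Ff_props l).1 (C.Ff_props l).2.1 (C.Ff_props k).2.2 (C.Ff_props l).2.2
  rw [hv] at h
  apply Int.cast_injective (α := ℂ)
  rw [h]; split_ifs <;> push_cast <;> norm_num

theorem gram_YY (θ φ : C.D.B →* ℂˣ) : ∑ χ, C.L (C.D.Yf θ) χ * C.L (C.D.Yf φ) χ = 4 * dd θ φ := by
  have h := C.L_gram (C.D.gen_Yf θ) (C.D.gen_Yf φ) (C.D.cl_Yf φ) (fun z hz => C.D.Yf_even θ hz)
    (fun z hz => C.D.Yf_even φ hz)
  rw [C.D.inner_YY, ← dd_cast] at h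
  apply Int.cast_injective (α := ℂ)
  rw [h]; push_cast; ring

theorem gram_FY (k : Fin 3) {θ : C.D.B →* ℂˣ} (hθ : θ ≠ 1) :
    ∑ χ, C.L (C.Ff k) χ * C.L (C.D.Yf θ) χ = 0 := by
  have hv : classInner (C.Ff k) (C.D.Yf θ) = 0 := by
    fin_cases k <;> simp [Ff, C.D.inner_ZY, C.D.inner_FY, hθ]
  have h := C.L_gram (C.Ff_props k).1 (C.D.gen_Yf θ) (C.D.cl_Yf θ) (C.Ff_props k).2.2
    (fun z hz => C.D.Yf_even θ hz)
  rw [hv, mul_zero] at h
  exact_mod_cast h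

theorem gram_ZY (ψ : C.D.A →* ℂˣ) (θ : C.D.B →* ℂˣ) : ∑ χ, C.L (C.D.Zf ψ) χ * C.L (C.D.Yf θ) χ = 0 := by
  have h := C.L_gram (C.D.gen_Zf ψ) (C.D.gen_Yf θ) (C.D.cl_Yf θ) (fun z hz => C.D.Zf_even ψ hz)
    (fun z hz => C.D.Yf_even θ hz)
  rw [C.D.inner_ZY, mul_zero] at h
  exact_mod_cast h

theorem gram_ZF {ψ : C.D.A →* ℂˣ} (hψ : ψ ≠ 1) (k : Fin 3) :
    ∑ χ, C.L (C.D.Zf ψ) χ * C.L (C.Ff k) χ = 0 := by
  have hz : ∀ i, classInner (C.D.Zf ψ) (C.D.Fp i) = 0 := fun i => by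
    rw [← classInner_symm, C.D.inner_FZ, if_neg hψ, map_zero]
  have hd : delta2 ψ (1 : C.D.A →* ℂˣ) = 0 := by
    simp [delta2, hψ, show ψ * 1 = ψ from MonoidHom.ext fun a => mul_one _]
  have hv : classInner (C.D.Zf ψ) (C.Ff k) = 0 := by
    fin_cases k <;> simp [Ff, C.D.inner_ZZ, hz, hd]
  have h := C.L_gram (C.D.gen_Zf ψ) (C.Ff_props k).1 (C.Ff_props k).2.1 (fun z hz => C.D.Zf_even ψ hz)
    (C.Ff_props k).2.2
  rw [hv, mul_zero] at h
  exact_mod_cast h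

theorem norm_Z {ψ : C.D.A →* ℂˣ} (hψ : ψ ≠ 1) : ∑ χ, C.L (C.D.Zf ψ) χ ^ 2 = 2 := by
  have h := C.L_gram (C.D.gen_Zf ψ) (C.D.gen_Zf ψ) (C.D.cl_Zf ψ) (fun z hz => C.D.Zf_even ψ hz)
    (fun z hz => C.D.Zf_even ψ hz)
  have hsq : ψ * ψ ≠ 1 := fun e => hψ (hom_eq_one_of_sq (C.D.card_A.symm ▸ C.D.a_odd) e)
  rw [C.D.inner_ZZ] at h
  simp [delta2, hsq] at h
  simp only [pow_two]
  apply Int.cast_injective (α := ℂ)
  push_cast
  rw [h]

theorem L_deg {Φ : C.S.K → ℂ} (h : IsGeneralizedCharacter C.S.K Φ) :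
    ∑ χ, C.L Φ χ * (deg (χ : G → ℂ) : ℤ) = 0 :=
  coord_deg (C.S.gen_lift h) (C.S.lift_one Φ)

theorem cP_norm {θ φ : C.D.B →* ℂˣ} (hθ : θ ≠ 1) (hφ : φ ≠ 1) :
    ∑ χ, C.cP θ χ * C.cP φ χ = 2 + dd θ φ := by
  apply Int.cast_injective (α := ℂ)
  rw [cP, cP, coord_inner (C.gen_Psi θ) (C.gen_Psi φ), C.inner_Psi θ φ hθ hφ, ← dd_cast]
  push_cast; rfl

theorem cP_Y {θ φ : C.D.B →* ℂˣ} (hθ : θ ≠ 1) (hφ : φ ≠ 1) :
    ∑ χ, C.cP θ χ * C.L (C.D.Yf φ) χ = dd θ φ - dd (θ.comp C.act) φ - dd ((θ.comp C.act).comp C.act) φ := by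
  apply Int.cast_injective (α := ℂ)
  rw [C.L_Psi (C.D.gen_Yf φ), C.inner_Psi_Y hθ hφ, ← (C.dd_tw θ φ).1, ← (C.dd_tw θ φ).2]
  push_cast
  simp only [dd_cast]

theorem cP_F {θ : C.D.B →* ℂˣ} (hθ : θ ≠ 1) (k : Fin 3) :
    ∑ χ, C.cP θ χ * C.L (C.Ff k) χ = if k = 0 then 0 else 1 := by
  apply Int.cast_injective (α := ℂ)
  rw [C.L_Psi (C.Ff_props k).1]
  fin_cases k
  · simp only [Ff, Matrix.cons_val_zero, Fin.zero_eta, if_true, Int.cast_zero]
    rw [C.inner_Psi_const hθ (k := 0) (C.D.cl_Zf 1) (fun z hz => C.D.Zf_even 1 hz) fun y hy =>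
      C.D.Zf_B 1 y.2 fun e => hy (Subtype.ext e)]
    simp
  · simp only [Ff, Fin.mk_one, Matrix.cons_val_one, Matrix.cons_val_zero]
    rw [C.inner_Psi_const hθ (C.D.cl_Fp false) (fun z hz => C.D.Fp_even false hz) fun y hy => C.D.Fp_B false hy]
    simp [map_ofNat]
  · simp only [Ff, Fin.reduceFinMk, Matrix.cons_val]
    rw [C.inner_Psi_const hθ (C.D.cl_Fp true) (fun z hz => C.D.Fp_even true hz) fun y hy => C.D.Fp_B true hy]
    simp [map_ofNat]

theorem cP_Z {θ : C.D.B →* ℂˣ} (hθ : θ ≠ 1) (ψ : C.D.A →* ℂˣ) :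
    ∑ χ, C.cP θ χ * C.L (C.D.Zf ψ) χ = 0 := by
  apply Int.cast_injective (α := ℂ)
  rw [C.L_Psi (C.D.gen_Zf ψ), C.inner_Psi_const hθ (k := 0) (C.D.cl_Zf ψ) (fun z hz => C.D.Zf_even ψ hz)
    fun y hy => C.D.Zf_B ψ y.2 fun e => hy (Subtype.ext e)]
  simp

/-- Parity inside an orbit. -/
theorem parity (θ : C.D.B →* ℂˣ) (χ : IrrCharacter G) :
    (2 : ℤ) ∣ C.L (C.D.Yf (θ.comp C.act)) χ - C.L (C.D.Yf θ) χ := by
  have hχ := irr_isCharacter χ.2
  have hcl := isClassFunction_character hχ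
  have hr : IsClassFunction C.S.K (fun z => (χ : G → ℂ) (C.S.t * z)) := fun z h => by
    show (χ : G → ℂ) (C.S.t * ((h * z * h⁻¹ : C.S.K) : G)) = (χ : G → ℂ) (C.S.t * z)
    rw [← hcl (C.S.t * (z : G)) (h : G)]
    congr 1
    rw [Subgroup.coe_mul, Subgroup.coe_mul, Subgroup.coe_inv, ← mul_assoc, ← mul_assoc,
      show C.S.t * (h : G) = (h : G) * C.S.t from (C.S.comm_t h.2).symm]
    group
  let Sg : (C.D.B →* ℂˣ) → V4 → ℂ := fun θ v => (C.D.b : ℂ)⁻¹ *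
    ∑ y : C.D.B, (θ y : ℂ) * conj ((χ : G → ℂ) (C.phi (v, y)))
  have e : ∀ θ' : C.D.B →* ℂˣ, (C.L (C.D.Yf θ') χ : ℂ) =
      2 * classInner C.D.GS (fun z : C.S.K => (χ : G → ℂ) (C.S.t * z)) - Sg θ' (-1, 1) := by
    intro θ'
    rw [L, ← coord_spec (C.S.gen_lift (C.D.gen_Yf θ')), C.S.inner_lift _ hcl]
    change classInner (C.D.Yf θ') (fun z : C.S.K => (χ : G → ℂ) (C.S.t * z)) = _
    rw [KD.Yf, classInner_sub_left, classInner_smul_left, KD.IB, frobenius _ _ hr]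
    simp only [classInner, C.D.card_B, Sg, phi_apply, C.vH_t]
    rfl
  have hm : ∀ θ' : C.D.B →* ℂˣ, ∃ m m' : ℤ,
      Sg θ' (1, 1) = m + m' ∧ Sg θ' (-1, 1) = m - m' := by
    intro θ'
    let ι : ℤˣ × C.D.B →* V4 × C.D.B :=
      ((MonoidHom.inl ℤˣ ℤˣ).comp (MonoidHom.fst ℤˣ C.D.B)).prod (MonoidHom.snd ℤˣ C.D.B)
    let sgn : ℤˣ →* ℂˣ := Units.map (Int.castRingHom ℂ).toMonoidHom
    let l1 : ℤˣ × C.D.B →* ℂˣ := θ'.comp (MonoidHom.snd _ _)
    let l2 : ℤˣ × C.D.B →* ℂˣ := l1 * sgn.comp (MonoidHom.fst _ _)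
    obtain ⟨n, hn⟩ := classInner_natCast (isCharacter_linear l1) (isCharacter_comp (C.phi.comp ι) hχ)
    obtain ⟨n', hn'⟩ := classInner_natCast (isCharacter_linear l2) (isCharacter_comp (C.phi.comp ι) hχ)
    have hcard : (Nat.card (ℤˣ × C.D.B) : ℂ) = 2 * C.D.b := by
      rw [Nat.card_prod, C.D.card_B, Nat.card_eq_fintype_card, show Fintype.card ℤˣ = 2 from rfl]
      push_cast; ring
    have hu : ∀ f : ℤˣ → ℂ, ∑ u, f u = f 1 + f (-1) := fun f => by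
      rw [show (Finset.univ : Finset ℤˣ) = {1, -1} from rfl, Finset.sum_pair (by decide)]
    simp only [classInner, hcard, Fintype.sum_prod_type, hu] at hn hn'
    simp [l1, l2, sgn, ι, Function.comp_def, -map_mul] at hn hn'
    have hb := C.D.bC_ne
    refine ⟨n, n', ?_, ?_⟩ <;>
    · simp only [Sg]
      push_cast
      rw [← hn, ← hn']
      field_simp
      ring
  have hinv : Sg (θ.comp C.act) (1, 1) = Sg θ (1, 1) := by
    simp only [Sg]
    congr 1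
    refine Fintype.sum_bijective C.act C.act_bijective _ _ fun y => ?_
    rw [MonoidHom.comp_apply, show ((1, 1), C.act y) = ((sig (1, 1), C.act y) : V4 × C.D.B) from rfl, ← C.rho_phi,
      hcl]
  obtain ⟨m, m', a, b⟩ := hm θ
  obtain ⟨k, k', a', b'⟩ := hm (θ.comp C.act)
  refine ⟨m - k, ?_⟩
  apply Int.cast_injective (α := ℂ)
  push_cast
  rw [e, e, b, b']
  rw [hinv, a] at a'
  linear_combination -a'

theorem triple {θ : C.D.B →* ℂˣ} (hθ : θ ≠ 1) :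
    Triple (fun χ : IrrCharacter G => deg (χ : G → ℂ)) (fun k => C.L (C.D.Yf (C.orb θ k))) where
  pos := fun χ => deg_pos χ.2
  norm := fun k => by simp only [pow_two, C.gram_YY, C.dd_orb hθ]; simp
  degree := fun k => C.L_deg (C.D.gen_Yf _)
  orth := fun k l h => by simp [C.gram_YY, C.dd_orb hθ, h]
  parity := fun k χ => by
    have p0 := C.parity θ χ
    have p1 := C.parity (θ.comp C.act) χ
    fin_cases k
    · simp
    · simpa [orb] using p0
    · simpa [orb] using Int.dvd_add p1 p0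

theorem rr_cl : IsClassFunction C.S.K C.rr := fun g h => by
  show ((pairs (C.S.t * ((h * g * h⁻¹ : C.S.K) : G)) : ℕ) : ℂ) = _
  have h1 : (h : G) * (C.S.t * g) * (h : G)⁻¹ = C.S.t * ((h * g * h⁻¹ : C.S.K) : G) := by
    rw [← mul_assoc (h : G), C.S.comm_t h.2]
    simp [mul_assoc]
  rw [← h1, pairs_class, rr]

theorem rr_one : C.rr 1 = Fintype.card F * ((Fintype.card F : ℂ) - C.D.ε) := by
  rw [← C.D.two_invol, rr, C.S.pairs_tK (by rw [orderOf_one]; exact odd_one)]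
  push_cast
  congr 2
  exact Nat.card_congr (Equiv.subtypeEquivRight fun x => by simp)

theorem rr_A {x : C.S.K} (hx : x ∈ C.D.A) (h1 : x ≠ 1) : C.rr x = 2 * (C.D.a : ℂ) := by
  rw [rr, C.S.pairs_tK ((C.D.a_odd).of_dvd_nat (C.D.orderOf_A hx)), C.D.inv_A hx h1]
  push_cast; rfl

theorem rr_B {x : C.S.K} (hx : x ∈ C.D.B) (h1 : x ≠ 1) : C.rr x = 4 * (C.D.b : ℂ) := by
  have h := C.pairs_phi (y := ⟨x, hx⟩) (fun e => h1 (congrArg Subtype.val e)) (-1, 1)
  rw [phi_apply, C.vH_t] at h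
  show ((pairs (C.S.t * (x : G)) : ℕ) : ℂ) = _
  rw [show C.S.t * (x : G) = C.S.t * C.emb ⟨x, hx⟩ from rfl, h]
  push_cast; rfl

theorem rr_U {x : C.S.K} (hx : x ∈ C.D.U) (h1 : x ≠ 1) : C.rr x = Fintype.card F * (1 - (C.D.ε : ℂ)) := by
  have hodd : Odd (orderOf x) := C.D.q_odd.of_dvd_nat (C.D.orderOf_U hx)
  obtain ⟨m, rfl⟩ := hx
  obtain ⟨z, rfl⟩ := Multiplicative.ofAdd.surjective m
  have hz : z ≠ 0 := fun e => h1 (by rw [e, ofAdd_zero, map_one])
  rw [rr, C.S.pairs_tK hodd, ← C.D.inv_U hz]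
  push_cast; rfl

/-- The integral value at `t`. -/
noncomputable def val (χ : IrrCharacter G) : ℤ :=
  C.L (C.Ff 0) χ + (C.D.ε * Fintype.card F - 1) / 2 * (C.L (C.Ff 1) χ + C.L (C.Ff 2) χ) +
    (C.D.ε * Fintype.card F - 1) * ∑ θ ∈ C.D.hB, C.L (C.D.Yf θ) χ +
    (C.D.ε * Fintype.card F + 1) * ∑ ψ : {ψ // ψ ∈ C.D.hA}, C.L (C.D.Zf ψ.1) χ

include C in
theorem h_int : (C.D.ε * Fintype.card F - 1) = 2 * ((C.D.ε * Fintype.card F - 1) / 2) := by
  have := Nat.odd_iff.1 C.D.q_odd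
  rcases C.D.hε with h | h <;> rw [h] <;> omega

theorem val_eq (χ : IrrCharacter G) : (χ : G → ℂ) C.S.t = (C.val χ : ℂ) := by
  have hcl := isClassFunction_character (irr_isCharacter χ.2)
  have hL : ∀ {Φ : C.S.K → ℂ}, IsGeneralizedCharacter C.S.K Φ → (C.L Φ χ : ℂ) =
      (Nat.card C.S.K : ℂ)⁻¹ * ∑ z : C.S.K, Φ z * conj ((χ : G → ℂ) (C.S.t * z)) := fun {Φ} h => by
    rw [L, ← coord_spec (C.S.gen_lift h), C.S.inner_lift _ hcl]
  have hh : (((C.D.ε * Fintype.card F - 1) / 2 : ℤ) : ℂ) = ((C.D.ε : ℂ) * Fintype.card F - 1) / 2 := by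
    have h : ((C.D.ε * Fintype.card F - 1 : ℤ) : ℂ) = ((2 * ((C.D.ε * Fintype.card F - 1) / 2) : ℤ) : ℂ) :=
      congrArg Int.cast C.h_int
    push_cast at h
    rw [h]; ring
  have key : (C.val χ : ℂ) = conj ((χ : G → ℂ) C.S.t) := by
    simp only [val, Int.cast_add, Int.cast_mul, Int.cast_sum, hh, Ff, Matrix.cons_val_zero, Matrix.cons_val_one,
      Matrix.cons_val, hL (C.D.gen_Zf _), hL (C.D.gen_Yf _), hL (C.D.gen_Fp _), ← Finset.mul_sum]
    rw [Finset.sum_comm, Finset.sum_comm (γ := {ψ // ψ ∈ C.D.hA})]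
    simp only [← Finset.sum_mul]
    push_cast
    have hz : ∀ z : C.S.K, ∑ ψ : {ψ // ψ ∈ C.D.hA}, C.D.Zf ψ.1 z = ∑ ψ ∈ C.D.hA, C.D.Zf ψ z := fun z =>
      Finset.sum_coe_sort C.D.hA fun ψ => C.D.Zf ψ z
    simp only [hz, Finset.mul_sum, ← Finset.sum_add_distrib]
    rw [Finset.sum_congr rfl (g := fun z => if z = 1 then conj ((χ : G → ℂ) C.S.t) else 0) fun z _ => ?_,
      Finset.sum_ite_eq', if_pos (Finset.mem_univ _)]
    have hr := C.D.regular z
    simp only [Finset.mul_sum] at hr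
    split_ifs at hr ⊢ with h1
    · subst h1
      simp only [OneMemClass.coe_one, mul_one]
      have hK0 : (Nat.card C.S.K : ℂ) ≠ 0 := Nat.cast_ne_zero.2 Nat.card_pos.ne'
      simp only [← Finset.mul_sum, ← Finset.sum_mul] at hr ⊢
      field_simp
      linear_combination (conj ((χ : G → ℂ) C.S.t)) * 2 * hr
    · simp only [← Finset.mul_sum, ← Finset.sum_mul] at hr ⊢
      linear_combination ((Nat.card C.S.K : ℂ)⁻¹ * conj ((χ : G → ℂ) (C.S.t * z))) * hr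
  have h := congrArg conj key
  rw [Complex.conj_conj, map_intCast] at h
  exact h.symm

theorem sum_eq_pairs {f : G → ℂ} (h : IsGeneralizedCharacter G f) :
    ∑ a : G, ∑ b : G, f (a * C.S.t * a⁻¹ * (b * C.S.t * b⁻¹)) = (Nat.card G : ℂ) ^ 2 *
      ∑ χ : IrrCharacter G, (coord f χ : ℂ) * (C.val χ : ℂ) ^ 2 / (deg (χ : G → ℂ) : ℂ) := by
  conv_lhs => rw [coord_expand h]
  simp only [Finset.sum_apply, Pi.smul_apply, smul_eq_mul]
  rw [Finset.sum_congr rfl fun a _ => Finset.sum_comm, Finset.sum_comm, Finset.mul_sum]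
  refine Finset.sum_congr rfl fun χ _ => ?_
  simp only [← Finset.mul_sum, sum_pair_irr, C.val_eq, char_one_eq_deg (irr_isCharacter χ.2)]
  ring

theorem equation {Φ : C.S.K → ℂ} (h : IsGeneralizedCharacter C.S.K Φ) :
    ∑ χ : IrrCharacter G, (C.L Φ χ : ℂ) * (C.val χ : ℂ) ^ 2 / (deg (χ : G → ℂ) : ℂ) =
      (Nat.card C.S.C : ℂ) ^ 2 / (Nat.card G : ℂ) * classInner Φ C.rr := by
  have hG : (Nat.card G : ℂ) ≠ 0 := Nat.cast_ne_zero.2 Nat.card_pos.ne'
  have h1 := C.sum_eq_pairs (C.S.gen_lift h)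
  rw [C.S.pair_equation C.hconj Φ] at h1
  have h2 : classInner Φ C.rr = (Nat.card C.S.K : ℂ)⁻¹ * ∑ z : C.S.K, Φ z * (pairs (C.S.t * (z : G)) : ℂ) := by
    simp only [classInner, rr, map_natCast]
  rw [h2, L]
  refine mul_left_cancel₀ (pow_ne_zero 2 hG) (h1.symm.trans ?_)
  field_simp

theorem equation_Psi (θ : C.D.B →* ℂˣ) :
    ∑ χ : IrrCharacter G, (C.cP θ χ : ℂ) * (C.val χ : ℂ) ^ 2 / (deg (χ : G → ℂ) : ℂ) = 0 := by
  have h1 := C.sum_eq_pairs (C.gen_Psi θ)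
  rw [C.Psi_pairs θ] at h1
  exact (mul_eq_zero.1 h1.symm).resolve_left (pow_ne_zero 2 (Nat.cast_ne_zero.2 Nat.card_pos.ne'))

theorem cong_eight (χ : IrrCharacter G) : (8 : ℤ) ∣ (deg (χ : G → ℂ) : ℤ) - C.val χ := by
  have hχ := irr_isCharacter χ.2
  have hcl := isClassFunction_character hχ
  have hw2 : (C.w : G) * C.w = 1 := congrArg Subtype.val C.w_sq
  have hc : ∀ (p : V4) (u : ℤˣ), Commute (C.vH p) (invHom hw2 u) := by
    intro p u
    rcases Int.units_eq_one_or u with rfl | rfl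
    · simp [invHom]
    · show Commute _ (if (-1 : ℤˣ) = 1 then (1 : G) else (C.w : G))
      rw [if_neg (by decide)]
      exact (mul_inv_eq_iff_eq_mul.1 (C.w_vH p)).symm
  let ψ : V4 × ℤˣ →* G := MonoidHom.noncommCoprod C.vH (invHom hw2) hc
  have hne : ∀ p : V4 × ℤˣ, p ≠ 1 → ψ p ≠ 1 := by
    rintro ⟨v, u⟩ hp h
    rcases Int.units_eq_one_or u with rfl | rfl
    · apply hp
      have e : C.vH v * 1 = 1 := by simpa [ψ, invHom] using h
      rw [mul_one] at e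
      have := C.phi_inj (a₁ := (v, 1)) (a₂ := 1) (by rw [C.phi_one, e, map_one])
      exact Prod.ext (congrArg (Prod.fst : V4 × C.D.B → V4) this) rfl
    · have e : C.vH v * (C.w : G) = 1 := by simpa [ψ, invHom] using h
      have h2 : C.rep (0, true) * C.phi (v, 1) = C.rep (0, false) * C.phi 1 := by
        rw [C.phi_one, map_one, mul_one]
        simp only [rep, if_true, Bool.false_eq_true, if_false]
        simp only [Fin.val_zero, pow_zero, one_mul, mul_one]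
        rw [← mul_inv_eq_iff_eq_mul.1 (C.w_vH v)] at e
        exact e
      simpa using (congrArg Prod.snd (C.rep_inj h2).1)
  have hval : ∀ p, p ≠ 1 → (χ : G → ℂ) (ψ p) = (C.val χ : ℂ) := by
    intro p hp
    have hord : orderOf (ψ p) = 2 := orderOf_eq_prime (by
      rw [pow_two, ← map_mul, show p * p = 1 from Prod.ext (Prod.ext (Int.units_mul_self _) (Int.units_mul_self _))
        (Int.units_mul_self _), map_one]) (hne p hp)
    obtain ⟨g, hg⟩ := isConj_iff.1 (C.hconj _ hord)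
    rw [← hg, hcl, C.val_eq]
  obtain ⟨n, hn⟩ := classInner_natCast (isCharacter_comp ψ hχ) (isCharacter_one (G := V4 × ℤˣ))
  rw [classInner, ← Finset.add_sum_erase _ _ (Finset.mem_univ (1 : V4 × ℤˣ))] at hn
  simp only [Function.comp_apply, map_one, char_one_eq_deg hχ] at hn
  rw [Finset.sum_congr rfl fun p hp => by rw [hval p (Finset.mem_erase.1 hp).1],
    Finset.sum_const, Finset.card_erase_of_mem (Finset.mem_univ _), Finset.card_univ,
    Nat.card_eq_fintype_card] at hn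
  simp [show Fintype.card (V4 × ℤˣ) = 8 from rfl] at hn
  have h : ((deg (χ : G → ℂ) : ℤ) + 7 * C.val χ : ℤ) = 8 * (n : ℤ) := by
    apply Int.cast_injective (α := ℂ)
    push_cast
    linear_combination 8 * hn
  exact ⟨(n : ℤ) - C.val χ, by linear_combination h⟩

theorem cong_b (χ : IrrCharacter G) {c0 : ℤ} (h : ∀ θ : C.D.B →* ℂˣ, θ ≠ 1 → C.cP θ χ = c0) :
    (C.D.b : ℤ) ∣ (deg (χ : G → ℂ) : ℤ) - C.val χ - 4 * c0 := by
  obtain ⟨m, hm⟩ := C.Psi_coeff (irr_isCharacter χ.2) (c := c0) fun θ hθ => by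
    rw [coord_spec (C.gen_Psi θ), ← h θ hθ, cP]
  rw [char_one_eq_deg (irr_isCharacter χ.2), C.val_eq, map_intCast] at hm
  refine ⟨4 * m, ?_⟩
  apply Int.cast_injective (α := ℂ)
  push_cast
  linear_combination hm

theorem b_mod : C.D.b % 6 = 1 := by
  haveI : Fact (Nat.Prime 3) := ⟨Nat.prime_three⟩
  let σ : Equiv.Perm C.D.B := Equiv.ofBijective C.act C.act_bijective
  have hσ : σ ^ 3 ^ 1 = 1 := Equiv.ext fun y => by
    show (σ ^ 3) y = y
    simp only [pow_succ, pow_zero, one_mul, Equiv.Perm.mul_apply]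
    exact C.act_three y
  have h := Equiv.Perm.card_compl_support_modEq hσ
  have hs : σ.supportᶜ = {1} := by
    ext y
    simp only [Finset.mem_compl, Equiv.Perm.mem_support, not_not, Finset.mem_singleton]
    exact ⟨fun e => C.act_fpf e, fun e => by subst e; exact map_one C.act⟩
  rw [hs, Finset.card_singleton, ← Nat.card_eq_fintype_card, C.D.card_B] at h
  have h3 : 1 % 3 = C.D.b % 3 := h
  have := Nat.odd_iff.1 C.D.b_odd
  omega

theorem card_CC : (Nat.card C.S.C : ℂ) = Fintype.card F * ((Fintype.card F : ℂ) ^ 2 - 1) := by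
  rw [← C.D.card_PC, C.S.card_C]; push_cast; ring

/-- The abstract data. -/
theorem exists_coords : ∃ K : Coords (IrrCharacter G) {θ : C.D.B →* ℂˣ // θ ≠ 1} {ψ : C.D.A →* ℂˣ // ψ ∈ C.D.hA},
    K.Q = C.D.ε * Fintype.card F ∧ K.g = Nat.card G := by
  obtain ⟨y0, hy0⟩ := C.nontrivialB
  obtain ⟨θ0, hθ0⟩ : ∃ θ : C.D.B →* ℂˣ, θ ≠ 1 := by
    letI : CommGroup C.D.B :=
      { (inferInstance : Group C.D.B) with mul_comm := fun a b => Subtype.ext (C.D.B_comm a a.2 b b.2) }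
    haveI : NeZero (Monoid.exponent C.D.B) := ⟨Monoid.exponent_ne_zero_of_finite⟩
    obtain ⟨θ, hθ⟩ := CommGroup.exists_apply_ne_one_of_hasEnoughRootsOfUnity C.D.B ℂ hy0
    exact ⟨θ, fun e => hθ (by rw [e]; rfl)⟩
  have hε2 := C.D.εC_sq
  have hq8 := C.D.q8
  have ha := C.D.ha
  have hb := C.D.hb
  have hq5 := C.D.q5
  have hao := Nat.odd_iff.1 C.D.a_odd
  have hY4 : ∀ θ : C.D.B →* ℂˣ, θ ≠ 1 → ∑ χ, C.L (C.D.Yf θ) χ ^ 2 = 4 := fun θ hθ => by
    simp only [pow_two, C.gram_YY, C.dd_self hθ]; norm_num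
  have hrel : ∀ θ φ : C.D.B →* ℂˣ, θ ≠ 1 → φ ≠ 1 → (∀ k, dd (C.orb θ k) φ = 0) →
      ∀ χ, C.L (C.D.Yf θ) χ ≠ 0 → C.L (C.D.Yf φ) χ = 0 := by
    intro θ φ hθ hφ h χ hχ
    exact (C.triple hθ).supp_zero _ (le_of_eq (hY4 φ hφ)) (C.L_deg (C.D.gen_Yf φ))
      (fun k => by rw [C.gram_YY, h k, mul_zero]) (by simpa [orb] using hχ)
  have hfT : ∀ (k : Fin 3) (θ : C.D.B →* ℂˣ), θ ≠ 1 → ∀ χ, C.L (C.D.Yf θ) χ ≠ 0 → C.L (C.Ff k) χ = 0 := by
    intro k θ hθ χ hχ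
    refine (C.triple hθ).supp_zero _ (le_of_eq ?_) (C.L_deg (C.Ff_props k).1) (fun l => ?_) (by simpa [orb] using hχ)
    · simp [pow_two, C.gram_FF]
    · rw [← C.gram_FY k (C.orb_ne hθ l)]
      exact Finset.sum_congr rfl fun χ _ => mul_comm _ _
  have hzT : ∀ (ψ : C.D.A →* ℂˣ), ψ ≠ 1 → ∀ (θ : C.D.B →* ℂˣ), θ ≠ 1 → ∀ χ, C.L (C.D.Yf θ) χ ≠ 0 →
      C.L (C.D.Zf ψ) χ = 0 := by
    intro ψ hψ θ hθ χ hχ
    refine (C.triple hθ).supp_zero _ ?_ (C.L_deg (C.D.gen_Zf ψ)) (fun l => ?_) (by simpa [orb] using hχ)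
    · rw [C.norm_Z hψ]; norm_num
    · rw [← C.gram_ZY ψ (C.orb θ l)]
      exact Finset.sum_congr rfl fun χ _ => mul_comm _ _
  have hYsum : ∀ θ : C.D.B →* ℂˣ, θ ≠ 1 → ∀ χ, C.L (C.D.Yf θ) χ ≠ 0 →
      ∑ φ ∈ C.D.hB, C.L (C.D.Yf φ) χ = ∑ k, C.L (C.D.Yf (C.orb θ k)) χ := by
    intro θ hθ χ hχ
    have hone : ∀ φ ∈ C.D.hB, C.L (C.D.Yf φ) χ = ∑ k, dd φ (C.orb θ k) * C.L (C.D.Yf (C.orb θ k)) χ := by
      intro φ hφ
      have hφ1 := C.D.hB_spec.1 φ hφ
      by_cases h : ∀ k, dd (C.orb θ k) φ = 0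
      · rw [hrel θ φ hθ hφ1 h χ hχ, Finset.sum_eq_zero fun k _ => by rw [C.dd_symm, h k, zero_mul]]
      · push Not at h
        obtain ⟨k, hk⟩ := h
        rw [C.dd_symm] at hk
        have hother : ∀ l, l ≠ k → dd φ (C.orb θ l) = 0 := by
          intro l hl
          by_contra hl'
          have e1 := C.Yf_of_dd hk
          have e2 := C.Yf_of_dd hl'
          have := C.gram_YY (C.orb θ k) (C.orb θ l)
          rw [C.dd_orb hθ, if_neg (Ne.symm hl), ← e1, ← e2, C.gram_YY, C.dd_self hφ1] at this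
          norm_num at this
        rw [Finset.sum_eq_single k (fun l _ hl => by rw [hother l hl, zero_mul])
          (fun h => absurd (Finset.mem_univ k) h), (C.dd_le hφ1 _).resolve_left hk, one_mul, C.Yf_of_dd hk]
    rw [Finset.sum_congr rfl hone, Finset.sum_comm]
    refine Finset.sum_congr rfl fun k _ => ?_
    rw [← Finset.sum_mul]
    have : ∑ φ ∈ C.D.hB, dd φ (C.orb θ k) = 1 := by
      apply Int.cast_injective (α := ℂ)
      push_cast
      simp only [dd_cast]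
      haveI := finite_hom_units C.D.B
      letI : Fintype (C.D.B →* ℂˣ) := Fintype.ofFinite _
      rw [KD.sum_delta2 (X := C.D.B →* ℂˣ) C.D.hB_spec.1 C.D.hB_spec.2, if_neg (C.orb_ne hθ k)]
    rw [this, one_mul]
  refine ⟨{
    Q := C.D.ε * Fintype.card F, h := (C.D.ε * Fintype.card F - 1) / 2, b := C.D.b, g := Nat.card G
    kap := (C.D.ε : ℚ) * (Nat.card C.S.C : ℚ) ^ 2 / (Nat.card G : ℚ)
    o := one, d := fun χ => deg (χ : G → ℂ), v := C.val, f := fun k => C.L (C.Ff k)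
    yS := fun χ => ∑ θ ∈ C.D.hB, C.L (C.D.Yf θ) χ
    z := fun ψ => C.L (C.D.Zf ψ.1)
    T := fun θ k => C.L (C.D.Yf (C.orb θ.1 k))
    c := fun θ => C.cP θ.1
    θ0 := ⟨θ0, hθ0⟩
    hQh := ?g_hQh, hQ := ?g_hQ, hQ8 := ?g_hQ8, hb := ?g_hb, hb6 := C.b_mod, hpp := ?g_hpp, gpos := Nat.card_pos
    gdvd := ?g_gdvd, hg := ?g_hg, dpos := fun χ => deg_pos χ.2, d_o := ?g_d_o, fo0 := ?g_fo0, fo1 := ?g_fo1, fo2 := ?g_fo2, yo := ?g_yo
    zo := ?g_zo, hv := fun χ => rfl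
    fnorm := fun k => by simp [pow_two, C.gram_FF]
    fdeg := fun k => C.L_deg (C.Ff_props k).1
    ff := fun k l h => by simp [C.gram_FF, h]
    znorm := fun ψ => C.norm_Z (C.D.hA_spec.1 _ ψ.2)
    zdeg := fun ψ => C.L_deg (C.D.gen_Zf _)
    zf := fun ψ k => C.gram_ZF (C.D.hA_spec.1 _ ψ.2) k
    zT := fun ψ θ χ hχ => hzT _ (C.D.hA_spec.1 _ ψ.2) θ.1 θ.2 χ (by simpa [orb] using hχ)
    triple := fun θ => C.triple θ.2
    fT := fun k θ χ hχ => hfT k θ.1 θ.2 χ (by simpa [orb] using hχ)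
    yF := ?g_yF, yT := ?g_yT, ysup := ?g_ysup
    cnorm := ?g_cnorm, cdeg := fun θ => coord_deg (C.gen_Psi θ.1) (C.Psi_one θ.1), co := ?g_co
    cf0 := fun θ => by simpa using C.cP_F θ.2 0
    cf1 := fun θ => by simpa using C.cP_F θ.2 1
    cf2 := fun θ => by simpa using C.cP_F θ.2 2
    cz := fun θ ψ => C.cP_Z θ.2 _
    cT := ?g_cT, cTT := ?g_cTT, cc := ?g_cc
    eqF0 := ?g_eqF0, eqF1 := ?g_eqF1, eqY := ?g_eqY, eqC := ?g_eqC
    cong8 := C.cong_eight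
    congb := fun χ _ _ c0 h => C.cong_b χ fun θ hθ => h ⟨θ, hθ⟩ }, rfl, rfl⟩
  case g_hQh =>
    have := C.h_int; omega
  case g_hQ =>
    rcases C.D.hε with h | h <;> rw [h] at ha hb ⊢ <;> omega
  case g_hQ8 =>
    rcases C.D.hε with h | h <;> rw [h] at ha hb ⊢ <;> omega
  case g_hb =>
    rcases C.D.hε with h | h <;> rw [h] at ha hb ⊢ <;> omega
  case g_hpp =>
    have : (C.D.ε * (Fintype.card F : ℤ)).natAbs = Fintype.card F := by
      rcases C.D.hε with h | h <;> rw [h] <;> simp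
    rw [this]
    exact FiniteField.isPrimePow_card F
  case g_gdvd =>
    have : (C.D.ε * (Fintype.card F : ℤ)).natAbs = Fintype.card F := by
      rcases C.D.hε with h | h <;> rw [h] <;> simp
    rw [this, ← C.D.card_P, ← C.S.card_C]
    exact Subgroup.card_subgroup_dvd_card _
  case g_hg =>
    have hG : (Nat.card G : ℚ) ≠ 0 := Nat.cast_ne_zero.2 Nat.card_pos.ne'
    have hab : (((C.D.ε * (Fintype.card F : ℤ)).natAbs : ℕ) : ℚ) = (Fintype.card F : ℚ) := by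
      rcases C.D.hε with h | h <;> rw [h] <;> simp
    have hC : (Nat.card C.S.C : ℚ) = Fintype.card F * ((Fintype.card F : ℚ) ^ 2 - 1) := by
      apply Rat.cast_injective (α := ℂ)
      push_cast
      exact C.card_CC
    rw [hab, div_mul_cancel₀ _ hG, hC]
    rcases C.D.hε with h | h <;> rw [h] <;> push_cast <;> ring
  case g_d_o =>
    have h : ((one : IrrCharacter G) : G → ℂ) 1 = (deg ((one : IrrCharacter G) : G → ℂ) : ℂ) :=
      char_one_eq_deg (irr_isCharacter (one : IrrCharacter G).2)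
    exact_mod_cast h.symm.trans (show ((one : IrrCharacter G) : G → ℂ) 1 = ((1 : ℕ) : ℂ) by simp [one])
  case g_fo0 =>
    apply Int.cast_injective (α := ℂ)
    rw [C.L_one (C.Ff_props 0).1]
    simp [Ff, C.one_Zf]
  case g_fo1 =>
    apply Int.cast_injective (α := ℂ)
    rw [C.L_one (C.Ff_props 1).1]
    simp [Ff, C.one_Fp]
  case g_fo2 =>
    apply Int.cast_injective (α := ℂ)
    rw [C.L_one (C.Ff_props 2).1]
    simp [Ff, C.one_Fp]
  case g_yo =>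
    refine Finset.sum_eq_zero fun θ hθ => ?_
    apply Int.cast_injective (α := ℂ)
    rw [C.L_one (C.D.gen_Yf θ), C.one_Yf (C.D.hB_spec.1 θ hθ), Int.cast_zero]
  case g_zo =>
    intro ψ
    apply Int.cast_injective (α := ℂ)
    rw [C.L_one (C.D.gen_Zf _), C.one_Zf, if_neg (C.D.hA_spec.1 _ ψ.2), Int.cast_zero]
  case g_yF =>
    intro k χ hχ
    refine Finset.sum_eq_zero fun θ hθ => ?_
    by_contra h
    exact hχ (hfT k θ (C.D.hB_spec.1 θ hθ) χ h)
  case g_yT =>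
    intro θ χ hχ
    rw [hYsum θ.1 θ.2 χ (by simpa [orb] using hχ), Fin.sum_univ_three]
  case g_ysup =>
    intro χ hχ
    obtain ⟨θ, hθ, h⟩ := Finset.exists_ne_zero_of_sum_ne_zero hχ
    exact ⟨⟨θ, C.D.hB_spec.1 θ hθ⟩, by simpa [orb] using h⟩
  case g_cnorm =>
    intro θ
    simp only [pow_two, C.cP_norm θ.2 θ.2, C.dd_self θ.2]; norm_num
  case g_co =>
    intro θ
    apply Int.cast_injective (α := ℂ)
    rw [cP, ← coord_spec (C.gen_Psi _), Int.cast_zero]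
    exact C.inner_Psi_one _
  case g_cT =>
    intro θ k
    rw [C.cP_Y θ.2 (C.orb_ne θ.2 k), show θ.1 = C.orb θ.1 0 from rfl, show (C.orb θ.1 0).comp C.act = C.orb θ.1 1
      from rfl, show (C.orb θ.1 1).comp C.act = C.orb θ.1 2 from rfl]
    change dd (C.orb θ.1 0) (C.orb θ.1 k) - dd (C.orb θ.1 1) (C.orb θ.1 k) - dd (C.orb θ.1 2) (C.orb θ.1 k) = _
    rw [C.dd_orb θ.2, C.dd_orb θ.2, C.dd_orb θ.2]
    fin_cases k <;> simp
  case g_cTT =>
    intro θ φ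
    by_cases h : ∀ k, dd (C.orb θ.1 k) φ.1 = 0
    · refine Or.inr ⟨?_, fun χ hχ => ?_⟩
      · show ∑ χ, C.cP θ.1 χ * C.L (C.D.Yf φ.1) χ = 0
        rw [C.cP_Y θ.2 φ.2, show dd θ.1 φ.1 = 0 from h 0, show dd (θ.1.comp C.act) φ.1 = 0 from h 1,
          show dd ((θ.1.comp C.act).comp C.act) φ.1 = 0 from h 2]
        rfl
      · exact hrel θ.1 φ.1 θ.2 φ.2 h χ (by simpa [orb] using hχ)
    · push Not at h
      obtain ⟨k, hk⟩ := h
      refine Or.inl fun χ hχ => ((C.triple θ.2).supp_iff k χ).1 ?_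
      show C.L (C.D.Yf (C.orb θ.1 k)) χ ≠ 0
      rw [C.Yf_of_dd hk]
      simpa [orb] using hχ
  case g_cc =>
    intro θ φ
    rcases C.dd_le θ.2 φ.1 with h | h
    · refine Or.inr ⟨by rw [C.cP_norm θ.2 φ.2, h, add_zero], ?_⟩
      show ∑ χ, C.cP θ.1 χ * C.L (C.D.Yf φ.1) χ ≠ 1
      rw [C.cP_Y θ.2 φ.2, h]
      have := dd_nonneg (θ.1.comp C.act) φ.1
      have := dd_nonneg ((θ.1.comp C.act).comp C.act) φ.1
      omega
    · left
      funext χ
      have h0 : ∑ ψ, (C.cP θ.1 ψ - C.cP φ.1 ψ) ^ 2 = 0 := by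
        rw [Finset.sum_congr rfl (g := fun ψ => C.cP θ.1 ψ * C.cP θ.1 ψ - 2 * (C.cP θ.1 ψ * C.cP φ.1 ψ) +
          C.cP φ.1 ψ * C.cP φ.1 ψ) fun ψ _ => by ring, Finset.sum_add_distrib, Finset.sum_sub_distrib,
          ← Finset.mul_sum, C.cP_norm θ.2 θ.2, C.cP_norm θ.2 φ.2, C.cP_norm φ.2 φ.2, h, C.dd_self θ.2,
          C.dd_self φ.2]
        norm_num
      exact sub_eq_zero.1 (sq_eq_zero_iff.1
        ((Finset.sum_eq_zero_iff_of_nonneg fun ψ _ => sq_nonneg _).1 h0 χ (Finset.mem_univ _)))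
  case g_eqF0 =>
    apply Rat.cast_injective (α := ℂ)
    push_cast
    rw [C.equation (C.Ff_props 0).1, show C.Ff 0 = C.D.Zf 1 from rfl,
      C.D.r_Zf C.rr_cl C.rr_one (fun x hx h1 => C.rr_A hx h1) (fun x hx h1 => C.rr_U hx h1), if_pos rfl]
    have hG : (Nat.card G : ℂ) ≠ 0 := Nat.cast_ne_zero.2 Nat.card_pos.ne'
    field_simp
    linear_combination C.D.two_aC - (Fintype.card F : ℂ) * hε2
  case g_eqF1 =>
    apply Rat.cast_injective (α := ℂ)
    push_cast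
    rw [C.equation (C.Ff_props 1).1, show C.Ff 1 = C.D.Fp false from rfl]
    have h := C.D.r_Fp C.rr_cl C.rr_one (fun x hx h1 => C.rr_A hx h1) (fun x hx h1 => C.rr_B hx h1)
      (fun x hx h1 => C.rr_U hx h1) false
    have hd : (C.D.ε : ℂ) * Fintype.card F + 1 ≠ 0 := by
      have : C.D.ε * (Fintype.card F : ℤ) + 1 ≠ 0 := by rcases C.D.hε with h | h <;> rw [h] <;> omega
      exact_mod_cast this
    rw [eq_div_iff hd]
    linear_combination ((C.D.ε : ℂ) * (Nat.card C.S.C : ℂ) ^ 2 / (Nat.card G : ℂ)) * h -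
      ((Nat.card C.S.C : ℂ) ^ 2 / (Nat.card G : ℂ)) * classInner (C.D.Fp false) C.rr * hε2
  case g_eqY =>
    intro θ
    apply Rat.cast_injective (α := ℂ)
    push_cast
    rw [show C.orb θ.1 0 = θ.1 from rfl, C.equation (C.D.gen_Yf _)]
    have h := C.D.r_Yf C.rr_cl C.rr_one (fun x hx h1 => C.rr_B hx h1) (fun x hx h1 => C.rr_U hx h1) θ.1 θ.2
    have hd : (C.D.ε : ℂ) * Fintype.card F + 1 ≠ 0 := by
      have : C.D.ε * (Fintype.card F : ℤ) + 1 ≠ 0 := by rcases C.D.hε with h | h <;> rw [h] <;> omega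
      exact_mod_cast this
    rw [eq_div_iff hd]
    linear_combination ((C.D.ε : ℂ) * (Nat.card C.S.C : ℂ) ^ 2 / (Nat.card G : ℂ)) * h -
      ((Nat.card C.S.C : ℂ) ^ 2 / (Nat.card G : ℂ)) * classInner (C.D.Yf θ.1) C.rr * hε2
  case g_eqC =>
    intro θ
    apply Rat.cast_injective (α := ℂ)
    push_cast
    exact C.equation_Psi θ.1

/-- The order. -/
theorem order {G : Type u} [Group G] [Fintype G] {F : Type v} [Field F] [Fintype F] (C : Ctx G F) : ∃ m : ℕ, 1 ≤ m ∧ Fintype.card F = 3 ^ (2 * m + 1) ∧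
    Nat.card G = (3 ^ (2 * m + 1)) ^ 3 * ((3 ^ (2 * m + 1)) ^ 3 + 1) * (3 ^ (2 * m + 1) - 1) := by
  obtain ⟨K, hQ, hg⟩ := C.exists_coords
  obtain ⟨m, hm, h1, h2⟩ := K.ree
  refine ⟨m, hm, ?_, hg ▸ h2⟩
  rw [← h1, hQ]
  rcases C.D.hε with h | h <;> rw [h] <;> simp

end Ctx

end Cfsg.Agent.Char.ReeOrder
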