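import Cfsg.Agent.Lib.Char.ReeOrder.Reduce
import Cfsg.Agent.Lib.Fusion.BurnsideFusion
import Cfsg.Agent.Lib.Solv.OddPair.Prim
import Cfsg.Agent.Lib.OddChar.FT.NoMinimal
import Cfsg.Agent.Lib.OddChar.FT.Final
import Cfsg.Agent.S3360

/-!
# No `⟨t⟩ × PSL₂(2ⁿ)` for `n ≥ 3`

The automisers of a Sylow two-subgroup are of odd order and transitive on its involutions, hence
semilinear over a field; the stabiliser of `t` contains the torus, too large for field automorphisms.
-/

set_option autoImplicit false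
set_option linter.unusedSectionVars false
set_option linter.style.haveILetI false

namespace Cfsg.Agent.Char.ReeOrder

open Subgroup Cfsg.Agent.Char.ReeThree

universe u v

theorem two_pow_lt {q : ℕ} (hq : 5 ≤ q) : 2 * q < 2 ^ (q - 1) := by
  obtain ⟨k, rfl⟩ : ∃ k, q = k + 5 := ⟨q - 5, by omega⟩
  induction k with
  | zero => norm_num
  | succ k ih =>
    have h := ih (by omega)
    rw [show k + 1 + 5 - 1 = (k + 5 - 1) + 1 by omega, pow_succ]
    omega

variable {G : Type u} [Group G] [Finite G] (S : Split G)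
variable {F : Type v} [Field F] [Fintype F]

open Cfsg.Agent.Small

theorem even_false [IsSimpleGroup G] (e : S.K ≃* Matrix.ProjectiveSpecialLinearGroup (Fin 2) F)
    (hab : ∀ P : Sylow 2 G, ∀ a b : P, a * b = b * a) (h2 : (2 : F) = 0) (hq : 5 ≤ Fintype.card F) :
    False := by
  classical
  haveI : Fact (Nat.Prime 2) := ⟨Nat.prime_two⟩
  haveI : CharP F 2 := CharTwo.of_one_ne_zero_of_two_eq_zero one_ne_zero h2
  let w : F → G := fun x => ((e.symm (PSL2.pr (PSL2.uS x)) : S.K) : G)
  have hwK : ∀ x, w x ∈ S.K := fun x => (e.symm (PSL2.pr (PSL2.uS x))).2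
  have hw0 : w 0 = 1 := by
    show ((e.symm (PSL2.pr (PSL2.uS (0 : F))) : S.K) : G) = 1
    rw [show PSL2.pr (PSL2.uS (0 : F)) = 1 from PSL2.uP.map_one, map_one]; rfl
  have hwmul : ∀ x y, w x * w y = w (x + y) := fun x y => by
    show _ = ((e.symm (PSL2.pr (PSL2.uS (x + y))) : S.K) : G)
    rw [PSL2.uS_add, map_mul, map_mul]; rfl
  have hwinj : ∀ x y, w x = w y → x = y := fun x y h =>
    PSL2.pr_uS_inj (e.symm.injective (Subtype.ext h))
  have hwsq : ∀ x, w x * w x = 1 := fun x => by
    rw [hwmul, show x + x = 0 by linear_combination x * h2, hw0]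
  have hwt : ∀ x, w x * S.t = S.t * w x := fun x => S.comm_t (hwK x)
  -- a Sylow subgroup containing `t` and the root group
  let W : Subgroup G :=
    { carrier := {g | ∃ x, g = w x}
      one_mem' := ⟨0, hw0.symm⟩
      mul_mem' := by rintro _ _ ⟨x, rfl⟩ ⟨y, rfl⟩; exact ⟨x + y, hwmul x y⟩
      inv_mem' := by rintro _ ⟨x, rfl⟩; exact ⟨x, inv_eq_of_mul_eq_one_left (hwsq x)⟩ }
  have hW2 : IsPGroup 2 W := by
    rintro ⟨g, x, rfl⟩
    exact ⟨1, Subtype.ext (by rw [pow_one, pow_two]; exact hwsq x)⟩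
  have ht2 : IsPGroup 2 (zpowers S.t) := IsPGroup.of_card (n := 1) (by rw [Nat.card_zpowers, S.ht, pow_one])
  have hn : zpowers S.t ≤ normalizer (W : Set G) := by
    rw [zpowers_le]
    refine centralizer_le_normalizer _ (mem_centralizer_iff.2 ?_)
    rintro g ⟨x, rfl⟩
    exact hwt x
  obtain ⟨P, hP⟩ := (ht2.to_sup_of_normal_right' hW2 hn).exists_le_sylow
  have htP : S.t ∈ P := hP (mem_sup_left (mem_zpowers _))
  have hwP : ∀ x, w x ∈ P := fun x => hP (mem_sup_right ⟨x, rfl⟩)
  have hPC := sylow_le S hab P htP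
  have hcomm : ∀ a ∈ (P : Subgroup G), ∀ b ∈ (P : Subgroup G), a * b = b * a := fun a ha b hb =>
    congrArg Subtype.val (hab P ⟨a, ha⟩ ⟨b, hb⟩)
  have hcases : ∀ g ∈ (P : Subgroup G), ∃ x, g = w x ∨ g = S.t * w x := by
    intro g hg
    have hkey : ∀ y ∈ S.K, y ∈ (P : Subgroup G) → ∃ x, y = w x := by
      intro y hy hyP
      have hc : Commute (e ⟨y, hy⟩) (PSL2.pr (PSL2.uS (1 : F))) := by
        have h : (⟨y, hy⟩ : S.K) * e.symm (PSL2.pr (PSL2.uS 1)) = e.symm (PSL2.pr (PSL2.uS 1)) * ⟨y, hy⟩ :=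
          Subtype.ext (hcomm y hyP _ (hwP 1))
        have h' := congrArg e h
        rwa [map_mul, map_mul, e.apply_symm_apply] at h'
      obtain ⟨x, hx⟩ := (PSL2.mem_U _).1 (PSL2.mem_U_of_commute one_ne_zero hc)
      refine ⟨x, ?_⟩
      show y = ((e.symm (PSL2.pr (PSL2.uS x)) : S.K) : G)
      rw [hx, e.symm_apply_apply]
    rcases S.split (hPC hg) with h | h
    · obtain ⟨x, hx⟩ := hkey g h hg
      exact ⟨x, Or.inl hx⟩
    · obtain ⟨x, hx⟩ := hkey _ h (mul_mem htP hg)
      exact ⟨x, Or.inr (by rw [← hx, ← mul_assoc, S.sq_t, one_mul])⟩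
  have hsq : ∀ g ∈ (P : Subgroup G), g * g = 1 := by
    intro g hg
    obtain ⟨x, rfl | rfl⟩ := hcases g hg
    · exact hwsq x
    · rw [show S.t * w x * (S.t * w x) = S.t * (w x * S.t) * w x by group, hwt,
        show S.t * (S.t * w x) * w x = (S.t * S.t) * (w x * w x) by group, S.sq_t, hwsq, one_mul]
  have hcardP : Nat.card (P : Subgroup G) ≤ 2 * Fintype.card F := by
    have := Nat.card_le_card_of_surjective (fun p : Bool × F => (⟨if p.1 then S.t * w p.2 else w p.2, by
      split
      · exact mul_mem htP (hwP _)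
      · exact hwP _⟩ : (P : Subgroup G))) (fun g => by
        obtain ⟨x, h | h⟩ := hcases g g.2
        · exact ⟨(false, x), Subtype.ext h.symm⟩
        · exact ⟨(true, x), Subtype.ext h.symm⟩)
    rwa [Nat.card_prod, Nat.card_eq_fintype_card (α := Bool), Fintype.card_bool,
      Nat.card_eq_fintype_card (α := F)] at this
  -- the automisers
  letI : CommGroup (P : Subgroup G) :=
    { (inferInstance : Group (P : Subgroup G)) with mul_comm := fun a b => hab P a b }
  set N := normalizer ((P : Subgroup G) : Set G) with hN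
  let Ψ : N →* MulAut (P : Subgroup G) := (P : Subgroup G).normalizerMonoidHom
  have hΨ : ∀ (n : N) (x : (P : Subgroup G)), ((Ψ n x : (P : Subgroup G)) : G) = n * x * (n : G)⁻¹ :=
    fun n x => rfl
  set A : Subgroup (MulAut (P : Subgroup G)) := Ψ.range with hA
  have hPc : (P : Subgroup G) ≤ centralizer ((P : Subgroup G) : Set G) := fun x hx =>
    mem_centralizer_iff.mpr fun y hy => hcomm y hy x hx
  have hAodd : Odd (Nat.card A) := by
    have hAcard : Nat.card A = (centralizer ((P : Subgroup G) : Set G)).relIndex N := by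
      rw [hA, ← index_ker, show Ψ.ker = (centralizer ((P : Subgroup G) : Set G)).subgroupOf N from
        (P : Subgroup G).normalizerMonoidHom_ker]
      rfl
    rw [hAcard]
    have h1 : (centralizer ((P : Subgroup G) : Set G)).relIndex N ∣ (P : Subgroup G).relIndex N :=
      relIndex_dvd_of_le_left N hPc
    have h3 : (P : Subgroup G).relIndex N ∣ (P : Subgroup G).index :=
      relIndex_dvd_index_of_le (P : Subgroup G).le_normalizer
    exact Nat.not_even_iff_odd.mp fun he => P.not_dvd_index ((he.two_dvd.trans h1).trans h3)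
  have hsol : Group.IsSolvable A :=
    OddFT.odd_solvable_of_no_min (fun _ _ _ h => OddFT.no_minSimple _ h) hAodd
  have hzero : ∀ v : Additive (P : Subgroup G), 2 • v = 0 := fun v => by
    rw [two_nsmul]
    exact Additive.toMul.injective (Subtype.ext (hsq _ (Additive.toMul v).2))
  letI : Module (ZMod 2) (Additive (P : Subgroup G)) := AddCommGroup.zmodModule hzero
  let ρ : A →* (Additive (P : Subgroup G) ≃ₗ[ZMod 2] Additive (P : Subgroup G)) :=
    { toFun := fun a =>
        { AddMonoidHom.toZModLinearMap 2 (MulEquiv.toAdditive (a : MulAut (P : Subgroup G))).toAddMonoidHom with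
          invFun := fun v => (MulEquiv.toAdditive (a : MulAut (P : Subgroup G))).symm v
          left_inv := fun v => (MulEquiv.toAdditive (a : MulAut (P : Subgroup G))).symm_apply_apply v
          right_inv := fun v => (MulEquiv.toAdditive (a : MulAut (P : Subgroup G))).apply_symm_apply v }
      map_one' := LinearEquiv.ext fun v => rfl
      map_mul' := fun a b => LinearEquiv.ext fun v => rfl }
  have hρval : ∀ (a : A) (v : Additive (P : Subgroup G)),
      ρ a v = Additive.ofMul ((a : MulAut (P : Subgroup G)) (Additive.toMul v)) := fun a v => rfl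
  have hρ : Function.Injective ρ := fun a b h => Subtype.ext (MulEquiv.ext fun x => by
    simpa [hρval] using DFunLike.congr_fun h (Additive.ofMul x))
  have ht1 : S.t ≠ 1 := fun h => by have := S.ht; rw [h, orderOf_one] at this; omega
  set v₀ : Additive (P : Subgroup G) := Additive.ofMul ⟨S.t, htP⟩
  haveI : Nontrivial (Additive (P : Subgroup G)) :=
    ⟨v₀, 0, fun h => ht1 (congrArg (fun v : Additive (P : Subgroup G) => ((Additive.toMul v : (P : Subgroup G)) : G)) h)⟩
  have hone := one_class_psl S e (by omega) hab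
  have htrans : ∀ v v' : Additive (P : Subgroup G), v ≠ 0 → v' ≠ 0 → ∃ a : A, ρ a v = v' := by
    intro v v' hv hv'
    have hord : ∀ u : Additive (P : Subgroup G), u ≠ 0 → orderOf ((Additive.toMul u : (P : Subgroup G)) : G) = 2 := fun u hu =>
      orderOf_eq_prime (by rw [pow_two]; exact hsq _ (Additive.toMul u).2)
        fun h => hu (Additive.toMul.injective (Subtype.ext h))
    obtain ⟨g, hg⟩ := isConj_iff.1 ((hone _ (hord v hv)).symm.trans (hone _ (hord v' hv')))
    have hSyl : Fusion.SylIn 2 (P : Subgroup G) ⊤ :=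
      ⟨le_top, P.isPGroup', by rw [relIndex_top_right]; exact P.not_dvd_index⟩
    obtain ⟨n, hn, hne⟩ := Fusion.fusion_of_abelian hSyl hPc (Additive.toMul v).2
      (g := g) (by rw [hg]; exact (Additive.toMul v').2)
    refine ⟨⟨Ψ ⟨n, hn⟩, ⟨_, rfl⟩⟩, ?_⟩
    rw [hρval]
    exact congrArg Additive.ofMul (Subtype.ext (show ((Ψ ⟨n, hn⟩ _ : (P : Subgroup G)) : G) = _ by
      rw [hΨ]; exact hne.trans hg))
  rcases S3360.result 2 hsol ρ hρ htrans with ⟨F₂, iF, iFF, ε, hε⟩ | h
  swap
  · obtain ⟨k, hk⟩ := IsPGroup.iff_card.1 P.isPGroup'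
    have hk' : Nat.card (Additive (P : Subgroup G)) = 2 ^ k := hk
    have heven : 2 ∣ Nat.card (Additive (P : Subgroup G)) := by
      have h1 : 1 < Nat.card (Additive (P : Subgroup G)) := Finite.one_lt_card
      rw [hk'] at h1 ⊢
      exact dvd_pow_self 2 (fun e0 => by rw [e0] at h1; simp at h1)
    rcases h with h | h | h | h | h | h <;> rw [h] at heven <;> omega
  -- the torus
  have hcu : ∀ (c : Fˣ) (x : F),
      ((e.symm (PSL2.pr (PSL2.hS c)) : S.K) : G) * w x * ((e.symm (PSL2.pr (PSL2.hS c)) : S.K) : G)⁻¹ =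
        w ((c : F) ^ 2 * x) := by
    intro c x
    show _ = ((e.symm (PSL2.pr (PSL2.uS ((c : F) ^ 2 * x))) : S.K) : G)
    rw [← PslFacts.hS_conj c x, map_mul, map_mul, map_inv]
    rfl
  have hct : ∀ c : Fˣ, ((e.symm (PSL2.pr (PSL2.hS c)) : S.K) : G) * S.t *
      ((e.symm (PSL2.pr (PSL2.hS c)) : S.K) : G)⁻¹ = S.t := fun c => by
    rw [S.comm_t (e.symm (PSL2.pr (PSL2.hS c))).2, mul_inv_cancel_right]
  have hnorm : ∀ c : Fˣ, ((e.symm (PSL2.pr (PSL2.hS c)) : S.K) : G) ∈ N := by
    intro c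
    refine Fusion.mem_normalizer_of_cj_le ?_
    rintro _ ⟨g, hg, rfl⟩
    show MulAut.conj _ g ∈ (P : Subgroup G)
    rw [MulAut.conj_apply]
    obtain ⟨x, rfl | rfl⟩ := hcases g hg
    · rw [hcu]; exact hwP _
    · have hh : ((e.symm (PSL2.pr (PSL2.hS c)) : S.K) : G) * (S.t * w x) *
          ((e.symm (PSL2.pr (PSL2.hS c)) : S.K) : G)⁻¹ =
          (((e.symm (PSL2.pr (PSL2.hS c)) : S.K) : G) * S.t * ((e.symm (PSL2.pr (PSL2.hS c)) : S.K) : G)⁻¹) *
          (((e.symm (PSL2.pr (PSL2.hS c)) : S.K) : G) * w x * ((e.symm (PSL2.pr (PSL2.hS c)) : S.K) : G)⁻¹) := by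
        group
      rw [hh, hct, hcu]
      exact mul_mem htP (hwP _)
  let act : Fˣ → A := fun c => ⟨Ψ ⟨_, hnorm c⟩, ⟨_, rfl⟩⟩
  choose α σ hασ using hε
  have hfix : ∀ c, ρ (act c) v₀ = v₀ := fun c => by
    rw [hρval]
    exact congrArg Additive.ofMul (Subtype.ext (show ((Ψ ⟨_, hnorm c⟩ _ : (P : Subgroup G)) : G) = _ by
      rw [hΨ]; exact hct c))
  have hinj : Function.Injective (fun c => σ (act c)) := by
    intro c c' h
    have h0 : ε v₀ ≠ 0 := fun h0 => by
      have := ε.injective (h0.trans ε.map_zero.symm)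
      exact ht1 (congrArg (fun v : Additive (P : Subgroup G) => ((Additive.toMul v : (P : Subgroup G)) : G)) this)
    have hα : α (act c) = α (act c') := by
      have e1 := hασ (act c) v₀
      have e2 := hασ (act c') v₀
      rw [hfix] at e1 e2
      have h' : σ (act c) = σ (act c') := h
      rw [← h'] at e2
      exact mul_right_cancel₀ ((map_ne_zero_iff _ (σ (act c)).injective).2 h0) (e1.symm.trans e2)
    have hsame : ρ (act c) = ρ (act c') := LinearEquiv.ext fun v => ε.injective (by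
      rw [hασ, hασ, hα, show σ (act c) = σ (act c') from h])
    have h1 := congrArg (fun v : Additive (P : Subgroup G) => ((Additive.toMul v : (P : Subgroup G)) : G))
      (DFunLike.congr_fun hsame (Additive.ofMul ⟨w 1, hwP 1⟩))
    rw [hρval, hρval] at h1
    have h3 : w ((c : F) ^ 2 * 1) = w ((c' : F) ^ 2 * 1) := by
      rw [← hcu c 1, ← hcu c' 1]; exact h1
    have h4 := hwinj _ _ h3
    refine Units.ext (sub_eq_zero.1 ((sq_eq_zero_iff (a := (c : F) - (c' : F))).1 ?_))
    linear_combination h4 + ((c' : F) ^ 2 - (c : F) * c') * h2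
  haveI := iFF
  haveI : Finite (F₂ ≃+* F₂) := Finite.of_injective _ DFunLike.coe_injective
  obtain ⟨p, f, hp, hcard, hle⟩ := Solv.OddPair.ringAut_card_le F₂
  have h1 := (Nat.card_le_card_of_injective _ hinj).trans hle
  rw [Nat.card_units, Nat.card_eq_fintype_card] at h1
  have h5 : 2 ^ f ≤ 2 * Fintype.card F := by
    refine ((Nat.pow_le_pow_left hp.two_le f).trans_eq hcard.symm).trans ?_
    rw [← Nat.card_congr ε.toEquiv]
    exact hcardP
  have := two_pow_lt hq
  have := Nat.pow_le_pow_right (show 0 < 2 by norm_num) h1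
  omega

end Cfsg.Agent.Char.ReeOrder
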