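import Cfsg.Agent.Lib.Char.ReeOrder.Reduce
import Cfsg.Agent.Lib.Lie.ConstrainedRank.Classify
import Cfsg.Agent.Lib.Fusion.Basic
import Cfsg.Agent.S0251
import Cfsg.Agent.S0252
import Cfsg.Agent.S0253
import Cfsg.Agent.S0448
import Cfsg.Agent.S3189

/-!
# The centralisers `⟨t⟩ × PSL₂(q)`, `q ≤ 5`
-/

set_option autoImplicit false
set_option linter.unusedSectionVars false
set_option linter.style.haveILetI false

namespace Cfsg.Agent.Char.ReeOrder

open Subgroup Cfsg.Agent.Char.ReeThree

universe u v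

variable {G : Type u} [Group G] [Finite G] (S : Split G)
variable {F : Type v} [Field F] [Fintype F]

theorem four_five_j1 [IsSimpleGroup G] (hab : ∀ P : Sylow 2 G, ∀ a b : P, a * b = b * a)
    (hq : Fintype.card F = 4 ∨ Fintype.card F = 5)
    (e : S.C ≃* Multiplicative (ZMod 2) × Matrix.ProjectiveSpecialLinearGroup (Fin 2) F) :
    Cfsg.IsJ1 G := by
  obtain ⟨a5⟩ : Nonempty (Matrix.ProjectiveSpecialLinearGroup (Fin 2) F ≃* alternatingGroup (Fin 5)) := by
    rcases hq with h | h
    · exact S0252.result h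
    · exact S0253.result h
  obtain ⟨P, hP⟩ := exists_sylow_t S
  exact S0448.result S.t ⟨S.ht, P, hP, fun x hx => S.mem_C.1 (sylow_le S hab P hP hx)⟩
    (e.trans ((MulEquiv.refl _).prodCongr a5))

theorem a4_pow_four : ∀ a : alternatingGroup (Fin 4), a ^ 4 = 1 → a * a = 1 := by decide

theorem a4_sq_mul : ∀ a b : alternatingGroup (Fin 4), a * a = 1 → b * b = 1 → a * b * (a * b) = 1 := by decide

theorem a4_sq_comm : ∀ a b : alternatingGroup (Fin 4), a * a = 1 → b * b = 1 → a * b = b * a := by decide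

theorem a4_witness : ∃ r s : alternatingGroup (Fin 4), r * r * r = 1 ∧ s * s = 1 ∧ r * s ≠ s * r := by decide

theorem a4_card : Nat.card (alternatingGroup (Fin 4)) = 12 := by
  rw [Nat.card_eq_fintype_card]; decide

theorem three_false [IsSimpleGroup G] (hab : ∀ P : Sylow 2 G, ∀ a b : P, a * b = b * a)
    (hq : Fintype.card F = 3) (e0 : S.K ≃* Matrix.ProjectiveSpecialLinearGroup (Fin 2) F) : False := by
  classical
  haveI : Fact (Nat.Prime 2) := ⟨Nat.prime_two⟩
  have hone := one_class_psl S e0 (by omega) hab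
  obtain ⟨a4⟩ := S0251.result hq
  let e : S.K ≃* alternatingGroup (Fin 4) := e0.trans a4
  obtain ⟨r0, s0, hr3, hs2, hrs⟩ := a4_witness
  set r : G := ((e.symm r0 : S.K) : G) with hr
  set s : G := ((e.symm s0 : S.K) : G) with hs
  -- square roots of one in `C`
  have hCmem : ∀ x ∈ S.C, ∃ k : S.K, x = (k : G) ∨ x = S.t * (k : G) := by
    intro x hx
    rcases S.split hx with h | h
    · exact ⟨⟨x, h⟩, Or.inl rfl⟩
    · refine ⟨⟨_, h⟩, Or.inr ?_⟩
      show x = S.t * (S.t * x)
      rw [← mul_assoc, S.sq_t, one_mul]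
  have hcomm : ∀ k : S.K, (k : G) * S.t = S.t * (k : G) := fun k => S.comm_t k.2
  have hsqt : ∀ k : S.K, S.t * (k : G) * (S.t * (k : G)) = (k : G) * k := fun k => by
    rw [show S.t * (k : G) * (S.t * (k : G)) = S.t * ((k : G) * S.t) * k by group, hcomm,
      show S.t * (S.t * (k : G)) * k = (S.t * S.t) * ((k : G) * k) by group, S.sq_t, one_mul]
  let T : Subgroup G :=
    { carrier := {x | x ∈ S.C ∧ x * x = 1}
      one_mem' := ⟨one_mem _, one_mul _⟩
      mul_mem' := by
        rintro a b ⟨ha, ha2⟩ ⟨hb, hb2⟩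
        refine ⟨mul_mem ha hb, ?_⟩
        have hab' : a * b = b * a := by
          obtain ⟨k, rfl | rfl⟩ := hCmem a ha <;> obtain ⟨l, rfl | rfl⟩ := hCmem b hb <;>
            (try rw [hsqt] at ha2) <;> (try rw [hsqt] at hb2) <;>
            (have h := a4_sq_comm (e k) (e l) (by rw [← map_mul, show k * k = 1 from Subtype.ext ha2, map_one])
              (by rw [← map_mul, show l * l = 1 from Subtype.ext hb2, map_one])
             rw [← map_mul, ← map_mul] at h
             have hkl : (k : G) * l = l * k := congrArg Subtype.val (e.injective h))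
          · exact hkl
          · rw [← mul_assoc, hcomm k, mul_assoc, hkl, ← mul_assoc]
          · rw [mul_assoc, hkl, ← mul_assoc (l : G), hcomm l, mul_assoc]
          · calc S.t * (k : G) * (S.t * (l : G)) = S.t * ((k : G) * S.t) * l := by group
              _ = S.t * (S.t * (k : G)) * l := by rw [hcomm k]
              _ = S.t * S.t * ((k : G) * l) := by group
              _ = S.t * S.t * ((l : G) * k) := by rw [hkl]
              _ = S.t * (S.t * (l : G)) * k := by group
              _ = S.t * ((l : G) * S.t) * k := by rw [hcomm l]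
              _ = S.t * (l : G) * (S.t * (k : G)) := by group
        rw [show a * b * (a * b) = a * (b * a) * b by group, ← hab',
          show a * (a * b) * b = (a * a) * (b * b) by group, ha2, hb2, one_mul]
      inv_mem' := by
        rintro a ⟨ha, ha2⟩
        exact ⟨inv_mem ha, by rw [← mul_inv_rev, ha2, inv_one]⟩ }
  have hTp : IsPGroup 2 T := fun x => ⟨1, Subtype.ext (by rw [pow_one, pow_two]; exact x.2.2)⟩
  obtain ⟨P, hTP⟩ := hTp.exists_le_sylow
  have htP : S.t ∈ P := hTP ⟨S.t_mem_C, S.sq_t⟩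
  have hPC := sylow_le S hab P htP
  have h4 : ∀ k : S.K, (k : G) ^ 4 = 1 → (k : G) * k = 1 := fun k hk => by
    have h := a4_pow_four (e k) (by
      rw [← map_pow, show k ^ 4 = 1 from Subtype.ext (by rw [Subgroup.coe_pow]; exact hk), map_one])
    rw [← map_mul] at h
    exact congrArg Subtype.val (e.injective (h.trans (map_one e).symm))
  have hPT : (P : Subgroup G) = T := by
    refine le_antisymm (fun x hx => ⟨hPC hx, ?_⟩) hTP
    obtain ⟨j, hj⟩ := P.isPGroup' ⟨x, hx⟩
    have hj' : x ^ 2 ^ j = 1 := congrArg Subtype.val hj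
    have step : ∀ y ∈ S.C, y ^ 4 = 1 → y * y = 1 := by
      intro y hy hy4
      obtain ⟨k, rfl | rfl⟩ := hCmem y hy
      · exact h4 k hy4
      · rw [hsqt]
        apply h4
        rw [show (4 : ℕ) = 2 * 2 from rfl, pow_mul, pow_two, pow_two, hsqt] at hy4
        rw [show (4 : ℕ) = 2 * 2 from rfl, pow_mul, pow_two, pow_two]
        exact hy4
    clear hj
    induction j generalizing x with
    | zero => rw [pow_zero, pow_one] at hj'; rw [hj', one_mul]
    | succ j ih =>
      by_cases h : x * x = 1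
      · exact h
      · have hxx := ih (x * x) (mul_mem hx hx) (by rw [← pow_two, ← pow_mul, ← pow_succ']; exact hj')
        exact step x (hPC hx) (by rw [show (4 : ℕ) = 2 * 2 from rfl, pow_mul, pow_two, pow_two]; exact hxx)
  have hT2 : ∀ x ∈ T, x ∈ S.C ∧ x * x = 1 := fun x hx => hx
  have hnc : ¬ IsMulCommutative G := fun h => hrs (by
    have h' : e.symm r0 * e.symm s0 = e.symm s0 * e.symm r0 := Subtype.ext (h.is_comm.comm r s)
    rw [← map_mul, ← map_mul] at h'
    exact e.symm.injective h')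
  have hel : Cfsg.IsElementaryAbelian 2 (P : Subgroup G) :=
    ⟨⟨⟨fun a b => hab P a b⟩⟩, fun x hx => by rw [pow_two]; exact (hT2 x (hPT ▸ hx)).2⟩
  have hcardC : Nat.card S.C = 24 := by
    haveI := Fintype.ofFinite G
    rw [S.card_C, Nat.card_congr e.toEquiv, a4_card]
  have h8 : Nat.card (P : Subgroup G) = 8 := by
    obtain ⟨j, hj⟩ := IsPGroup.iff_card.1 P.isPGroup'
    have hd : Nat.card (P : Subgroup G) ∣ 24 := hcardC ▸ card_dvd_of_le hPC
    have hG : 8 ∣ Nat.card G :=
      ((show 8 ∣ 24 by norm_num).trans (hcardC ▸ dvd_refl _)).trans (card_subgroup_dvd_card S.C)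
    have h8' : 8 ∣ Nat.card (P : Subgroup G) := P.pow_dvd_card_of_pow_dvd_card (n := 3) hG
    have hle := Nat.le_of_dvd (by norm_num) hd
    rw [hj] at hd h8' hle ⊢
    obtain ⟨i, hi⟩ := h8'
    have : i ≤ 3 := by omega
    interval_cases i
    · simp at hi
    · omega
    · exact absurd hd (by rw [hi]; norm_num)
    · rw [hi]
      exact absurd (show (3 : ℕ) ∣ 2 ^ j by rw [hi]; norm_num) fun h3 => by
        have := (Nat.prime_dvd_prime_iff_eq Nat.prime_three Nat.prime_two).1 (Nat.prime_three.dvd_of_dvd_pow h3)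
        omega
  have hsolv : ∀ x : G, orderOf x = 2 → Group.IsSolvable ↥(centralizer ({x} : Set G)) := by
    intro x hx
    obtain ⟨c, hc⟩ := isConj_iff.1 (hone x hx)
    refine Lie.ConstrainedRank.solvable_lt_sixty 24 ?_ (by norm_num)
    rw [← hcardC]
    refine (Nat.card_congr ((MulAut.conj c).toEquiv.subtypeEquiv fun y => ?_)).symm
    show _ ↔ c * y * c⁻¹ ∈ centralizer ({x} : Set G)
    rw [S.mem_C, mem_centralizer_singleton_iff, ← hc]
    constructor
    · intro h
      rw [show c * y * c⁻¹ * (c * S.t * c⁻¹) = c * (y * S.t) * c⁻¹ by group, h]; group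
    · intro h
      calc y * S.t = c⁻¹ * (c * y * c⁻¹ * (c * S.t * c⁻¹)) * c := by group
        _ = c⁻¹ * (c * S.t * c⁻¹ * (c * y * c⁻¹)) * c := by rw [h]
        _ = S.t * y := by group
  have h7 := S3189.result hnc P hel h8 hsolv
  set N := normalizer ((P : Subgroup G) : Set G) with hN
  have hrN : r ∈ N := by
    refine Fusion.mem_normalizer_of_cj_le ?_
    rintro _ ⟨x, hx, rfl⟩
    show MulAut.conj r x ∈ (P : Subgroup G)
    rw [MulAut.conj_apply, hPT]
    have hrC : r ∈ S.C := S.K_le (e.symm r0).2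
    obtain ⟨hxC, hx2⟩ := hT2 x (hPT ▸ hx)
    refine ⟨mul_mem (mul_mem hrC hxC) (inv_mem hrC), ?_⟩
    rw [show r * x * r⁻¹ * (r * x * r⁻¹) = r * (x * x) * r⁻¹ by group, hx2, mul_one, mul_inv_cancel]
  set Ψ := (P : Subgroup G).normalizerMonoidHom with hΨ
  have hcard7 : Nat.card Ψ.range = 7 := by
    rw [← index_ker, (P : Subgroup G).normalizerMonoidHom_ker]
    exact h7
  have hr3' : (⟨r, hrN⟩ : N) ^ 3 = 1 := Subtype.ext (by
    show r ^ 3 = 1
    rw [pow_succ, pow_two, hr, ← Subgroup.coe_mul, ← Subgroup.coe_mul, ← map_mul, ← map_mul, hr3, map_one]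
    rfl)
  let a : Ψ.range := ⟨Ψ ⟨r, hrN⟩, ⟨_, rfl⟩⟩
  have ha3 : a ^ 3 = 1 := Subtype.ext (by
    show Ψ ⟨r, hrN⟩ ^ 3 = 1
    rw [← map_pow, hr3', map_one])
  have ha7 : a ^ 7 = 1 := by rw [← hcard7]; exact pow_card_eq_one'
  have ha : a = 1 := by
    rw [show (7 : ℕ) = 3 * 2 + 1 from rfl, pow_succ, pow_mul, ha3, one_pow, one_mul] at ha7
    exact ha7
  have hsP : s ∈ (P : Subgroup G) := hPT ▸ ⟨S.K_le (e.symm s0).2, by
    rw [hs, ← Subgroup.coe_mul, ← map_mul, hs2, map_one]; rfl⟩
  have h0 : Ψ ⟨r, hrN⟩ ⟨s, hsP⟩ = ⟨s, hsP⟩ :=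
    DFunLike.congr_fun (congrArg Subtype.val ha : Ψ ⟨r, hrN⟩ = 1) ⟨s, hsP⟩
  have h1 : r * s * r⁻¹ = s := congrArg Subtype.val h0
  apply hrs
  have h2 : e.symm r0 * e.symm s0 = e.symm s0 * e.symm r0 := Subtype.ext (mul_inv_eq_iff_eq_mul.1 h1)
  rw [← map_mul, ← map_mul] at h2
  exact e.symm.injective h2

end Cfsg.Agent.Char.ReeOrder
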