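import Cfsg.Agent.Lib.Char.ReeOrder.Assemble
import Cfsg.Agent.Lib.Char.ReeOrder.EvenField
import Cfsg.Agent.Lib.Char.ReeOrder.SmallField

/-!
# The order of a simple group with involution centraliser `⟨t⟩ × PSL₂(q)`, from the local lemma
-/

set_option autoImplicit false
set_option linter.unusedSectionVars false
set_option linter.style.haveILetI false

open Cfsg

namespace Cfsg.Agent.Char.ReeOrder

open Subgroup Cfsg.Agent.Char.ReeThree

universe u v

theorem order_or_j1 (hloc : LocalFpfStatement.{u, v}) {G : Type u} [Group G] [Finite G] [IsSimpleGroup G]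
    (hab : ∀ P : Sylow 2 G, ∀ a b : P, a * b = b * a)
    {F : Type v} [Field F] [Fintype F] (hq : 3 ≤ Fintype.card F) (t : G) (ht : orderOf t = 2)
    (hC : Nonempty (centralizer ({t} : Set G) ≃*
      Multiplicative (ZMod 2) × Matrix.ProjectiveSpecialLinearGroup (Fin 2) F)) :
    (∃ m : ℕ, 1 ≤ m ∧ Fintype.card F = 3 ^ (2 * m + 1) ∧
        Nat.card G = (3 ^ (2 * m + 1)) ^ 3 * ((3 ^ (2 * m + 1)) ^ 3 + 1) * (3 ^ (2 * m + 1) - 1)) ∨
      ((Fintype.card F = 4 ∨ Fintype.card F = 5) ∧ Cfsg.IsJ1 G) := by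
  obtain ⟨eC⟩ := hC
  obtain ⟨S, rfl, ⟨e⟩⟩ := exists_split hq ht eC
  by_cases hq3 : Fintype.card F = 3
  · exact (three_false S hab hq3 e).elim
  by_cases h45 : Fintype.card F = 4 ∨ Fintype.card F = 5
  · exact Or.inr ⟨h45, four_five_j1 S hab h45 eC⟩
  push Not at h45
  by_cases h2 : (2 : F) = 0
  · exact (even_false S e hab h2 (by omega)).elim
  have hq8 := mod_eight S e h2 hab
  have hq5 : 5 < Fintype.card F := by omega
  have hconj := one_class_psl S e hq hab
  obtain ⟨D⟩ := exists_kd e hq8 hq5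
  haveI := Fintype.ofFinite G
  exact Or.inl (Ctx.order ⟨S, D, hconj, hab, hloc G S F ⟨⟨e⟩, hq8, hq5, hconj, hab⟩⟩)

end Cfsg.Agent.Char.ReeOrder
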