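import Cfsg.Agent.Lib.Char.ReeOrder.KInner

/-!
# The regular identity, values on `B`, and the inner products with the pair count
-/

set_option autoImplicit false
set_option linter.unusedSectionVars false
set_option linter.style.haveILetI false

open Cfsg
open scoped ComplexConjugate Classical

namespace Cfsg.Agent.Char.ReeOrder

open Subgroup

universe u v

theorem gen_of_char {G : Type u} [Group G] {θ : G → ℂ} (h : IsCharacter G θ) : IsGeneralizedCharacter G θ :=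
  ⟨θ, 0, h, isCharacter_zero, (sub_zero θ).symm⟩

namespace KD

variable {P : Type u} [Group P] [Fintype P] {F : Type v} [Field F] [Fintype F] (D : KD P F)

noncomputable local instance : Fintype (D.A →* ℂˣ) := by
  haveI := finite_hom_units D.A; exact Fintype.ofFinite _

noncomputable local instance : Fintype (D.B →* ℂˣ) := by
  haveI := finite_hom_units D.B; exact Fintype.ofFinite _

theorem delta2_inv_left {X : Type u} [CommGroup X] (x y : X) : delta2 x⁻¹ y = delta2 x y := by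
  simp only [delta2, inv_mul_eq_one, inv_eq_iff_mul_eq_one]; ring

theorem delta2_symm {X : Type u} [CommGroup X] (x y : X) : delta2 x y = delta2 y x := by
  simp only [delta2, eq_comm (a := x) (b := y), mul_comm x y]

theorem IA_inv (θ : D.A →* ℂˣ) : D.IA θ⁻¹ = D.IA θ := by
  rw [← sub_eq_zero]
  apply classInner_self_eq_zero
  simp only [classInner_sub_left, classInner_sub_right, D.inner_AA]
  rw [delta2_symm (X := D.A →* ℂˣ) θ θ⁻¹, delta2_inv_left (X := D.A →* ℂˣ) θ θ,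
    delta2_inv_left (X := D.A →* ℂˣ) θ θ⁻¹, delta2_symm (X := D.A →* ℂˣ) θ θ⁻¹,
    delta2_inv_left (X := D.A →* ℂˣ) θ θ]
  ring

theorem IB_inv (θ : D.B →* ℂˣ) : D.IB θ⁻¹ = D.IB θ := by
  rw [← sub_eq_zero]
  apply classInner_self_eq_zero
  simp only [classInner_sub_left, classInner_sub_right, D.inner_BB]
  rw [delta2_symm (X := D.B →* ℂˣ) θ θ⁻¹, delta2_inv_left (X := D.B →* ℂˣ) θ θ,
    delta2_inv_left (X := D.B →* ℂˣ) θ θ⁻¹, delta2_symm (X := D.B →* ℂˣ) θ θ⁻¹,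
    delta2_inv_left (X := D.B →* ℂˣ) θ θ]
  ring

theorem Zf_inv (θ : D.A →* ℂˣ) : D.Zf θ⁻¹ = D.Zf θ := by rw [Zf, Zf, D.IA_inv]

theorem Yf_inv (θ : D.B →* ℂˣ) : D.Yf θ⁻¹ = D.Yf θ := by rw [Yf, Yf, D.IB_inv]

theorem sum_IA (g : P) : ∑ θ : D.A →* ℂˣ, D.IA θ g = if g = 1 then (Nat.card P : ℂ) else 0 := by
  have hcomm : ∀ x y : D.A, x * y = y * x := fun x y => Subtype.ext (D.A_comm x x.2 y y.2)
  simp only [IA, indFun]
  rw [← Finset.mul_sum, Finset.sum_comm]
  have hx : ∀ x : P, ∑ θ : D.A →* ℂˣ, extendByZero D.A (fun a => (θ a : ℂ)) (x⁻¹ * g * x) =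
      if g = 1 then (D.a : ℂ) else 0 := by
    intro x
    by_cases h : x⁻¹ * g * x ∈ D.A
    · simp only [extendByZero_mem D.A _ h]
      rw [sum_hom_apply hcomm, D.card_A]
      refine if_congr ?_ rfl rfl
      rw [Subtype.ext_iff]
      show x⁻¹ * g * x = 1 ↔ g = 1
      rw [mul_eq_one_iff_eq_inv, inv_mul_eq_iff_eq_mul, mul_inv_cancel]
    · rw [if_neg (fun e => h (by rw [e]; simp))]
      simp only [extendByZero_not_mem D.A _ h, Finset.sum_const_zero]
  rw [Finset.sum_congr rfl fun x _ => hx x, Finset.sum_const, Finset.card_univ, nsmul_eq_mul,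
    ← Nat.card_eq_fintype_card, D.card_A]
  have := D.aC_ne
  split_ifs
  · field_simp
  · simp

/-- The regular character. -/
theorem regular (g : P) :
    D.Zf 1 g + ((D.ε : ℂ) * Fintype.card F - 1) / 2 * (D.Fp false g + D.Fp true g) +
      ((D.ε : ℂ) * Fintype.card F - 1) * ∑ θ ∈ D.hB, D.Yf θ g +
      ((D.ε : ℂ) * Fintype.card F + 1) * ∑ ψ ∈ D.hA, D.Zf ψ g = if g = 1 then (Nat.card P : ℂ) else 0 := by
  rw [← D.sum_IA g, D.sum_hA (fun θ => D.IA θ g)]
  simp only [D.IA_inv, Fp, Pi.sub_apply, Pi.smul_apply, smul_eq_mul, Finset.sum_apply]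
  rw [show D.Gam false g = D.GS g - D.Gam true g by simp [GS]]
  simp only [Zf, Pi.sub_apply, Finset.sum_sub_distrib, Finset.sum_const, nsmul_eq_mul]
  linear_combination (-(D.GS g)) * D.card_hA - (1 / 2) * D.GS g * D.two_aC +
    (1 / 2) * (Fintype.card F : ℂ) * D.GS g * D.εC_sq

theorem Yf_B (θ : D.B →* ℂˣ) {y : D.B} (hy : y ≠ 1) : D.Yf θ y = -2 * ((θ y : ℂ) + (θ y⁻¹ : ℂ)) := by
  have h1 : (y : P) ≠ 1 := fun e => hy (Subtype.ext e)
  simp only [Yf, GS, Pi.sub_apply, Pi.smul_apply, Pi.add_apply, smul_eq_mul, D.IB_B θ hy, D.Gam_B _ y.2 h1]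
  ring

theorem Zf_B (ψ : D.A →* ℂˣ) {y : P} (hy : y ∈ D.B) (h1 : y ≠ 1) : D.Zf ψ y = 0 := by
  simp only [Zf, GS, Pi.sub_apply, Pi.add_apply, D.IA_B ψ hy h1, D.Gam_B _ hy h1]
  ring

theorem Fp_B (i : Bool) {y : D.B} (hy : y ≠ 1) : D.Fp i y = -2 := by
  have h1 : (y : P) ≠ 1 := fun e => hy (Subtype.ext e)
  have hcomm : ∀ a b : D.B, a * b = b * a := fun a b => Subtype.ext (D.B_comm a a.2 b b.2)
  simp only [Fp, Pi.sub_apply, Pi.smul_apply, smul_eq_mul, Finset.sum_apply, D.Gam_B i y.2 h1,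
    D.Yf_B _ hy, D.Zf_B _ y.2 h1, Finset.sum_const_zero]
  have h := D.sum_hB (fun θ => ((θ y : ℂˣ) : ℂ))
  rw [sum_hom_apply hcomm, if_neg hy] at h
  simp only [MonoidHom.one_apply, Units.val_one, MonoidHom.inv_apply] at h
  rw [← Finset.mul_sum, Finset.sum_add_distrib]
  have e : ∀ θ : D.B →* ℂˣ, ((θ y)⁻¹ : ℂˣ) = θ y⁻¹ := fun θ => (map_inv θ y).symm
  simp only [e] at h
  linear_combination (-2 : ℂ) * h

theorem gen_IA (θ : D.A →* ℂˣ) : IsGeneralizedCharacter P (D.IA θ) :=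
  gen_of_char (isCharacter_indFun _ (isCharacter_linear θ))

theorem gen_GS : IsGeneralizedCharacter P D.GS :=
  gen_of_char (isCharacter_add (isCharacter_indFun _ (isCharacter_linear (D.lam false)))
    (isCharacter_indFun _ (isCharacter_linear (D.lam true))))

theorem gen_Zf (ψ : D.A →* ℂˣ) : IsGeneralizedCharacter P (D.Zf ψ) := isGenChar_sub (D.gen_IA ψ) D.gen_GS

theorem gen_Yf (θ : D.B →* ℂˣ) : IsGeneralizedCharacter P (D.Yf θ) := by
  refine isGenChar_sub ?_ (gen_of_char (isCharacter_indFun _ (isCharacter_linear θ)))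
  rw [two_smul, ← sub_neg_eq_add, ← zero_sub D.GS]
  exact isGenChar_sub D.gen_GS (isGenChar_sub isGenChar_zero D.gen_GS)

theorem gen_Fp (i : Bool) : IsGeneralizedCharacter P (D.Fp i) := by
  refine isGenChar_sub (isGenChar_sub ?_ (isGenChar_sum _ _ fun θ _ => D.gen_Yf θ))
    (isGenChar_sum _ _ fun θ _ => D.gen_Zf θ)
  have hg : IsGeneralizedCharacter P (D.Gam i) := gen_of_char (isCharacter_indFun _ (isCharacter_linear (D.lam i)))
  rcases D.hε with h | h <;> rw [h]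
  · rwa [Int.cast_one, one_smul]
  · rw [Int.cast_neg, Int.cast_one, neg_one_smul, ← zero_sub]
    exact isGenChar_sub isGenChar_zero hg

theorem Gam_even (i : Bool) {g : P} (hg : ¬ Odd (orderOf g)) : D.Gam i g = 0 :=
  indFun_even_zero _ _ (D.card_U.symm ▸ D.q_odd) hg

theorem GS_even {g : P} (hg : ¬ Odd (orderOf g)) : D.GS g = 0 := by
  simp [GS, D.Gam_even _ hg]

theorem Zf_even (ψ : D.A →* ℂˣ) {g : P} (hg : ¬ Odd (orderOf g)) : D.Zf ψ g = 0 := by
  rw [Zf, Pi.sub_apply, D.GS_even hg, IA, indFun_even_zero _ _ (D.card_A.symm ▸ D.a_odd) hg, sub_zero]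

theorem Yf_even (θ : D.B →* ℂˣ) {g : P} (hg : ¬ Odd (orderOf g)) : D.Yf θ g = 0 := by
  rw [Yf, Pi.sub_apply, Pi.smul_apply, D.GS_even hg, IB, indFun_even_zero _ _ (D.card_B.symm ▸ D.b_odd) hg,
    smul_zero, sub_zero]

theorem Fp_even (i : Bool) {g : P} (hg : ¬ Odd (orderOf g)) : D.Fp i g = 0 := by
  simp only [Fp, Pi.sub_apply, Pi.smul_apply, Finset.sum_apply, D.Gam_even i hg, D.Yf_even _ hg, D.Zf_even _ hg,
    smul_zero, Finset.sum_const_zero, sub_zero]

theorem cl_GS : IsClassFunction P D.GS := fun g h => by simp [GS, D.cl_Gam _ g h]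

theorem cl_Zf (ψ : D.A →* ℂˣ) : IsClassFunction P (D.Zf ψ) := fun g h => by
  simp [Zf, D.cl_GS g h, D.cl_IA ψ g h]

theorem cl_Yf (θ : D.B →* ℂˣ) : IsClassFunction P (D.Yf θ) := fun g h => by
  simp [Yf, D.cl_GS g h, D.cl_IB θ g h]

theorem cl_Fp (i : Bool) : IsClassFunction P (D.Fp i) := fun g h => by
  simp [Fp, D.cl_Gam i g h, D.cl_Yf _ g h, D.cl_Zf _ g h]

section Pairs

variable {r : P → ℂ} (hr : IsClassFunction P r)
  (h1 : r 1 = Fintype.card F * ((Fintype.card F : ℂ) - D.ε))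
  (hA' : ∀ x ∈ D.A, x ≠ 1 → r x = 2 * (D.a : ℂ))
  (hB' : ∀ x ∈ D.B, x ≠ 1 → r x = 4 * (D.b : ℂ))
  (hU' : ∀ x ∈ D.U, x ≠ 1 → r x = Fintype.card F * (1 - (D.ε : ℂ)))

include hr h1 hA' in
theorem r_IA (θ : D.A →* ℂˣ) :
    classInner (D.IA θ) r = 2 * Fintype.card F - 2 + if θ = 1 then 2 * (D.a : ℂ) else 0 := by
  rw [IA, inner_ind_const D.A θ hr hA', D.card_A, h1]
  simp only [map_mul, map_sub, map_ofNat, map_natCast, map_intCast]
  congr 1
  rw [inv_mul_eq_iff_eq_mul₀ D.aC_ne]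
  linear_combination (-(Fintype.card F : ℂ)) * D.two_aC

include hr h1 hB' in
theorem r_IB (θ : D.B →* ℂˣ) (hθ : θ ≠ 1) :
    (D.b : ℂ) * classInner (D.IB θ) r = Fintype.card F * ((Fintype.card F : ℂ) - D.ε) - 4 * D.b := by
  rw [IB, inner_ind_const D.B θ hr hB', D.card_B, h1, if_neg hθ, add_zero, ← mul_assoc, mul_inv_cancel₀ D.bC_ne]
  simp only [one_mul, map_mul, map_sub, map_ofNat, map_natCast, map_intCast]

include hr h1 hU' in
theorem r_Gam (i : Bool) : classInner (D.Gam i) r = Fintype.card F - 1 := by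
  rw [Gam, inner_ind_const D.U _ hr hU', D.card_U, h1, if_neg (D.lam_ne i), add_zero]
  simp only [map_mul, map_sub, map_one, map_natCast, map_intCast]
  rw [inv_mul_eq_iff_eq_mul₀ D.qC_ne]
  ring

include hr h1 hA' hU' in
theorem r_Zf (ψ : D.A →* ℂˣ) : classInner (D.Zf ψ) r = if ψ = 1 then 2 * (D.a : ℂ) else 0 := by
  rw [Zf, classInner_sub_left, GS, classInner_add_left, D.r_Gam hr h1 hU', D.r_Gam hr h1 hU', D.r_IA hr h1 hA']
  ring

include hr h1 hB' hU' in
theorem r_Yf (θ : D.B →* ℂˣ) (hθ : θ ≠ 1) :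
    ((Fintype.card F : ℂ) + D.ε) * classInner (D.Yf θ) r = 8 * (D.ε : ℂ) * Fintype.card F := by
  have h := D.r_IB hr h1 hB' θ hθ
  rw [Yf, classInner_sub_left, classInner_smul_left, GS, classInner_add_left, D.r_Gam hr h1 hU',
    D.r_Gam hr h1 hU', ← D.four_bC]
  linear_combination (-4 : ℂ) * h + 4 * (Fintype.card F : ℂ) * D.four_bC

include hr h1 hA' hB' hU' in
theorem r_Fp (i : Bool) :
    ((Fintype.card F : ℂ) + D.ε) * classInner (D.Fp i) r = 3 * (D.ε : ℂ) * Fintype.card F - 1 := by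
  rw [Fp, classInner_sub_left, classInner_sub_left, classInner_smul_left, classInner_sum_left,
    classInner_sum_left, D.r_Gam hr h1 hU',
    Finset.sum_eq_zero (s := D.hA) fun θ hθ => (D.r_Zf hr h1 hA' hU' θ).trans (if_neg (D.hA_spec.1 θ hθ)),
    sub_zero, mul_sub, Finset.mul_sum, Finset.sum_congr rfl fun θ hθ => D.r_Yf hr h1 hB' hU' θ (D.hB_spec.1 θ hθ),
    Finset.sum_const, nsmul_eq_mul]
  linear_combination (-4 * (D.ε : ℂ) * Fintype.card F) * D.card_hB - (D.ε : ℂ) * Fintype.card F * D.four_bC +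
    ((Fintype.card F : ℂ) - 1 - Fintype.card F) * D.εC_sq

end Pairs

end KD

end Cfsg.Agent.Char.ReeOrder
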