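import Cfsg.Agent.Lib.Char.ReeOrder.KValues

/-!
# Inner products, and the functions `F₁`, `F₂`, `F₃`, `Y_θ`, `Z_ψ`
-/

set_option autoImplicit false
set_option linter.unusedSectionVars false
set_option linter.style.haveILetI false
set_option maxHeartbeats 800000

open Cfsg
open scoped ComplexConjugate Classical

namespace Cfsg.Agent.Char.ReeOrder

open Subgroup

universe u v

section Half

/-- `[x = y] + [x y = 1]`. -/
noncomputable def delta2 {X : Type u} [Mul X] [One X] (x y : X) : ℂ :=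
  (if x = y then 1 else 0) + (if x * y = 1 then 1 else 0)

variable {P : Type u} [Group P] [Fintype P]

theorem hom_mul_inv_eq_one {H : Type u} [Group H] (θ θ' : H →* ℂˣ) : θ * θ'⁻¹ = 1 ↔ θ = θ' := by
  constructor
  · exact fun h => MonoidHom.ext fun a => mul_inv_eq_one.1 (DFunLike.congr_fun h a)
  · rintro rfl; exact MonoidHom.ext fun a => mul_inv_cancel (θ a)

theorem sum_pair_hom {H : Subgroup P} (θ θ' : H →* ℂˣ) :
    ∑ x : H, (θ x : ℂ) * ((θ' x⁻¹ : ℂ) + (θ' x : ℂ)) = (Nat.card H : ℂ) * delta2 θ θ' := by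
  rw [Finset.sum_congr rfl (g := fun x => (((θ * θ'⁻¹) x : ℂˣ) : ℂ) + (((θ * θ') x : ℂˣ) : ℂ)) fun x _ => by
    simp only [MonoidHom.mul_apply, MonoidHom.inv_apply, Units.val_mul, map_inv]; ring,
    Finset.sum_add_distrib, sum_linear, sum_linear, delta2]
  simp only [hom_mul_inv_eq_one]
  split_ifs <;> ring

theorem hom_eq_one_of_sq {H : Subgroup P} (hH : Odd (Nat.card H)) {θ : H →* ℂˣ} (h : θ * θ = 1) : θ = 1 := by
  refine MonoidHom.ext fun x => ?_
  have h1 : θ x ^ 2 = 1 := by rw [pow_two]; exact DFunLike.congr_fun h x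
  have h2 : θ x ^ Nat.card H = 1 := by rw [← map_pow, pow_card_eq_one', map_one]
  have := pow_gcd_eq_one.mpr ⟨h1, h2⟩
  rwa [Nat.Coprime.gcd_eq_one hH.coprime_two_left, pow_one] at this

/-- A set of representatives of the pairs `{θ, θ⁻¹}`, `θ ≠ 1`. -/
theorem exists_half {H : Subgroup P} (hH : Odd (Nat.card H)) [Fintype (H →* ℂˣ)] :
    ∃ half : Finset (H →* ℂˣ), (∀ θ ∈ half, θ ≠ 1) ∧
      (∀ θ, θ ≠ 1 → (θ ∈ half ↔ θ⁻¹ ∉ half)) := by
  let e := Fintype.equivFin (H →* ℂˣ)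
  refine ⟨Finset.univ.filter fun θ => e θ < e θ⁻¹, fun θ hθ h1 => ?_, fun θ hθ => ?_⟩
  · subst h1
    rw [Finset.mem_filter, show (1 : H →* ℂˣ)⁻¹ = 1 from MonoidHom.ext fun a => inv_one] at hθ
    exact lt_irrefl _ hθ.2
  · have hne : e θ ≠ e θ⁻¹ := fun h => hθ (hom_eq_one_of_sq hH (by
      nth_rewrite 2 [e.injective h]; exact mul_inv_cancel θ))
    simp only [Finset.mem_filter, Finset.mem_univ, true_and, show θ⁻¹⁻¹ = θ from MonoidHom.ext fun a => inv_inv (θ a), not_lt]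
    exact ⟨le_of_lt, fun h => lt_of_le_of_ne h hne⟩

end Half

namespace KD

variable {P : Type u} [Group P] [Fintype P] {F : Type v} [Field F] [Fintype F] (D : KD P F)

noncomputable local instance : Fintype (D.A →* ℂˣ) := by
  haveI := finite_hom_units D.A; exact Fintype.ofFinite _

noncomputable local instance : Fintype (D.B →* ℂˣ) := by
  haveI := finite_hom_units D.B; exact Fintype.ofFinite _

theorem cl_IA (θ : D.A →* ℂˣ) : IsClassFunction P (D.IA θ) := isClassFunction_indFun _ _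

theorem cl_IB (θ : D.B →* ℂˣ) : IsClassFunction P (D.IB θ) := isClassFunction_indFun _ _

theorem cl_Gam (i : Bool) : IsClassFunction P (D.Gam i) := isClassFunction_indFun _ _

theorem inner_AA (θ θ' : D.A →* ℂˣ) :
    classInner (D.IA θ) (D.IA θ') = 2 * Fintype.card F + 4 * (D.ε : ℂ) + delta2 θ θ' := by
  nth_rewrite 1 [IA]
  rw [frobenius _ _ (D.cl_IA θ'), classInner, D.card_A]
  have hv : ∀ x : D.A, (θ x : ℂ) * conj (D.IA θ' x) = (θ x : ℂ) * ((θ' x⁻¹ : ℂ) + (θ' x : ℂ)) +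
      if x = 1 then conj (D.IA θ' 1) - 2 else 0 := by
    intro x
    split_ifs with hx
    · subst hx
      simp only [OneMemClass.coe_one, map_one, inv_one, Units.val_one]; ring
    · rw [D.IA_A θ' hx, map_add, conj_lin, conj_lin, inv_inv, add_zero]
  rw [Finset.sum_congr rfl fun x _ => hv x, Finset.sum_add_distrib, sum_pair_hom, D.card_A,
    Finset.sum_ite_eq', if_pos (Finset.mem_univ _), D.IA_one, inv_mul_eq_iff_eq_mul₀ D.aC_ne]
  simp only [map_mul, map_add, map_natCast, map_intCast]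
  linear_combination (-((Fintype.card F : ℂ) + 2 * D.ε)) * D.two_aC + 2 * D.εC_sq

theorem inner_BB (θ θ' : D.B →* ℂˣ) :
    classInner (D.IB θ) (D.IB θ') = 8 * Fintype.card F - 16 * (D.ε : ℂ) + 2 * delta2 θ θ' := by
  nth_rewrite 1 [IB]
  rw [frobenius _ _ (D.cl_IB θ'), classInner, D.card_B]
  have hv : ∀ x : D.B, (θ x : ℂ) * conj (D.IB θ' x) = 2 * ((θ x : ℂ) * ((θ' x⁻¹ : ℂ) + (θ' x : ℂ))) +
      if x = 1 then conj (D.IB θ' 1) - 4 else 0 := by
    intro x
    split_ifs with hx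
    · subst hx
      simp only [OneMemClass.coe_one, map_one, inv_one, Units.val_one]; ring
    · rw [D.IB_B θ' hx, map_mul, map_add, conj_lin, conj_lin, inv_inv, map_ofNat, add_zero]; ring
  rw [Finset.sum_congr rfl fun x _ => hv x, Finset.sum_add_distrib, ← Finset.mul_sum, sum_pair_hom, D.card_B,
    Finset.sum_ite_eq', if_pos (Finset.mem_univ _), D.IB_one, inv_mul_eq_iff_eq_mul₀ D.bC_ne]
  simp only [map_mul, map_sub, map_ofNat, map_natCast, map_intCast]
  linear_combination (-2 * ((Fintype.card F : ℂ) - 2 * D.ε)) * D.four_bC + 4 * D.εC_sq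

theorem inner_AB (θ : D.A →* ℂˣ) (θ' : D.B →* ℂˣ) : classInner (D.IA θ) (D.IB θ') = 4 * Fintype.card F := by
  rw [IA, inner_ind_const D.A θ (D.cl_IB θ') (c := 0) (fun x hx h1 => D.IB_A θ' hx h1), D.card_A, D.IB_one]
  simp only [map_zero, sub_zero, ite_self, add_zero, map_mul, map_sub, map_ofNat, map_natCast, map_intCast]
  rw [inv_mul_eq_iff_eq_mul₀ D.aC_ne]
  linear_combination (-2 * (Fintype.card F : ℂ)) * D.two_aC

theorem inner_AG (θ : D.A →* ℂˣ) (i : Bool) : classInner (D.IA θ) (D.Gam i) = Fintype.card F + (D.ε : ℂ) := by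
  rw [IA, inner_ind_const D.A θ (D.cl_Gam i) (c := 0) (fun x hx h1 => D.Gam_A i hx h1), D.card_A, D.Gam_one]
  simp only [map_zero, sub_zero, ite_self, add_zero, map_div₀, map_sub, map_pow, map_one, map_ofNat, map_natCast]
  rw [inv_mul_eq_iff_eq_mul₀ D.aC_ne]
  linear_combination (-(1 / 2) * ((Fintype.card F : ℂ) + D.ε)) * D.two_aC + (1 / 2) * D.εC_sq

theorem inner_BG (θ : D.B →* ℂˣ) (i : Bool) :
    classInner (D.IB θ) (D.Gam i) = 2 * Fintype.card F - 2 * (D.ε : ℂ) := by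
  rw [IB, inner_ind_const D.B θ (D.cl_Gam i) (c := 0) (fun x hx h1 => D.Gam_B i hx h1), D.card_B, D.Gam_one]
  simp only [map_zero, sub_zero, ite_self, add_zero, map_div₀, map_sub, map_pow, map_one, map_ofNat, map_natCast]
  rw [inv_mul_eq_iff_eq_mul₀ D.bC_ne]
  linear_combination (-(1 / 2) * ((Fintype.card F : ℂ) - D.ε)) * D.four_bC + (1 / 2) * D.εC_sq

theorem inner_GG (i j : Bool) :
    classInner (D.Gam i) (D.Gam j) = ((Fintype.card F : ℂ) - 1) / 2 + if i = j then 1 else 0 := by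
  nth_rewrite 1 [Gam]
  rw [frobenius _ _ (D.cl_Gam j), classInner, D.card_U]
  refine (congrArg (_ * ·) (Finset.sum_equiv (s := (Finset.univ : Finset F))
    (f := fun y : F => D.psi (D.cI i * y) * conj (D.Gam j (D.uu y)))
    (Multiplicative.ofAdd.trans D.UE.toEquiv) (fun y => by simp) (fun y _ => by
      simp only [Equiv.trans_apply, MulEquiv.toEquiv_eq_coe, MulEquiv.coe_toEquiv, EquivLike.coe_coe, D.UE_coe,
        D.lam_apply])).symm).trans ?_
  rw [← Finset.add_sum_erase _ _ (Finset.mem_univ (0 : F))]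
  have h0 : D.psi (D.cI i * 0) * conj (D.Gam j (D.uu 0)) = ((Fintype.card F : ℂ) ^ 2 - 1) / 2 := by
    simp only [psi, uu, mul_zero, ofAdd_zero, map_one, Units.val_one, one_mul, D.Gam_one, map_div₀, map_sub,
      map_pow, map_natCast, map_ofNat]
  have hx : ∀ x ∈ (Finset.univ : Finset F).erase 0, D.psi (D.cI i * x) * conj (D.Gam j (D.uu x)) =
      ∑ r ∈ sqs, D.psi ((D.cI i - D.cI j * r) * x) := by
    intro x hx
    rw [D.Gam_U j (Finset.mem_erase.1 hx).1, map_sum, Finset.mul_sum]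
    refine Finset.sum_congr rfl fun r _ => ?_
    rw [D.psi_conj, ← D.psi_add]
    congr 1; ring
  rw [h0, Finset.sum_congr rfl hx, Finset.sum_comm]
  have hs : ∀ r ∈ (sqs : Finset F), ∑ x ∈ (Finset.univ : Finset F).erase 0, D.psi ((D.cI i - D.cI j * r) * x) =
      (if D.cI i = D.cI j * r then (Fintype.card F : ℂ) else 0) - 1 := by
    intro r _
    rw [Finset.sum_erase_eq_sub (Finset.mem_univ _), D.sum_psi]
    simp only [mul_zero, psi, ofAdd_zero, map_one, Units.val_one, sub_eq_zero]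
  rw [Finset.sum_congr rfl hs, Finset.sum_sub_distrib, Finset.sum_const, nsmul_eq_mul, mul_one]
  have hcs : 2 * ((sqs : Finset F).card : ℂ) + 1 = Fintype.card F := by exact_mod_cast D.card_sqs
  have h1 : ∑ r ∈ (sqs : Finset F), (if D.cI i = D.cI j * r then (Fintype.card F : ℂ) else 0) =
      if i = j then (Fintype.card F : ℂ) else 0 := by
    by_cases hij : i = j
    · subst hij
      rw [if_pos rfl, Finset.sum_eq_single (1 : F) (fun r _ hr => if_neg fun e => hr
        (mul_left_cancel₀ (D.cI_ne i) (e.symm.trans (mul_one _).symm)))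
        (fun h => absurd (mem_sqs.2 ⟨1, one_ne_zero, (one_pow 2).symm⟩) h), if_pos (mul_one _).symm]
    · rw [if_neg hij, Finset.sum_eq_zero fun r hr => if_neg fun e => ?_]
      obtain ⟨s, hs, rfl⟩ := mem_sqs.1 hr
      apply D.nsq_spec
      cases i <;> cases j <;> simp [cI] at hij e
      · exact ⟨s⁻¹, by field_simp; linear_combination e.symm⟩
      · exact ⟨s, by rw [e]; ring⟩
  rw [h1, inv_mul_eq_iff_eq_mul₀ D.qC_ne]
  split_ifs <;> linear_combination (-(1 / 2) : ℂ) * hcs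

/-- `Γ₁ + Γ₂`. -/
noncomputable def GS : P → ℂ := D.Gam false + D.Gam true

/-- `Z_ψ`. -/
noncomputable def Zf (ψ : D.A →* ℂˣ) : P → ℂ := D.IA ψ - D.GS

/-- `Y_θ`. -/
noncomputable def Yf (θ : D.B →* ℂˣ) : P → ℂ := (2 : ℂ) • D.GS - D.IB θ

/-- Representatives of the nontrivial characters of `A` up to inversion. -/
noncomputable def hA : Finset (D.A →* ℂˣ) := (exists_half (H := D.A) (D.card_A.symm ▸ D.a_odd)).choose

/-- Representatives of the nontrivial characters of `B` up to inversion. -/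
noncomputable def hB : Finset (D.B →* ℂˣ) := (exists_half (H := D.B) (D.card_B.symm ▸ D.b_odd)).choose

theorem hA_spec : (∀ θ ∈ D.hA, θ ≠ 1) ∧ (∀ θ, θ ≠ 1 → (θ ∈ D.hA ↔ θ⁻¹ ∉ D.hA)) :=
  (exists_half (H := D.A) (D.card_A.symm ▸ D.a_odd)).choose_spec

theorem hB_spec : (∀ θ ∈ D.hB, θ ≠ 1) ∧ (∀ θ, θ ≠ 1 → (θ ∈ D.hB ↔ θ⁻¹ ∉ D.hB)) :=
  (exists_half (H := D.B) (D.card_B.symm ▸ D.b_odd)).choose_spec

theorem sum_split {X : Type u} [CommGroup X] [Fintype X] {half : Finset X} (h1 : ∀ x ∈ half, x ≠ 1)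
    (h2 : ∀ x, x ≠ 1 → (x ∈ half ↔ x⁻¹ ∉ half)) {M : Type v} [AddCommMonoid M] (f : X → M) :
    ∑ x, f x = f 1 + (∑ x ∈ half, f x + ∑ x ∈ half, f x⁻¹) := by
  rw [← Finset.add_sum_erase _ _ (Finset.mem_univ (1 : X))]
  congr 1
  rw [← Finset.sum_image (f := f) (g := fun x : X => x⁻¹) fun a _ b _ e => inv_injective e,
    ← Finset.sum_union]
  · refine Finset.sum_congr ?_ fun _ _ => rfl
    ext x
    simp only [Finset.mem_erase, Finset.mem_univ, and_true, Finset.mem_union, Finset.mem_image]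
    constructor
    · intro hx
      by_cases h : x ∈ half
      · exact Or.inl h
      · exact Or.inr ⟨x⁻¹, by_contra fun h' => h ((h2 x hx).2 h'), inv_inv x⟩
    · rintro (h | ⟨y, hy, rfl⟩)
      · exact h1 x h
      · exact fun e => h1 y hy (inv_eq_one.1 e)
  · rw [Finset.disjoint_left]
    intro x hx hx'
    obtain ⟨y, hy, rfl⟩ := Finset.mem_image.1 hx'
    exact ((h2 y (h1 y hy)).1 hy) hx

theorem sum_delta2 {X : Type u} [CommGroup X] [Fintype X] {half : Finset X} (h1 : ∀ x ∈ half, x ≠ 1)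
    (h2 : ∀ x, x ≠ 1 → (x ∈ half ↔ x⁻¹ ∉ half)) (y : X) :
    ∑ x ∈ half, delta2 x y = if y = 1 then 0 else 1 := by
  by_cases hy : y = 1
  · rw [if_pos hy, Finset.sum_eq_zero fun x hx => ?_]
    subst hy
    simp [delta2, h1 x hx]
  · have h := sum_split h1 h2 (fun x => if x = y then (1 : ℂ) else 0)
    rw [Finset.sum_ite_eq', if_pos (Finset.mem_univ _), if_neg (Ne.symm hy), zero_add] at h
    rw [if_neg hy, h, ← Finset.sum_add_distrib]
    refine Finset.sum_congr rfl fun x _ => ?_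
    simp only [delta2, inv_eq_iff_mul_eq_one]

theorem sum_hA {M : Type*} [AddCommMonoid M] (f : (D.A →* ℂˣ) → M) :
    ∑ θ, f θ = f 1 + (∑ θ ∈ D.hA, f θ + ∑ θ ∈ D.hA, f θ⁻¹) := sum_split (X := D.A →* ℂˣ) D.hA_spec.1 D.hA_spec.2 f

theorem sum_hB {M : Type*} [AddCommMonoid M] (f : (D.B →* ℂˣ) → M) :
    ∑ θ, f θ = f 1 + (∑ θ ∈ D.hB, f θ + ∑ θ ∈ D.hB, f θ⁻¹) := sum_split (X := D.B →* ℂˣ) D.hB_spec.1 D.hB_spec.2 f

theorem card_hA : 2 * (D.hA.card : ℂ) + 1 = D.a := by
  have h := D.sum_hA (fun _ => (1 : ℂ))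
  simp only [Finset.sum_const, Finset.card_univ, nsmul_eq_mul, mul_one, card_hom_comm D.A_comm, D.card_A] at h
  linear_combination h.symm

theorem card_hB : 2 * (D.hB.card : ℂ) + 1 = D.b := by
  have h := D.sum_hB (fun _ => (1 : ℂ))
  simp only [Finset.sum_const, Finset.card_univ, nsmul_eq_mul, mul_one, card_hom_comm D.B_comm, D.card_B] at h
  linear_combination h.symm

/-- `F₂` and `F₃`. -/
noncomputable def Fp (i : Bool) : P → ℂ :=
  (D.ε : ℂ) • D.Gam i - ∑ θ ∈ D.hB, D.Yf θ - ∑ ψ ∈ D.hA, D.Zf ψ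

theorem inner_GS (i : Bool) : classInner (D.Gam i) D.GS = Fintype.card F := by
  rw [GS, classInner_add_right, D.inner_GG, D.inner_GG]
  cases i <;> simp <;> ring

theorem inner_AGS (θ : D.A →* ℂˣ) : classInner (D.IA θ) D.GS = 2 * (Fintype.card F + (D.ε : ℂ)) := by
  rw [GS, classInner_add_right, D.inner_AG, D.inner_AG]; ring

theorem inner_BGS (θ : D.B →* ℂˣ) : classInner (D.IB θ) D.GS = 4 * ((Fintype.card F : ℂ) - D.ε) := by
  rw [GS, classInner_add_right, D.inner_BG, D.inner_BG]; ring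

theorem inner_GSA (θ : D.A →* ℂˣ) : classInner D.GS (D.IA θ) = 2 * (Fintype.card F + (D.ε : ℂ)) := by
  rw [← classInner_symm, D.inner_AGS]; simp [map_ofNat]

theorem inner_GSB (θ : D.B →* ℂˣ) : classInner D.GS (D.IB θ) = 4 * ((Fintype.card F : ℂ) - D.ε) := by
  rw [← classInner_symm, D.inner_BGS]; simp [map_ofNat]

theorem inner_GSGS : classInner D.GS D.GS = 2 * Fintype.card F := by
  nth_rewrite 1 [GS]
  rw [classInner_add_left, D.inner_GS, D.inner_GS]; ring

theorem inner_ZZ (ψ ψ' : D.A →* ℂˣ) : classInner (D.Zf ψ) (D.Zf ψ') = delta2 ψ ψ' := by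
  rw [Zf, Zf, classInner_sub_left, classInner_sub_right, classInner_sub_right, D.inner_AA, D.inner_AGS,
    D.inner_GSA, D.inner_GSGS]
  ring

theorem inner_YY (θ θ' : D.B →* ℂˣ) : classInner (D.Yf θ) (D.Yf θ') = 2 * delta2 θ θ' := by
  simp only [Yf, classInner_sub_left, classInner_sub_right, classInner_smul_left, classInner_smul_right,
    D.inner_BB, D.inner_BGS, D.inner_GSB, D.inner_GSGS, map_ofNat]
  ring

theorem inner_ZY (ψ : D.A →* ℂˣ) (θ : D.B →* ℂˣ) : classInner (D.Zf ψ) (D.Yf θ) = 0 := by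
  simp only [Zf, Yf, classInner_sub_left, classInner_sub_right, classInner_smul_right, D.inner_AB, D.inner_AGS,
    D.inner_GSB, D.inner_GSGS, map_ofNat]
  ring

theorem inner_GZ (i : Bool) (ψ : D.A →* ℂˣ) : classInner (D.Gam i) (D.Zf ψ) = (D.ε : ℂ) := by
  rw [Zf, classInner_sub_right, D.inner_GS, ← classInner_symm, D.inner_AG]
  simp

theorem inner_GY (i : Bool) (θ : D.B →* ℂˣ) : classInner (D.Gam i) (D.Yf θ) = 2 * (D.ε : ℂ) := by
  rw [Yf, classInner_sub_right, classInner_smul_right, D.inner_GS, ← classInner_symm (D.IB θ), D.inner_BG]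
  simp [map_ofNat]

theorem inner_YZ (θ : D.B →* ℂˣ) (ψ : D.A →* ℂˣ) : classInner (D.Yf θ) (D.Zf ψ) = 0 := by
  rw [← classInner_symm, D.inner_ZY, map_zero]

theorem delta2_self {X : Type u} [CommGroup X] (x : X) (h : x * x ≠ 1) : delta2 x x = 1 := by
  simp [delta2, h]

theorem inner_FZ (i : Bool) (ψ : D.A →* ℂˣ) : classInner (D.Fp i) (D.Zf ψ) = if ψ = 1 then 1 else 0 := by
  simp only [Fp, classInner_sub_left, classInner_smul_left, classInner_sum_left, D.inner_GZ, D.inner_YZ,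
    D.inner_ZZ, Finset.sum_const_zero, sum_delta2 (X := D.A →* ℂˣ) D.hA_spec.1 D.hA_spec.2, D.εC_sq]
  split_ifs <;> ring

theorem inner_FY (i : Bool) (θ : D.B →* ℂˣ) : classInner (D.Fp i) (D.Yf θ) = if θ = 1 then 2 else 0 := by
  simp only [Fp, classInner_sub_left, classInner_smul_left, classInner_sum_left, D.inner_GY, D.inner_YY,
    D.inner_ZY, Finset.sum_const_zero, ← Finset.mul_sum, sum_delta2 (X := D.B →* ℂˣ) D.hB_spec.1 D.hB_spec.2]
  split_ifs <;> linear_combination 2 * D.εC_sq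

theorem inner_FG (i j : Bool) : classInner (D.Fp i) (D.Gam j) = (D.ε : ℂ) * (if i = j then 2 else 1) := by
  simp only [Fp, classInner_sub_left, classInner_smul_left, classInner_sum_left, D.inner_GG]
  have hY : ∀ θ, classInner (D.Yf θ) (D.Gam j) = 2 * (D.ε : ℂ) := fun θ => by
    rw [← classInner_symm, D.inner_GY]; simp [map_ofNat]
  have hZ : ∀ ψ, classInner (D.Zf ψ) (D.Gam j) = (D.ε : ℂ) := fun ψ => by
    rw [← classInner_symm, D.inner_GZ]; simp
  simp only [hY, hZ, Finset.sum_const, nsmul_eq_mul]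
  split_ifs <;> linear_combination (-(D.ε : ℂ)) * D.card_hB - (D.ε : ℂ) / 2 * D.card_hA -
    (D.ε : ℂ) / 4 * (D.two_aC + D.four_bC)

theorem inner_FF (i j : Bool) : classInner (D.Fp i) (D.Fp j) = if i = j then 2 else 1 := by
  nth_rewrite 2 [Fp]
  simp only [classInner_sub_right, classInner_smul_right, classInner_sum_right, D.inner_FG, D.inner_FY,
    D.inner_FZ, map_intCast]
  rw [Finset.sum_eq_zero fun θ hθ => if_neg (D.hB_spec.1 θ hθ),
    Finset.sum_eq_zero fun θ hθ => if_neg (D.hA_spec.1 θ hθ), sub_zero, sub_zero, ← mul_assoc, D.εC_sq, one_mul]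

end KD

end Cfsg.Agent.Char.ReeOrder
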