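import Cfsg.Agent.Lib.Char.ReeOrder.KData
import Cfsg.Agent.Lib.Char.IndValue
import Cfsg.Agent.Lib.Char.FreeTrace
import Cfsg.Agent.Lib.Char.Exceptional
import Cfsg.Agent.Lib.Char.DadeGen

/-!
# The functions induced from `A`, `B` and `U`
-/

set_option autoImplicit false
set_option linter.unusedSectionVars false
set_option linter.style.haveILetI false

open Cfsg
open scoped ComplexConjugate Classical

namespace Cfsg.Agent.Char.ReeOrder

open Subgroup

universe u v

theorem sum_linear {H : Type u} [Group H] [Fintype H] (θ : H →* ℂˣ) :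
    ∑ h : H, (θ h : ℂ) = if θ = 1 then (Nat.card H : ℂ) else 0 := by
  split_ifs with h
  · subst h; simp
  · obtain ⟨a, ha⟩ : ∃ a, (θ a : ℂ) ≠ 1 := by
      by_contra! hh
      exact h (MonoidHom.ext fun a => Units.ext (hh a))
    have e := Fintype.sum_equiv (Equiv.mulLeft a) (fun x : H => (θ a : ℂ) * θ x) (fun x => (θ x : ℂ))
      (fun x => by simp)
    rw [← Finset.mul_sum] at e
    exact (mul_left_eq_self₀.mp e).resolve_left ha

theorem conj_lin {H : Type u} [Group H] [Finite H] (θ : H →* ℂˣ) (h : H) : conj (θ h : ℂ) = (θ h⁻¹ : ℂ) :=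
  (char_inv (isCharacter_linear θ) h).symm

section Ind

variable {P : Type u} [Group P] [Fintype P]

/-- Induced functions by counting. -/
theorem indFun_count (H : Subgroup P) (f : H → ℂ) (y : P) :
    indFun H f y = (Nat.card H : ℂ)⁻¹ * ∑ z : H, f z * (Nat.card {g : P // g * (z : P) * g⁻¹ = y} : ℂ) := by
  rw [indFun]
  congr 1
  have h : ∀ x : P, extendByZero H f (x⁻¹ * y * x) = ∑ z : H, if x * (z : P) * x⁻¹ = y then f z else 0 := by
    intro x
    by_cases hm : x⁻¹ * y * x ∈ H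
    · rw [extendByZero_mem H f hm, Finset.sum_eq_single ⟨_, hm⟩ (fun z _ hz => if_neg fun e => hz (Subtype.ext (by
        show (z : P) = x⁻¹ * y * x
        rw [← e]; simp [mul_assoc]))) (fun h => absurd (Finset.mem_univ _) h), if_pos (by simp [mul_assoc])]
    · rw [extendByZero_not_mem H f hm, Finset.sum_eq_zero fun z _ => if_neg fun e => hm (by
        rw [← e]; simp [mul_assoc])]
  rw [Finset.sum_congr rfl fun x _ => h x, Finset.sum_comm]
  refine Finset.sum_congr rfl fun z _ => ?_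
  rw [← Finset.sum_filter, Finset.sum_const, nsmul_eq_mul, mul_comm, Nat.card_eq_fintype_card, Fintype.card_subtype]

theorem indFun_coprime (H : Subgroup P) (f : H → ℂ) {g : P} {n : ℕ} (hg : g ≠ 1) (hn : orderOf g ∣ n)
    (hco : n.Coprime (Nat.card H)) : indFun H f g = 0 := by
  rw [indFun, Finset.sum_eq_zero fun x _ => extendByZero_not_mem H f fun h => hg ?_, mul_zero]
  have h1 := H.orderOf_dvd_natCard h
  rw [show x⁻¹ * g * x = MulAut.conj x⁻¹ g by simp [MulAut.conj_apply], MulEquiv.orderOf_eq] at h1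
  exact orderOf_eq_one_iff.1 (Nat.eq_one_of_dvd_coprimes hco hn h1)

theorem indFun_even_zero (H : Subgroup P) (f : H → ℂ) (hH : Odd (Nat.card H)) {g : P} (hg : ¬ Odd (orderOf g)) :
    indFun H f g = 0 := by
  rw [indFun, Finset.sum_eq_zero fun x _ => extendByZero_not_mem H f fun h => hg ?_, mul_zero]
  have h1 := H.orderOf_dvd_natCard h
  rw [show x⁻¹ * g * x = MulAut.conj x⁻¹ g by simp [MulAut.conj_apply], MulEquiv.orderOf_eq] at h1
  exact hH.of_dvd_nat h1

/-- Frobenius reciprocity against a function constant on `H∖1`. -/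
theorem inner_ind_const (H : Subgroup P) (θ : H →* ℂˣ) {Φ : P → ℂ} (hΦ : IsClassFunction P Φ) {c : ℂ}
    (h : ∀ x ∈ H, x ≠ 1 → Φ x = c) :
    classInner (indFun H (fun x => (θ x : ℂ))) Φ =
      (Nat.card H : ℂ)⁻¹ * (conj (Φ 1) - conj c) + (if θ = 1 then conj c else 0) := by
  have hv : ∀ x : H, (θ x : ℂ) * conj (Φ x) =
      (θ x : ℂ) * conj c + if x = 1 then conj (Φ 1) - conj c else 0 := by
    intro x
    split_ifs with hx
    · subst hx; simp
    · rw [h x x.2 fun e => hx (Subtype.ext e), add_zero]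
  rw [frobenius H _ hΦ, classInner, Finset.sum_congr rfl fun x _ => hv x, Finset.sum_add_distrib,
    Finset.sum_ite_eq', if_pos (Finset.mem_univ _), ← Finset.sum_mul, sum_linear]
  have hH : (Nat.card H : ℂ) ≠ 0 := Nat.cast_ne_zero.2 Nat.card_pos.ne'
  split_ifs
  · field_simp; ring
  · ring

theorem card_hom_comm {H : Subgroup P} (hc : ∀ x ∈ H, ∀ y ∈ H, x * y = y * x) [Fintype (H →* ℂˣ)] :
    Fintype.card (H →* ℂˣ) = Nat.card H := by
  have h := sum_hom_apply (H := H) (fun a b => Subtype.ext (hc a a.2 b b.2)) 1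
  rw [Finset.sum_congr rfl (g := fun _ => (1 : ℂ)) (fun θ _ => by simp), if_pos rfl, Finset.sum_const,
    Finset.card_univ, nsmul_eq_mul, mul_one] at h
  exact_mod_cast h

end Ind

namespace KD

variable {P : Type u} [Group P] [Fintype P] {F : Type v} [Field F] [Fintype F] (D : KD P F)

include D in
theorem q_odd : Odd (Fintype.card F) := Nat.odd_iff.2 (by rcases D.q8 with h | h <;> omega)

theorem εC_sq : (D.ε : ℂ) * D.ε = 1 := by
  rcases D.hε with h | h <;> rw [h] <;> norm_num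

theorem two_aC : 2 * (D.a : ℂ) = (Fintype.card F : ℂ) - D.ε := by exact_mod_cast D.ha

theorem four_bC : 4 * (D.b : ℂ) = (Fintype.card F : ℂ) + D.ε := by exact_mod_cast D.hb

include D in
theorem qC_ne : (Fintype.card F : ℂ) ≠ 0 := Nat.cast_ne_zero.2 (by have := D.q5; omega)

include D in
theorem card_PC : 2 * (Nat.card P : ℂ) = Fintype.card F * ((Fintype.card F : ℂ) ^ 2 - 1) := by
  have h : ((2 * Nat.card P : ℕ) : ℂ) = ((Fintype.card F * (Fintype.card F ^ 2 - 1) : ℕ) : ℂ) :=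
    congrArg Nat.cast D.card_P
  rw [Nat.cast_mul, Nat.cast_mul, Nat.cast_sub (Nat.one_le_pow _ _ Fintype.card_pos)] at h
  simpa using h

theorem a_pos : 0 < D.a := D.a_odd.pos

theorem b_pos : 0 < D.b := D.b_odd.pos

theorem aC_ne : (D.a : ℂ) ≠ 0 := Nat.cast_ne_zero.2 D.a_pos.ne'

theorem bC_ne : (D.b : ℂ) ≠ 0 := Nat.cast_ne_zero.2 D.b_pos.ne'

theorem cop_ab : D.a.Coprime D.b := by
  refine Nat.coprime_of_dvd' fun p hp hpa hpb => ?_
  have h1 : (p : ℤ) ∣ 2 * D.ε := by
    have e : 2 * D.ε = 4 * (D.b : ℤ) - 2 * (D.a : ℤ) := by rw [D.ha, D.hb]; ring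
    rw [e]
    exact dvd_sub (Dvd.dvd.mul_left (Int.natCast_dvd_natCast.2 hpb) _)
      (Dvd.dvd.mul_left (Int.natCast_dvd_natCast.2 hpa) _)
  have h2 : p ∣ 2 := by rcases D.hε with h | h <;> rw [h] at h1 <;> simpa using Int.natAbs_dvd_natAbs.2 h1
  rcases (Nat.dvd_prime Nat.prime_two).1 h2 with h | h
  · rw [h]
  · rw [h] at hpa
    exact absurd (even_iff_two_dvd.2 hpa) (Nat.not_even_iff_odd.2 D.a_odd)

theorem cop_qa : (Fintype.card F).Coprime D.a := by
  refine Nat.coprime_of_dvd' fun p hp hpq hpa => ?_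
  have h1 : (p : ℤ) ∣ D.ε := by
    have e : D.ε = (Fintype.card F : ℤ) - 2 * (D.a : ℤ) := by rw [D.ha]; ring
    rw [e]
    exact dvd_sub (Int.natCast_dvd_natCast.2 hpq) (Dvd.dvd.mul_left (Int.natCast_dvd_natCast.2 hpa) _)
  rcases D.hε with h | h <;> rw [h] at h1 <;> simpa using Int.natAbs_dvd_natAbs.2 h1

theorem cop_qb : (Fintype.card F).Coprime D.b := by
  refine Nat.coprime_of_dvd' fun p hp hpq hpb => ?_
  have h1 : (p : ℤ) ∣ D.ε := by
    have e : D.ε = 4 * (D.b : ℤ) - (Fintype.card F : ℤ) := by rw [D.hb]; ring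
    rw [e]
    exact dvd_sub (Dvd.dvd.mul_left (Int.natCast_dvd_natCast.2 hpb) _) (Int.natCast_dvd_natCast.2 hpq)
  rcases D.hε with h | h <;> rw [h] at h1 <;> simpa using Int.natAbs_dvd_natAbs.2 h1

/-- The image of `F`. -/
abbrev U : Subgroup P := D.eU.range

/-- `F` and its image. -/
noncomputable def UE : Multiplicative F ≃* D.U := MonoidHom.ofInjective D.eU_inj

/-- The element of `U` attached to `x`. -/
noncomputable def uu (x : F) : P := D.eU (Multiplicative.ofAdd x)

theorem UE_coe (x : F) : ((D.UE (Multiplicative.ofAdd x) : D.U) : P) = D.uu x := rfl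

theorem card_U : Nat.card D.U = Fintype.card F := by
  rw [← Nat.card_congr D.UE.toEquiv, Nat.card_congr Multiplicative.toAdd, Nat.card_eq_fintype_card]

theorem uu_ne {x : F} (hx : x ≠ 0) : D.uu x ≠ 1 := fun h => hx (Multiplicative.ofAdd.injective
  (D.eU_inj (h.trans (map_one D.eU).symm)))

theorem orderOf_A {x : P} (hx : x ∈ D.A) : orderOf x ∣ D.a := D.card_A ▸ D.A.orderOf_dvd_natCard hx

theorem orderOf_B {x : P} (hx : x ∈ D.B) : orderOf x ∣ D.b := D.card_B ▸ D.B.orderOf_dvd_natCard hx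

theorem orderOf_U {x : P} (hx : x ∈ D.U) : orderOf x ∣ Fintype.card F := D.card_U ▸ D.U.orderOf_dvd_natCard hx

include D in
theorem exists_psi : ∃ l : Multiplicative F →* ℂˣ, l ≠ 1 := by
  haveI : NeZero (Monoid.exponent (Multiplicative F)) := ⟨Monoid.exponent_ne_zero_of_finite⟩
  obtain ⟨l, hl⟩ := CommGroup.exists_apply_ne_one_of_hasEnoughRootsOfUnity (Multiplicative F) ℂ
    (a := Multiplicative.ofAdd (1 : F)) (fun h => one_ne_zero (Multiplicative.ofAdd.injective h))
  exact ⟨l, fun e => hl (by rw [e]; rfl)⟩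

/-- A nontrivial character of `(F,+)`. -/
noncomputable def psiHom : Multiplicative F →* ℂˣ := D.exists_psi.choose

theorem psiHom_ne : D.psiHom ≠ 1 := D.exists_psi.choose_spec

/-- Its values. -/
noncomputable def psi (x : F) : ℂ := (D.psiHom (Multiplicative.ofAdd x) : ℂ)

theorem psi_add (x y : F) : D.psi (x + y) = D.psi x * D.psi y := by simp [psi]

theorem psi_conj (x : F) : conj (D.psi x) = D.psi (-x) := by
  rw [psi, conj_lin]; rfl

theorem sum_psi (c : F) : ∑ x : F, D.psi (c * x) = if c = 0 then (Fintype.card F : ℂ) else 0 := by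
  split_ifs with hc
  · subst hc; simp [psi]
  · rw [Fintype.sum_equiv (Equiv.mulLeft₀ c hc) (fun x => D.psi (c * x)) D.psi fun x => rfl,
      Fintype.sum_equiv Multiplicative.ofAdd D.psi (fun y => (D.psiHom y : ℂ)) fun x => rfl, sum_linear,
      if_neg D.psiHom_ne]

include D in
theorem exists_nsq : ∃ n : F, ¬ IsSquare n := FiniteField.exists_nonsquare fun h2 => by
  have h := (FiniteField.even_card_iff_char_two (F := F)).1 h2
  have := Nat.odd_iff.1 D.q_odd
  omega

/-- A nonsquare. -/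
noncomputable def nsq : F := D.exists_nsq.choose

theorem nsq_spec : ¬ IsSquare D.nsq := D.exists_nsq.choose_spec

theorem nsq_ne : D.nsq ≠ 0 := fun h => D.nsq_spec (h ▸ ⟨0, (mul_zero 0).symm⟩)

/-- The multipliers `1`, `n`. -/
noncomputable def cI (i : Bool) : F := if i then D.nsq else 1

theorem cI_ne (i : Bool) : D.cI i ≠ 0 := by
  cases i <;> simp [cI, D.nsq_ne]

/-- The characters of `U`. -/
noncomputable def lam (i : Bool) : D.U →* ℂˣ :=
  (D.psiHom.comp (AddMonoidHom.toMultiplicative (AddMonoidHom.mulLeft (D.cI i)))).comp D.UE.symm.toMonoidHom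

theorem lam_apply (i : Bool) (x : F) : ((D.lam i) (D.UE (Multiplicative.ofAdd x)) : ℂ) = D.psi (D.cI i * x) := by
  simp [lam, psi]

theorem lam_ne (i : Bool) : D.lam i ≠ 1 := fun h => D.psiHom_ne (MonoidHom.ext fun y => by
  obtain ⟨y, rfl⟩ := Multiplicative.ofAdd.surjective y
  apply Units.ext
  have := D.lam_apply i ((D.cI i)⁻¹ * y)
  rw [h, ← mul_assoc, mul_inv_cancel₀ (D.cI_ne i), one_mul] at this
  exact this.symm)

/-- Induced from `A`. -/
noncomputable def IA (θ : D.A →* ℂˣ) : P → ℂ := indFun D.A fun x => (θ x : ℂ)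

/-- Induced from `B`. -/
noncomputable def IB (θ : D.B →* ℂˣ) : P → ℂ := indFun D.B fun x => (θ x : ℂ)

/-- Induced from `U`. -/
noncomputable def Gam (i : Bool) : P → ℂ := indFun D.U fun x => (D.lam i x : ℂ)

theorem index_mul (H : Subgroup P) : (Nat.card H : ℂ) * (H.index : ℂ) = (Nat.card P : ℂ) := by
  exact_mod_cast H.card_mul_index

theorem IA_one (θ : D.A →* ℂˣ) : D.IA θ 1 = Fintype.card F * ((Fintype.card F : ℂ) + D.ε) := by
  rw [IA, indFun_one, map_one, Units.val_one, mul_one]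
  refine mul_left_cancel₀ (mul_ne_zero two_ne_zero D.aC_ne) ?_
  have h := index_mul D.A
  rw [D.card_A] at h
  linear_combination 2 * h + D.card_PC - (Fintype.card F : ℂ) * (Fintype.card F + D.ε) * D.two_aC +
    (Fintype.card F : ℂ) * D.εC_sq

theorem IB_one (θ : D.B →* ℂˣ) : D.IB θ 1 = 2 * Fintype.card F * ((Fintype.card F : ℂ) - D.ε) := by
  rw [IB, indFun_one, map_one, Units.val_one, mul_one]
  refine mul_left_cancel₀ (mul_ne_zero two_ne_zero D.bC_ne) ?_
  have h := index_mul D.B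
  rw [D.card_B] at h
  linear_combination 2 * h + D.card_PC - (Fintype.card F : ℂ) * (Fintype.card F - D.ε) * D.four_bC +
    (Fintype.card F : ℂ) * D.εC_sq

theorem Gam_one (i : Bool) : D.Gam i 1 = ((Fintype.card F : ℂ) ^ 2 - 1) / 2 := by
  rw [Gam, indFun_one, map_one, Units.val_one, mul_one, eq_div_iff two_ne_zero]
  refine mul_left_cancel₀ D.qC_ne ?_
  have h := index_mul D.U
  rw [D.card_U] at h
  linear_combination 2 * h + D.card_PC

theorem A_ne_inv {x : D.A} (hx : x ≠ 1) : x ≠ x⁻¹ := by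
  intro e
  have h : x ^ 2 = 1 := by rw [pow_two]; nth_rewrite 2 [e]; exact mul_inv_cancel x
  have h2 := orderOf_dvd_of_pow_eq_one h
  have h1 : orderOf x ∣ D.a := D.card_A ▸ _root_.orderOf_dvd_natCard x
  exact hx (orderOf_eq_one_iff.1 (Nat.eq_one_of_dvd_coprimes D.a_odd.coprime_two_right h1 h2))

theorem B_ne_inv {x : D.B} (hx : x ≠ 1) : x ≠ x⁻¹ := by
  intro e
  have h : x ^ 2 = 1 := by rw [pow_two]; nth_rewrite 2 [e]; exact mul_inv_cancel x
  have h2 := orderOf_dvd_of_pow_eq_one h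
  have h1 : orderOf x ∣ D.b := D.card_B ▸ _root_.orderOf_dvd_natCard x
  exact hx (orderOf_eq_one_iff.1 (Nat.eq_one_of_dvd_coprimes D.b_odd.coprime_two_right h1 h2))

theorem IA_A (θ : D.A →* ℂˣ) {y : D.A} (hy : y ≠ 1) : D.IA θ y = (θ y : ℂ) + (θ y⁻¹ : ℂ) := by
  rw [IA, indFun_count, D.card_A]
  have hv : ∀ z : D.A, (θ z : ℂ) * (Nat.card {g : P // g * (z : P) * g⁻¹ = y} : ℂ) =
      if z = y ∨ z = y⁻¹ then (D.a : ℂ) * θ z else 0 := by
    intro z
    by_cases hz : z = 1
    · subst hz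
      have : IsEmpty {g : P // g * ((1 : D.A) : P) * g⁻¹ = y} := ⟨fun g => hy (Subtype.ext (by
        have := g.2; simpa using this.symm))⟩
      rw [Nat.card_of_isEmpty, Nat.cast_zero, mul_zero, if_neg]
      rintro (h | h)
      · exact hy h.symm
      · exact hy (inv_eq_one.1 h.symm)
    · rw [D.cntA z z.2 (fun e => hz (Subtype.ext e)) y y.2]
      have hiff : ((y : P) = z ∨ (y : P) = (z : P)⁻¹) ↔ (z = y ∨ z = y⁻¹) := by
        rw [← Subgroup.coe_inv, ← Subtype.ext_iff, ← Subtype.ext_iff, eq_inv_iff_mul_eq_one, eq_inv_iff_mul_eq_one, mul_eq_one_comm, eq_comm (a := y) (b := z)]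
      by_cases h : z = y ∨ z = y⁻¹
      · rw [if_pos h, if_pos (hiff.2 h)]; ring
      · rw [if_neg h, if_neg (fun h' => h (hiff.1 h'))]; simp
  rw [Finset.sum_congr rfl fun z _ => hv z, ← Finset.sum_filter,
    show Finset.univ.filter (fun z : D.A => z = y ∨ z = y⁻¹) = {y, y⁻¹} by ext; simp,
    Finset.sum_pair (D.A_ne_inv hy), ← mul_add, ← mul_assoc, inv_mul_cancel₀ D.aC_ne, one_mul]

theorem IB_B (θ : D.B →* ℂˣ) {y : D.B} (hy : y ≠ 1) : D.IB θ y = 2 * ((θ y : ℂ) + (θ y⁻¹ : ℂ)) := by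
  rw [IB, indFun_count, D.card_B]
  have hv : ∀ z : D.B, (θ z : ℂ) * (Nat.card {g : P // g * (z : P) * g⁻¹ = y} : ℂ) =
      if z = y ∨ z = y⁻¹ then (D.b : ℂ) * (2 * θ z) else 0 := by
    intro z
    by_cases hz : z = 1
    · subst hz
      have : IsEmpty {g : P // g * ((1 : D.B) : P) * g⁻¹ = y} := ⟨fun g => hy (Subtype.ext (by
        have := g.2; simpa using this.symm))⟩
      rw [Nat.card_of_isEmpty, Nat.cast_zero, mul_zero, if_neg]
      rintro (h | h)
      · exact hy h.symm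
      · exact hy (inv_eq_one.1 h.symm)
    · rw [D.cntB z z.2 (fun e => hz (Subtype.ext e)) y y.2]
      have hiff : ((y : P) = z ∨ (y : P) = (z : P)⁻¹) ↔ (z = y ∨ z = y⁻¹) := by
        rw [← Subgroup.coe_inv, ← Subtype.ext_iff, ← Subtype.ext_iff, eq_inv_iff_mul_eq_one, eq_inv_iff_mul_eq_one, mul_eq_one_comm, eq_comm (a := y) (b := z)]
      by_cases h : z = y ∨ z = y⁻¹
      · rw [if_pos h, if_pos (hiff.2 h)]; push_cast; ring
      · rw [if_neg h, if_neg (fun h' => h (hiff.1 h'))]; simp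
  rw [Finset.sum_congr rfl fun z _ => hv z, ← Finset.sum_filter,
    show Finset.univ.filter (fun z : D.B => z = y ∨ z = y⁻¹) = {y, y⁻¹} by ext; simp,
    Finset.sum_pair (D.B_ne_inv hy), ← mul_add, ← mul_assoc, inv_mul_cancel₀ D.bC_ne, one_mul, ← mul_add]

theorem Gam_A (i : Bool) {y : P} (hy : y ∈ D.A) (h1 : y ≠ 1) : D.Gam i y = 0 :=
  indFun_coprime _ _ h1 (D.orderOf_A hy) (D.card_U.symm ▸ D.cop_qa.symm)

theorem Gam_B (i : Bool) {y : P} (hy : y ∈ D.B) (h1 : y ≠ 1) : D.Gam i y = 0 :=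
  indFun_coprime _ _ h1 (D.orderOf_B hy) (D.card_U.symm ▸ D.cop_qb.symm)

theorem IB_A (θ : D.B →* ℂˣ) {y : P} (hy : y ∈ D.A) (h1 : y ≠ 1) : D.IB θ y = 0 :=
  indFun_coprime _ _ h1 (D.orderOf_A hy) (D.card_B.symm ▸ D.cop_ab)

theorem IA_B (θ : D.A →* ℂˣ) {y : P} (hy : y ∈ D.B) (h1 : y ≠ 1) : D.IA θ y = 0 :=
  indFun_coprime _ _ h1 (D.orderOf_B hy) (D.card_A.symm ▸ D.cop_ab.symm)

/-- The nonzero squares. -/
noncomputable def sqs : Finset F := ((Finset.univ : Finset F).erase 0).image fun r => r ^ 2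

theorem mem_sqs {y : F} : y ∈ (sqs : Finset F) ↔ ∃ r : F, r ≠ 0 ∧ y = r ^ 2 := by
  simp [sqs, eq_comm]

include D in
theorem card_sqs : 2 * (sqs : Finset F).card + 1 = Fintype.card F := by
  have h2 : (2 : F) ≠ 0 := fun h => by
    have hc : ringChar F = 2 := by
      have := ringChar.dvd (R := F) (x := 2) (by exact_mod_cast h)
      rcases (Nat.dvd_prime Nat.prime_two).1 this with h' | h'
      · exact absurd h' (CharP.ringChar_ne_one)
      · exact h'
    have h' := (FiniteField.even_card_iff_char_two (F := F)).1 hc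
    have := Nat.odd_iff.1 D.q_odd
    omega
  have h := Finset.card_eq_sum_card_image (fun r : F => r ^ 2) ((Finset.univ : Finset F).erase 0)
  have hf : ∀ y ∈ (sqs : Finset F), (((Finset.univ : Finset F).erase 0).filter fun r => r ^ 2 = y).card = 2 := by
    intro y hy
    obtain ⟨r, hr, rfl⟩ := mem_sqs.1 hy
    rw [show ((Finset.univ : Finset F).erase 0).filter (fun x => x ^ 2 = r ^ 2) = {r, -r} by
      ext x
      simp only [Finset.mem_filter, Finset.mem_erase, Finset.mem_univ, and_true, Finset.mem_insert,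
        Finset.mem_singleton]
      rw [sq_eq_sq_iff_eq_or_eq_neg]
      constructor
      · exact fun h => h.2
      · rintro (rfl | rfl) <;> simp [hr]]
    refine Finset.card_pair fun e => hr ?_
    have : (2 : F) * r = 0 := by rw [two_mul]; nth_rewrite 2 [e]; exact add_neg_cancel r
    exact (mul_eq_zero.1 this).resolve_left h2
  rw [Finset.card_erase_of_mem (Finset.mem_univ _), Finset.card_univ,
    show ((Finset.univ : Finset F).erase 0).image (fun r => r ^ 2) = sqs from rfl, Finset.sum_congr rfl hf,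
    Finset.sum_const, smul_eq_mul] at h
  have := D.q5
  omega

theorem Gam_U (i : Bool) {x : F} (hx : x ≠ 0) : D.Gam i (D.uu x) = ∑ r ∈ sqs, D.psi (D.cI i * (r * x)) := by
  rw [Gam, indFun_count, D.card_U]
  refine (congrArg (_ * ·) (Finset.sum_equiv (s := (Finset.univ : Finset F))
    (f := fun y : F => D.psi (D.cI i * y) * (Nat.card {g : P // g * D.uu y * g⁻¹ = D.uu x} : ℂ))
    (Multiplicative.ofAdd.trans D.UE.toEquiv) (fun y => by simp) (fun y _ => by
      simp only [Equiv.trans_apply, MulEquiv.toEquiv_eq_coe, MulEquiv.coe_toEquiv, EquivLike.coe_coe, D.UE_coe,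
        D.lam_apply])).symm).trans ?_
  have hv : ∀ y : F, D.psi (D.cI i * y) * (Nat.card {g : P // g * D.uu y * g⁻¹ = D.uu x} : ℂ) =
      if ∃ r ∈ (sqs : Finset F), y = r * x then (Fintype.card F : ℂ) * D.psi (D.cI i * y) else 0 := by
    intro y
    by_cases hy : y = 0
    · subst hy
      have : IsEmpty {g : P // g * D.uu 0 * g⁻¹ = D.uu x} := ⟨fun g => D.uu_ne hx (by
        have := g.2; simpa [uu] using this.symm)⟩
      rw [Nat.card_of_isEmpty, Nat.cast_zero, mul_zero, if_neg]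
      rintro ⟨r, hr, e⟩
      obtain ⟨s, hs, rfl⟩ := mem_sqs.1 hr
      simp [hs, hx] at e
    · unfold uu
      rw [D.cntU y hy x]
      have hiff : (∃ r : F, r ≠ 0 ∧ x = r ^ 2 * y) ↔ ∃ r ∈ (sqs : Finset F), y = r * x := by
        constructor
        · rintro ⟨r, hr, rfl⟩
          exact ⟨(r⁻¹) ^ 2, mem_sqs.2 ⟨r⁻¹, inv_ne_zero hr, rfl⟩, by field_simp⟩
        · rintro ⟨_, hs, rfl⟩
          obtain ⟨r, hr, rfl⟩ := mem_sqs.1 hs
          exact ⟨r⁻¹, inv_ne_zero hr, by field_simp⟩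
      by_cases h : ∃ r ∈ (sqs : Finset F), y = r * x
      · rw [if_pos h, if_pos (hiff.2 h)]; ring
      · rw [if_neg h, if_neg (fun h' => h (hiff.1 h'))]; simp
  rw [Finset.sum_congr rfl fun y _ => hv y, ← Finset.sum_filter,
    show Finset.univ.filter (fun y : F => ∃ r ∈ (sqs : Finset F), y = r * x) = sqs.image (fun r => r * x) by
      ext; simp [eq_comm], Finset.sum_image fun r _ r' _ e => mul_right_cancel₀ hx e, ← Finset.mul_sum,
    ← mul_assoc, inv_mul_cancel₀ D.qC_ne, one_mul]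

end KD

end Cfsg.Agent.Char.ReeOrder
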