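import Mathlib

/-!
# A rank two lemma for abelian Sylow two-subgroups

If an involution centralises `x` and inverts `y`, where `⟨x, y⟩` is elementary of order `r²`, then no element of
the normaliser of `⟨x, y⟩` maps `⟨x⟩` to `⟨y⟩`, provided two-groups are abelian.
-/

set_option autoImplicit false
set_option linter.unusedSectionVars false

namespace Cfsg.Agent.Char.ReeOrder

open Subgroup
open scoped Pointwise

universe u

variable {G : Type u} [Group G]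

theorem mem_normalizer_of_map [Finite G] (H : Subgroup G) {g : G} (hg : ∀ x ∈ H, g * x * g⁻¹ ∈ H) :
    g ∈ normalizer (H : Set G) := by
  rw [mem_normalizer_iff]
  intro y
  refine ⟨hg y, fun hy => ?_⟩
  have hbij : Function.Bijective (fun x : H => (⟨g * x * g⁻¹, hg x x.2⟩ : H)) :=
    Finite.injective_iff_bijective.1 fun x z e => Subtype.ext
      (mul_left_cancel (mul_right_cancel (congrArg Subtype.val e)))
  obtain ⟨z, hz⟩ := hbij.2 ⟨_, hy⟩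
  rw [← mul_left_cancel (mul_right_cancel (congrArg Subtype.val hz))]
  exact z.2

theorem conj_zpowers {x z g : G} (h : g * x * g⁻¹ ∈ zpowers z) {a : G} (ha : a ∈ zpowers x) :
    g * a * g⁻¹ ∈ zpowers z := by
  obtain ⟨k, rfl⟩ := mem_zpowers_iff.1 ha
  rw [← conj_zpow]
  exact zpow_mem h k

theorem gen_of_prime {r : ℕ} [hr : Fact r.Prime] {y a : G} (hy : orderOf y = r) (ha : a ∈ zpowers y) (ha1 : a ≠ 1) :
    zpowers a = zpowers y := by
  haveI : Finite (zpowers y) := Nat.finite_of_card_ne_zero (by rw [Nat.card_zpowers, hy]; exact hr.out.ne_zero)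
  refine Subgroup.eq_of_le_of_card_ge (zpowers_le.2 ha) ?_
  have hd : orderOf a ∣ r := hy ▸ orderOf_dvd_of_mem_zpowers ha
  rw [Nat.card_zpowers, Nat.card_zpowers, hy, ((Nat.dvd_prime hr.out).1 hd).resolve_left (by
    rwa [orderOf_eq_one_iff])]

theorem exists_two_part [Finite G] (g : G) : ∃ o : ℕ, Odd o ∧ ∃ k : ℕ, (g ^ o) ^ 2 ^ k = 1 := by
  obtain ⟨k, o, ho, hko⟩ := Nat.exists_eq_two_pow_mul_odd (orderOf_pos g).ne'
  exact ⟨o, ho, k, by rw [← pow_mul, mul_comm, ← hko, pow_orderOf_eq_one]⟩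

theorem exists_sylow_mem [Finite G] (M : Subgroup G) {g : G} (hgM : g ∈ M) {k : ℕ} (hg : g ^ 2 ^ k = 1) :
    ∃ T : Sylow 2 M, (⟨g, hgM⟩ : M) ∈ (T : Subgroup M) := by
  haveI : Fact (Nat.Prime 2) := ⟨Nat.prime_two⟩
  have hd : orderOf (⟨g, hgM⟩ : M) ∣ 2 ^ k := by
    rw [Subgroup.orderOf_mk]; exact orderOf_dvd_of_pow_eq_one hg
  obtain ⟨n, -, hn⟩ := (Nat.dvd_prime_pow Nat.prime_two).1 hd
  obtain ⟨T, hT⟩ := (IsPGroup.of_card (p := 2) (n := n) (G := zpowers (⟨g, hgM⟩ : M)) (by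
    rw [Nat.card_zpowers, hn])).exists_le_sylow
  exact ⟨T, hT (mem_zpowers _)⟩

theorem rankTwo [Finite G] (hab : ∀ T : Subgroup G, IsPGroup 2 T → ∀ a ∈ T, ∀ b ∈ T, a * b = b * a)
    {r : ℕ} (hr : r.Prime) (hr2 : r ≠ 2) {x y σ h : G} (hx : orderOf x = r) (hy : orderOf y = r)
    (hxy : x * y = y * x) (hσ2 : σ * σ = 1) (hσx : σ * x * σ⁻¹ = x)
    (hσy : σ * y * σ⁻¹ = y⁻¹)
    (hh : h ∈ normalizer ((zpowers x ⊔ zpowers y : Subgroup G) : Set G)) (hhx : h * x * h⁻¹ ∈ zpowers y) :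
    False := by
  classical
  haveI := Fact.mk hr
  haveI : Fact (Nat.Prime 2) := ⟨Nat.prime_two⟩
  set P := zpowers x ⊔ zpowers y with hP
  have hx1 : x ≠ 1 := fun e => by rw [e, orderOf_one] at hx; exact hr.one_lt.ne hx
  have hy1 : y ≠ 1 := fun e => by rw [e, orderOf_one] at hy; exact hr.one_lt.ne hy
  have hP_elt : ∀ a ∈ P, ∃ i j : ℤ, a = x ^ i * y ^ j := by
    intro a ha
    obtain ⟨b, hb, c, hc, rfl⟩ := (Set.mem_mul.1 (by
      rw [← Subgroup.coe_mul_of_right_le_normalizer_left (zpowers x) (zpowers y) (zpowers_le.2 (mem_normalizer_of_map _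
        fun z hz => by
          refine conj_zpowers ?_ hz
          rw [← hxy, mul_inv_cancel_right]; exact mem_zpowers x))]
      exact ha : a ∈ (zpowers x : Set G) * (zpowers y : Set G)))
    obtain ⟨i, rfl⟩ := mem_zpowers_iff.1 hb
    obtain ⟨j, rfl⟩ := mem_zpowers_iff.1 hc
    exact ⟨i, j, rfl⟩
  have hσP : σ ∈ normalizer (P : Set G) := mem_normalizer_of_map _ fun a ha => by
    obtain ⟨i, j, rfl⟩ := hP_elt a ha
    rw [show σ * (x ^ i * y ^ j) * σ⁻¹ = σ * x ^ i * σ⁻¹ * (σ * y ^ j * σ⁻¹) by group, ← conj_zpow, ← conj_zpow,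
      hσx, hσy]
    exact mul_mem (mem_sup_left (zpow_mem (mem_zpowers x) i)) (mem_sup_right (zpow_mem (inv_mem (mem_zpowers y)) j))
  have hσny : σ ∈ normalizer (zpowers y : Set G) := mem_normalizer_of_map _ fun a ha =>
    conj_zpowers (hσy ▸ inv_mem (mem_zpowers y)) ha
  set M : Subgroup G := normalizer (P : Set G) ⊓ normalizer (zpowers y : Set G) with hM
  set σ' := h * σ * h⁻¹ with hσ'
  have hgen : zpowers (h * x * h⁻¹) = zpowers y := gen_of_prime hy hhx fun e => hx1 (conj_eq_one_iff.1 e)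
  have hσ'y : σ' * y * σ'⁻¹ = y := by
    obtain ⟨k, hk⟩ := mem_zpowers_iff.1 (hgen.symm ▸ mem_zpowers y : y ∈ zpowers (h * x * h⁻¹))
    rw [← hk, conj_zpow, hσ']
    rw [show h * σ * h⁻¹ * (h * x ^ k * h⁻¹) * (h * σ * h⁻¹)⁻¹ = h * (σ * x ^ k * σ⁻¹) * h⁻¹ by
      group, ← conj_zpow, hσx]
  have hσ'M : σ' ∈ M := Subgroup.mem_inf.2 ⟨mul_mem (mul_mem hh hσP) (inv_mem hh), mem_normalizer_of_map _ fun a ha =>
    conj_zpowers (hσ'y.symm ▸ mem_zpowers y) ha⟩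
  -- a conjugate of `σ'` in `M` commuting with `σ`
  have hσσ : σ ^ 2 ^ 1 = 1 := by rw [pow_one, pow_two, hσ2]
  have hσσ' : σ' ^ 2 ^ 1 = 1 := by
    rw [pow_one, pow_two, hσ', show h * σ * h⁻¹ * (h * σ * h⁻¹) = h * (σ * σ) * h⁻¹ by group, hσ2]; group
  have hσM : σ ∈ M := ⟨hσP, hσny⟩
  obtain ⟨T, hT⟩ := exists_sylow_mem M hσM hσσ
  obtain ⟨T', hT'⟩ := exists_sylow_mem M hσ'M hσσ'
  obtain ⟨k, hk⟩ := MulAction.exists_smul_eq M T' T
  have hk' : k * ⟨σ', hσ'M⟩ * k⁻¹ ∈ (T : Subgroup M) := by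
    rw [← hk, Sylow.coe_subgroup_smul]; exact ⟨_, hT', rfl⟩
  set n := (k : G) * h with hn
  set τ := n * σ * n⁻¹ with hτ
  have hτc : τ * σ = σ * τ := by
    have e : τ = (k : G) * σ' * (k : G)⁻¹ := by rw [hτ, hn, hσ']; group
    rw [e]
    exact hab ((T : Subgroup M).map M.subtype) (T.2.map _) _ ⟨_, hk', rfl⟩ _ ⟨_, hT, rfl⟩
  have hnP : n ∈ normalizer (P : Set G) := mul_mem k.2.1 hh
  have hnx : n * x * n⁻¹ ∈ zpowers y := by
    rw [hn, show (k : G) * h * x * ((k : G) * h)⁻¹ = k * (h * x * h⁻¹) * (k : G)⁻¹ by group]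
    exact (mem_normalizer_iff.1 k.2.2 _).1 hhx
  have hny : n * y * n⁻¹ ∈ zpowers x := by
    obtain ⟨i, j, e⟩ := hP_elt _ ((mem_normalizer_iff.1 hnP y).1 (mem_sup_right (mem_zpowers y)))
    have hgn : zpowers (n * x * n⁻¹) = zpowers y := gen_of_prime hy hnx fun e => hx1 (conj_eq_one_iff.1 e)
    have hτy : τ * y * τ⁻¹ = y := by
      obtain ⟨l, hl⟩ := mem_zpowers_iff.1 (hgn.symm ▸ mem_zpowers y : y ∈ zpowers (n * x * n⁻¹))
      rw [← hl, conj_zpow, hτ]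
      rw [show n * σ * n⁻¹ * (n * x ^ l * n⁻¹) * (n * σ * n⁻¹)⁻¹ = n * (σ * x ^ l * σ⁻¹) * n⁻¹ by group,
        ← conj_zpow, hσx]
    have hτz : τ * (n * y * n⁻¹) * τ⁻¹ = (n * y * n⁻¹)⁻¹ := by
      rw [hτ, show n * σ * n⁻¹ * (n * y * n⁻¹) * (n * σ * n⁻¹)⁻¹ = n * (σ * y * σ⁻¹) * n⁻¹ by group, hσy]; group
    have hswap : ∀ w : G, σ * (τ * w * τ⁻¹) * σ⁻¹ = τ * (σ * w * σ⁻¹) * τ⁻¹ := fun w => by
      rw [show σ * (τ * w * τ⁻¹) * σ⁻¹ = σ * τ * w * (σ * τ)⁻¹ by group, ← hτc]; group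
    rw [e] at hτz ⊢
    have hc : Commute x y := hxy
    have hxi : (x ^ i) * y ^ j = y ^ j * x ^ i := (hc.zpow_zpow i j).eq
    have hσz : σ * (x ^ i * y ^ j) * σ⁻¹ = x ^ i * y ^ (-j) := by
      rw [show σ * (x ^ i * y ^ j) * σ⁻¹ = σ * x ^ i * σ⁻¹ * (σ * y ^ j * σ⁻¹) by group, ← conj_zpow, ← conj_zpow,
        hσx, hσy, inv_zpow']
    have h2 : τ * (x ^ i * y ^ (-j)) * τ⁻¹ = (x ^ i * y ^ (-j))⁻¹ := by
      rw [← hσz, ← hswap, hτz]; group
    have hτj : ∀ l : ℤ, τ * y ^ l * τ⁻¹ = y ^ l := fun l => by rw [← conj_zpow, hτy]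
    have hτi : τ * x ^ i * τ⁻¹ = (x ^ i * y ^ j)⁻¹ * y ^ (-j) := by
      rw [← hτz, show τ * (x ^ i * y ^ j) * τ⁻¹ = τ * x ^ i * τ⁻¹ * (τ * y ^ j * τ⁻¹) by group, hτj]; group
    rw [show τ * (x ^ i * y ^ (-j)) * τ⁻¹ = τ * x ^ i * τ⁻¹ * (τ * y ^ (-j) * τ⁻¹) by group, hτj, hτi] at h2
    have h4 : y ^ (4 * j) = 1 := by
      have hk1 := congrArg (fun w => x ^ i * w) h2
      simp only [mul_inv_rev] at hk1
      have e1 : x ^ i * ((y ^ j)⁻¹ * (x ^ i)⁻¹ * y ^ (-j) * y ^ (-j)) = y ^ (-(3 * j)) := by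
        rw [← zpow_neg, ← zpow_neg, show x ^ i * (y ^ (-j) * x ^ (-i) * y ^ (-j) * y ^ (-j)) =
          (x ^ i * y ^ (-j)) * x ^ (-i) * (y ^ (-j) * y ^ (-j)) by group, (hc.zpow_zpow i (-j)).eq]
        group
      have e2 : x ^ i * ((y ^ (-j))⁻¹ * (x ^ i)⁻¹) = y ^ j := by
        rw [← zpow_neg, ← zpow_neg, neg_neg, show x ^ i * (y ^ j * x ^ (-i)) = (x ^ i * y ^ j) * x ^ (-i) by group, hxi]
        group
      rw [e1, e2] at hk1
      rw [show 4 * j = j + 3 * j by ring, zpow_add]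
      nth_rewrite 1 [← hk1]
      rw [← zpow_add, neg_add_cancel, zpow_zero]
    have hd : (r : ℤ) ∣ 4 * j := hy ▸ orderOf_dvd_iff_zpow_eq_one.2 h4
    have hrj : (r : ℤ) ∣ j := by
      refine (Int.Prime.dvd_mul' hr hd).resolve_left fun h4' => ?_
      have h4n : r ∣ 2 * 2 := by exact_mod_cast h4'
      exact hr2 ((Nat.prime_dvd_prime_iff_eq hr Nat.prime_two).1 ((hr.dvd_mul.1 h4n).elim id id))
    have hyj : y ^ j = 1 := orderOf_dvd_iff_zpow_eq_one.1 (by rw [hy]; exact hrj)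
    rw [hyj, mul_one]
    exact zpow_mem (mem_zpowers x) i
  -- the swap
  set Q := normalizer (zpowers x : Set G) ⊓ normalizer (zpowers y : Set G) with hQ
  have hσQ : σ ∈ Q := ⟨mem_normalizer_of_map _ fun a ha => conj_zpowers (hσx.symm ▸ mem_zpowers x) ha, hσny⟩
  have hnQ : ∀ q ∈ Q, n * q * n⁻¹ ∈ Q := by
    intro q hq
    have gx : zpowers (n * x * n⁻¹) = zpowers y := gen_of_prime hy hnx fun e => hx1 (conj_eq_one_iff.1 e)
    have gy : zpowers (n * y * n⁻¹) = zpowers x := gen_of_prime hx hny fun e => hy1 (conj_eq_one_iff.1 e)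
    have key : ∀ a c : G, zpowers (n * a * n⁻¹) = zpowers c → q * a * q⁻¹ ∈ zpowers a →
        n * q * n⁻¹ ∈ normalizer (zpowers c : Set G) := fun a c hac hqa => by
      refine mem_normalizer_of_map _ fun w hw => conj_zpowers (x := n * a * n⁻¹) ?_ (hac.symm ▸ hw)
      rw [show n * q * n⁻¹ * (n * a * n⁻¹) * (n * q * n⁻¹)⁻¹ = n * (q * a * q⁻¹) * n⁻¹ by group, ← hac]
      exact conj_zpowers (mem_zpowers _) hqa
    exact ⟨key y x gy ((mem_normalizer_iff.1 hq.2 y).1 (mem_zpowers y)),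
      key x y gx ((mem_normalizer_iff.1 hq.1 x).1 (mem_zpowers x))⟩
  obtain ⟨T1, hT1⟩ := exists_sylow_mem Q hσQ hσσ
  set T1G := (T1 : Subgroup Q).map Q.subtype with hT1G
  have hT1le : T1G.map (MulAut.conj n).toMonoidHom ≤ Q := by
    rintro _ ⟨w, hw, rfl⟩
    exact hnQ w (Subgroup.map_subtype_le _ hw)
  obtain ⟨T2, hT2⟩ := ((T1.2.map Q.subtype).map (MulAut.conj n).toMonoidHom |>.of_equiv
    (subgroupOfEquivOfLe hT1le).symm).exists_le_sylow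
  obtain ⟨q, hq⟩ := MulAction.exists_smul_eq Q T2 T1
  set m0 := (q : G) * n with hm0
  have hm0T : m0 ∈ normalizer (T1G : Set G) := by
    refine mem_normalizer_of_map _ fun w hw => ?_
    have h1 : (⟨n * w * n⁻¹, hT1le ⟨w, hw, rfl⟩⟩ : Q) ∈ (T2 : Subgroup Q) :=
      hT2 (mem_subgroupOf.2 ⟨w, hw, rfl⟩)
    have h2 : q * ⟨n * w * n⁻¹, hT1le ⟨w, hw, rfl⟩⟩ * q⁻¹ ∈ (T1 : Subgroup Q) := by
      rw [← hq, Sylow.coe_subgroup_smul]; exact ⟨_, h1, rfl⟩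
    exact ⟨_, h2, by rw [hm0]; simp [mul_assoc]⟩
  have hm0x : m0 * x * m0⁻¹ ∈ zpowers y := by
    rw [hm0, show (q : G) * n * x * ((q : G) * n)⁻¹ = q * (n * x * n⁻¹) * (q : G)⁻¹ by group]
    exact (mem_normalizer_iff.1 q.2.2 _).1 hnx
  have hm0y : m0 * y * m0⁻¹ ∈ zpowers x := by
    rw [hm0, show (q : G) * n * y * ((q : G) * n)⁻¹ = q * (n * y * n⁻¹) * (q : G)⁻¹ by group]
    exact (mem_normalizer_iff.1 q.2.1 _).1 hny
  obtain ⟨o, ho, l, hl⟩ := exists_two_part m0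
  set m := m0 ^ o with hm
  have hmx : m * x * m⁻¹ ∈ zpowers y := by
    have key : ∀ i : ℕ, m0 ^ (2 * i + 1) * x * (m0 ^ (2 * i + 1))⁻¹ ∈ zpowers y := by
      intro i
      induction i with
      | zero => simpa using hm0x
      | succ i ih =>
        rw [show 2 * (i + 1) + 1 = 1 + (1 + (2 * i + 1)) by omega, pow_add, pow_add, pow_one,
          show m0 * (m0 * m0 ^ (2 * i + 1)) * x * (m0 * (m0 * m0 ^ (2 * i + 1)))⁻¹ =
            m0 * (m0 * (m0 ^ (2 * i + 1) * x * (m0 ^ (2 * i + 1))⁻¹) * m0⁻¹) * m0⁻¹ by group]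
        exact conj_zpowers hm0x (conj_zpowers hm0y ih)
    obtain ⟨i, rfl⟩ := ho
    exact key i
  have hmp : IsPGroup 2 (zpowers m) := by
    obtain ⟨i, -, hi⟩ := (Nat.dvd_prime_pow Nat.prime_two).1 (orderOf_dvd_of_pow_eq_one hl)
    exact IsPGroup.of_card (n := i) (by rw [Nat.card_zpowers, hi])
  have hsup : IsPGroup 2 (zpowers m ⊔ T1G : Subgroup G) :=
    hmp.to_sup_of_normal_right' (T1.2.map Q.subtype) (zpowers_le.2 (pow_mem hm0T o))
  have hcomm : σ * m = m * σ :=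
    hab _ hsup _ (mem_sup_right ⟨⟨σ, hσQ⟩, hT1, rfl⟩) _ (mem_sup_left (mem_zpowers m))
  obtain ⟨j, hj⟩ := mem_zpowers_iff.1 hmx
  have hfix : σ * (m * x * m⁻¹) * σ⁻¹ = m * x * m⁻¹ := by
    rw [show σ * (m * x * m⁻¹) * σ⁻¹ = σ * m * x * (σ * m)⁻¹ by group, hcomm,
      show m * σ * x * (m * σ)⁻¹ = m * (σ * x * σ⁻¹) * m⁻¹ by group, hσx]
  rw [← hj, ← conj_zpow, hσy, inv_zpow'] at hfix
  have h2 : y ^ (2 * j) = 1 := by rw [two_mul, zpow_add]; nth_rewrite 1 [← hfix]; rw [← zpow_add, neg_add_cancel, zpow_zero]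
  have hd : (r : ℤ) ∣ 2 * j := hy ▸ orderOf_dvd_iff_zpow_eq_one.2 h2
  have hrj : (r : ℤ) ∣ j := (Int.Prime.dvd_mul' hr hd).resolve_left fun h =>
    hr2 ((Nat.prime_dvd_prime_iff_eq hr Nat.prime_two).1 (by exact_mod_cast h))
  have hyj : y ^ j = 1 := orderOf_dvd_iff_zpow_eq_one.1 (by rw [hy]; exact hrj)
  rw [hyj] at hj
  exact hx1 (conj_eq_one_iff.1 hj.symm)

end Cfsg.Agent.Char.ReeOrder
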