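import Cfsg.Agent.Lib.Char.ReeOrder.LocalRot
import Cfsg.Agent.Lib.Char.ReeOrder.LocalRankTwo

/-!
# The rotation is not conjugate into `BG`

If `ρ` fixes `b` and `g u g⁻¹ = t`, `g ρ g⁻¹ ∈ BG`, then `|BG| = 3`, `⟨ρ, b⟩` is a Sylow three-subgroup of `C(b)`,
`u` centralises `ρ` and inverts `b`, and an element of its normaliser maps `⟨ρ⟩` to `⟨b⟩`.
-/

set_option autoImplicit false
set_option linter.unusedSectionVars false

namespace Cfsg.Agent.Char.ReeOrder

open Subgroup Cfsg.Agent.Char.ReeThree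

universe u v

namespace LCfg

variable {G : Type u} [Group G] [Finite G] {F : Type v} [Field F] [Fintype F] {L : LCfg G F}

theorem btype_case (R : L.Rot) {b : G} (hb : b ∈ L.BG) (hb1 : b ≠ 1) (hfix : R.rho * b = b * R.rho) {g : G}
    (hgu : g * R.u * g⁻¹ = L.t) (hgr : g * R.rho * g⁻¹ ∈ L.BG) : False := by
  classical
  haveI := Fact.mk Nat.prime_three
  set b' := g * R.rho * g⁻¹ with hb'
  have hb'o : orderOf b' = 3 := by
    rw [hb', show g * R.rho * g⁻¹ = MulAut.conj g R.rho from rfl, MulEquiv.orderOf_eq, R.ord_rho]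
  have hb'1 : b' ≠ 1 := fun e => R.rho_ne (conj_eq_one_iff.1 e)
  have hy : g * b * g⁻¹ * b' = b' * (g * b * g⁻¹) := by
    rw [hb', show g * b * g⁻¹ * (g * R.rho * g⁻¹) = g * (b * R.rho) * g⁻¹ by group, ← hfix]; group
  have hbne : b⁻¹ ≠ b := fun e => hb1 (eq_one_of_inv_eq (L.BG_odd hb) e)
  -- `ρ` fixes `b'`
  have hr' : R.rho * b' = b' * R.rho := by
    by_contra hne
    have h := mem_centralizer_singleton_iff.1 (L.cent_le_of_moved R hgr hb'1 hne (mem_centralizer_singleton_iff.2 hy))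
    rw [show L.S.t = g * R.u * g⁻¹ from hgu.symm] at h
    have h' : g * (b * R.u) * g⁻¹ = g * (R.u * b) * g⁻¹ := by
      calc g * (b * R.u) * g⁻¹ = g * b * g⁻¹ * (g * R.u * g⁻¹) := by group
        _ = g * R.u * g⁻¹ * (g * b * g⁻¹) := h
        _ = _ := by group
    have hbu := mul_left_cancel (mul_right_cancel h')
    have := R.u_inv hb
    rw [← hbu, mul_inv_cancel_right] at this
    exact hbne this.symm
  -- `BG = ⟨b'⟩`
  have hle : L.BG ≤ zpowers b' := by
    intro β hβ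
    set x := g⁻¹ * β * g with hx
    have hgx : g * x * g⁻¹ = β := by rw [hx]; group
    have hu : ∀ z ∈ L.BG, R.u * (g⁻¹ * z * g) * R.u⁻¹ = g⁻¹ * z * g := by
      intro z hz
      rw [show R.u * (g⁻¹ * z * g) * R.u⁻¹ = g⁻¹ * ((g * R.u * g⁻¹) * z * (g * R.u * g⁻¹)⁻¹) * g by group, hgu,
        ← L.BG_t hz, mul_inv_cancel_right]
    have hux : R.u * x * R.u⁻¹ = x := hu β hβ
    have hbx : R.u * (b * x * b⁻¹) * R.u⁻¹ = b * x * b⁻¹ := by
      have := hu _ (L.B_norm R hgr hb'1 hr' hy hβ)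
      rwa [show g⁻¹ * (g * b * g⁻¹ * β * (g * b * g⁻¹)⁻¹) * g = b * x * b⁻¹ by rw [hx]; group] at this
    rw [show R.u * (b * x * b⁻¹) * R.u⁻¹ = R.u * b * R.u⁻¹ * (R.u * x * R.u⁻¹) * (R.u * b * R.u⁻¹)⁻¹ by group,
      R.u_inv hb, hux, inv_inv] at hbx
    have h2 : b ^ 2 * x = x * b ^ 2 := by
      calc b ^ 2 * x = b * (b * x * b⁻¹) * b := by rw [pow_two]; group
        _ = b * (b⁻¹ * x * b) * b := by rw [hbx]
        _ = x * b ^ 2 := by rw [pow_two]; group
    have hxb : x * b = b * x := (comm_of_sq (L.BG_odd hb) h2).symm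
    have hxr : x * R.rho = R.rho * x := by
      have h := L.BG_comm hβ hgr
      rw [← hgx, hb', show g * x * g⁻¹ * (g * R.rho * g⁻¹) = g * (x * R.rho) * g⁻¹ by group,
        show g * R.rho * g⁻¹ * (g * x * g⁻¹) = g * (R.rho * x) * g⁻¹ by group] at h
      exact mul_left_cancel (mul_right_cancel h)
    obtain ⟨γ, hγ, -, i, e⟩ := L.cent_b_rho R hb hb1 hfix hxb hxr
    rw [e, show R.u * (γ * R.rho ^ i) * R.u⁻¹ = R.u * γ * R.u⁻¹ * (R.u * R.rho ^ i * R.u⁻¹) by group,
      R.u_inv hγ, ((show Commute R.u R.rho from R.ur).pow_right i).eq, mul_inv_cancel_right, mul_left_inj] at hux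
    rw [eq_one_of_inv_eq (L.BG_odd hγ) hux, one_mul] at e
    rw [← hgx, e, ← conj_pow, ← hb']
    exact pow_mem (mem_zpowers b') i
  have hD3 : L.D.b = 3 := by
    rw [← L.card_BG, le_antisymm hle (zpowers_le.2 hgr), Nat.card_zpowers, hb'o]
  have hbb' : zpowers b = zpowers b' := gen_of_prime hb'o (hle hb) hb1
  have hbo : orderOf b = 3 := by rw [← Nat.card_zpowers, hbb', Nat.card_zpowers, hb'o]
  set X := centralizer ({b} : Set G) with hX
  have hb'X : ∀ x, x * b' = b' * x → x ∈ X := fun x hx => by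
    obtain ⟨k, hk⟩ := mem_zpowers_iff.1 (hle hb)
    rw [hX, mem_centralizer_singleton_iff, ← hk]
    exact ((show Commute x b' from hx).zpow_right k).eq
  -- the subgroup of order nine
  set P := zpowers R.rho ⊔ zpowers b with hP
  have hnb : zpowers R.rho ≤ normalizer (zpowers b : Set G) := zpowers_le.2 (mem_normalizer_of_map _ fun a ha => by
    obtain ⟨k, rfl⟩ := mem_zpowers_iff.1 ha
    rw [((show Commute R.rho b from hfix).zpow_right k).eq, mul_inv_cancel_right]
    exact zpow_mem (mem_zpowers b) k)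
  have hPp : IsPGroup 3 P := by
    have h1 : IsPGroup 3 (zpowers R.rho) := IsPGroup.of_card (n := 1) (by rw [Nat.card_zpowers, R.ord_rho, pow_one])
    have h2 : IsPGroup 3 (zpowers b) := IsPGroup.of_card (n := 1) (by rw [Nat.card_zpowers, hbo, pow_one])
    exact h1.to_sup_of_normal_right' h2 hnb
  have hPX : P ≤ X := sup_le (zpowers_le.2 (mem_centralizer_singleton_iff.2 hfix))
    (zpowers_le.2 (mem_centralizer_singleton_iff.2 rfl))
  have h27 := L.cent_not_27 R hb hb1 hfix hD3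
  have hPc : Nat.card P = 9 := by
    obtain ⟨k, hk⟩ := IsPGroup.iff_card.1 hPp
    have hk2 : k ≤ 2 := by
      by_contra hk2
      apply h27
      refine dvd_trans ?_ (Subgroup.card_dvd_of_le hPX)
      rw [hk, show (27 : ℕ) = 3 ^ 3 by norm_num]
      exact pow_dvd_pow 3 (by omega)
    have hlt : 3 < Nat.card P := by
      have h := Subgroup.card_le_of_le (le_sup_left : zpowers R.rho ≤ P)
      rw [Nat.card_zpowers, R.ord_rho] at h
      refine lt_of_le_of_ne h fun e => ?_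
      have heq : zpowers R.rho = P := Subgroup.eq_of_le_of_card_ge le_sup_left (by rw [Nat.card_zpowers, R.ord_rho, ← e])
      obtain ⟨i, hi⟩ := mem_zpowers_iff.1 (heq.symm ▸ mem_sup_right (mem_zpowers b) : b ∈ zpowers R.rho)
      have h1 := R.u_inv hb
      rw [← hi, ((show Commute R.u R.rho from R.ur).zpow_right i).eq, mul_inv_cancel_right, hi] at h1
      exact hbne h1.symm
    rw [hk] at hlt ⊢
    interval_cases k <;> omega
  have hidx : ∀ Q : Subgroup G, Q ≤ X → Nat.card Q = 9 → ¬ 3 ∣ (Q.subgroupOf X).index := by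
    intro Q hQ hc h
    have h' := (Q.subgroupOf X).card_mul_index
    rw [Nat.card_congr (subgroupOfEquivOfLe hQ).toEquiv, hc] at h'
    exact h27 (h' ▸ Nat.mul_dvd_mul_left 9 h)
  set P' := P.map (MulAut.conj g).toMonoidHom with hP'
  have hP'X : P' ≤ X := by
    rw [hP', Subgroup.map_sup, MonoidHom.map_zpowers, MonoidHom.map_zpowers]
    exact sup_le (zpowers_le.2 (hb'X _ rfl)) (zpowers_le.2 (hb'X _ hy))
  have hP'c : Nat.card P' = 9 := by rw [hP', Subgroup.card_map_of_injective (MulAut.conj g).injective, hPc]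
  let S1 : Sylow 3 X := ((hPp.map (MulAut.conj g).toMonoidHom).of_equiv (subgroupOfEquivOfLe hP'X).symm).toSylow
    (hidx _ hP'X hP'c)
  let S0 : Sylow 3 X := (hPp.of_equiv (subgroupOfEquivOfLe hPX).symm).toSylow (hidx _ hPX hPc)
  obtain ⟨c, hc⟩ := MulAction.exists_smul_eq X S1 S0
  set h := (c : G) * g with hh
  have hmap : ∀ a ∈ P, h * a * h⁻¹ ∈ P := by
    intro a ha
    have h1 : (⟨g * a * g⁻¹, hP'X ⟨a, ha, rfl⟩⟩ : X) ∈ (S1 : Subgroup X) := mem_subgroupOf.2 ⟨a, ha, rfl⟩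
    have h2 : c * ⟨g * a * g⁻¹, hP'X ⟨a, ha, rfl⟩⟩ * c⁻¹ ∈ (S0 : Subgroup X) := by
      rw [← hc, Sylow.coe_subgroup_smul]; exact ⟨_, h1, rfl⟩
    rw [hh, show (c : G) * g * a * ((c : G) * g)⁻¹ = c * (g * a * g⁻¹) * (c : G)⁻¹ by group]
    exact mem_subgroupOf.1 h2
  refine rankTwo (fun T hT a ha e he => L.two_comm hT ha he) Nat.prime_three (by norm_num) R.ord_rho hbo hfix R.u2
    (by rw [R.ur, mul_inv_cancel_right]) (R.u_inv hb) (mem_normalizer_of_map P hmap) ?_
  rw [hh, show (c : G) * g * R.rho * ((c : G) * g)⁻¹ = c * (g * R.rho * g⁻¹) * (c : G)⁻¹ by group, ← hb']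
  obtain ⟨k, hk⟩ := mem_zpowers_iff.1 (hbb'.symm ▸ mem_zpowers b' : b' ∈ zpowers b)
  rw [← hk, ((show Commute (c : G) b from mem_centralizer_singleton_iff.1 c.2).zpow_right k).eq, mul_inv_cancel_right]
  exact zpow_mem (mem_zpowers b) k

end LCfg

end Cfsg.Agent.Char.ReeOrder
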