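import Cfsg.Agent.Lib.Char.ReeOrder.LocalTorus
import Cfsg.Agent.Lib.Char.ReeOrder.LocalBType

/-!
# The local lemma

The rotation of `V` fixes no non-trivial element of `BG`, so `C(b) ≤ C(t)` for `1 ≠ b ∈ BG`.
-/

set_option autoImplicit false
set_option linter.unusedSectionVars false

namespace Cfsg.Agent.Char.ReeOrder

open Subgroup Cfsg.Agent.Char.ReeThree

universe u v

namespace LCfg

variable {G : Type u} [Group G] [Finite G] {F : Type v} [Field F] [Fintype F] {L : LCfg G F}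

theorem moved (R : L.Rot) {b : G} (hb : b ∈ L.BG) {r : ℕ} (hr : r.Prime) (hbr : orderOf b = r) :
    R.rho * b ≠ b * R.rho := by
  intro hfix
  have hb1 : b ≠ 1 := fun e => by rw [e, orderOf_one] at hbr; exact hr.one_lt.ne hbr
  have hu : orderOf R.u = 2 := orderOf_eq_prime (by rw [pow_two, R.u2]) fun e => R.uV (e ▸ one_mem _)
  obtain ⟨g, hg⟩ := isConj_iff.1 (L.hconj R.u hu).symm
  set k := g * R.rho * g⁻¹ with hk
  have hko : orderOf k = 3 := by
    rw [hk, show g * R.rho * g⁻¹ = MulAut.conj g R.rho from rfl, MulEquiv.orderOf_eq, R.ord_rho]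
  have hkt : k * L.t = L.t * k := by
    rw [hk, show L.t = g * R.u * g⁻¹ from hg.symm, show g * R.rho * g⁻¹ * (g * R.u * g⁻¹) = g * (R.rho * R.u) * g⁻¹ by
      group, ← R.ur]
    group
  have hkK : k ∈ L.S.K := L.odd_mem_K hkt (by rw [hko]; decide)
  have hgu : ∀ c : L.S.K, (c : G) * g * R.u * ((c : G) * g)⁻¹ = L.t := fun c => by
    rw [show (c : G) * g * R.u * ((c : G) * g)⁻¹ = c * (g * R.u * g⁻¹) * (c : G)⁻¹ by group, hg]
    show (c : G) * L.S.t * (c : G)⁻¹ = L.S.t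
    rw [L.S.comm_t c.2, mul_inv_cancel_right]
  have hconj : ∀ c : L.S.K, (c : G) * g * R.rho * ((c : G) * g)⁻¹ = ((c * ⟨k, hkK⟩ * c⁻¹ : L.S.K) : G) := fun c => by
    show _ = (c : G) * k * (c : G)⁻¹
    rw [hk]; group
  rcases L.D.three_cases (x := ⟨k, hkK⟩) (by rw [Subgroup.orderOf_mk, hko]) with ⟨c, hc⟩ | ⟨c, T, h1, h2, h3, h4, h5, h6⟩
  · exact L.btype_case R hb hb1 hfix (hgu c) (by rw [hconj]; exact L.coe_BG.2 hc)
  · have hmem : (c : G) * g * R.rho * ((c : G) * g)⁻¹ ∈ L.S.K := by rw [hconj]; exact SetLike.coe_mem _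
    have heq : (⟨_, hmem⟩ : L.S.K) = c * ⟨k, hkK⟩ * c⁻¹ := Subtype.ext (hconj c)
    exact L.torus_case R hb hr hbr hfix (hgu c) hmem (heq ▸ h1) h2 (fun y hy => h3 y (heq ▸ hy)) h4 h5 h6

theorem cent_le {b : G} (hb : b ∈ L.BG) (hb1 : b ≠ 1) :
    centralizer ({b} : Set G) ≤ centralizer ({L.S.t} : Set G) := by
  obtain ⟨R⟩ := L.exists_rot
  obtain ⟨r, hr, hrd⟩ := Nat.exists_prime_and_dvd (n := orderOf b) fun e => hb1 (orderOf_eq_one_iff.1 e)
  set b0 := b ^ (orderOf b / r) with hb0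
  have hb0o : orderOf b0 = r := by
    obtain ⟨m, hm⟩ := hrd
    have hm0 : m ≠ 0 := fun e => (orderOf_pos b).ne' (by rw [hm, e, mul_zero])
    rw [hb0, hm, Nat.mul_div_cancel_left _ hr.pos, orderOf_pow_of_dvd hm0 (hm ▸ dvd_mul_left m r), hm,
      Nat.mul_div_cancel _ (Nat.pos_of_ne_zero hm0)]
  have hb0m : b0 ∈ L.BG := pow_mem hb _
  refine le_trans ?_ (L.cent_le_of_moved R hb0m (fun e => by rw [e, orderOf_one] at hb0o; exact hr.one_lt.ne hb0o)
    (L.moved R hb0m hr hb0o))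
  intro x hx
  rw [mem_centralizer_singleton_iff] at hx ⊢
  exact ((show Commute x b from hx).pow_right _).eq

end LCfg

/-- The local lemma. -/
theorem localFpf : LocalFpfStatement.{u, v} := by
  intro G _ _ S F _ _ hyp
  obtain ⟨e⟩ := hyp.iso
  obtain ⟨D⟩ := exists_kd e hyp.q8 hyp.q5
  let L : LCfg G F := ⟨S, D, hyp.hconj, hyp.hab⟩
  intro s b hs hb hso hbs hbo hb1 x hx
  have hso' : orderOf (⟨s, hs⟩ : S.K) = 2 := by rw [Subgroup.orderOf_mk]; exact hso
  obtain ⟨c, hc⟩ := isConj_iff.1 (D.s_conj ⟨s, hs⟩ hso').symm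
  have hc' : (c : G) * s * (c : G)⁻¹ = L.s := congrArg Subtype.val hc
  have hct : (c : G) * S.t = S.t * c := S.comm_t c.2
  set b' := (c : G) * b * (c : G)⁻¹ with hb'
  have hb't : b' * L.t = L.t * b' := S.comm_t (mul_mem (mul_mem c.2 hb) (inv_mem c.2))
  have hb's : b' * L.s = L.s * b' := by
    rw [hb', ← hc', show (c : G) * b * (c : G)⁻¹ * (c * s * (c : G)⁻¹) = c * (b * s) * (c : G)⁻¹ by group, hbs]
    group
  have hb'mem : b' ∈ L.BG := L.odd_CV hb't hb's (by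
    rw [hb', show (c : G) * b * (c : G)⁻¹ = MulAut.conj (c : G) b from rfl, MulEquiv.orderOf_eq]; exact hbo)
  have hx' : (c : G) * x * (c : G)⁻¹ ∈ centralizer ({b'} : Set G) := by
    rw [mem_centralizer_singleton_iff] at hx ⊢
    rw [hb', show (c : G) * x * (c : G)⁻¹ * (c * b * (c : G)⁻¹) = c * (x * b) * (c : G)⁻¹ by group, hx]
    group
  have h := mem_centralizer_singleton_iff.1 (L.cent_le hb'mem (fun e => hb1 (conj_eq_one_iff.1 e)) hx')
  rw [mem_centralizer_singleton_iff]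
  have h' : (c : G) * (x * S.t) * (c : G)⁻¹ = c * (S.t * x) * (c : G)⁻¹ := by
    calc (c : G) * (x * S.t) * (c : G)⁻¹ = c * x * (c : G)⁻¹ * (c * S.t * (c : G)⁻¹) := by group
      _ = c * x * (c : G)⁻¹ * S.t := by rw [hct, mul_inv_cancel_right]
      _ = S.t * (c * x * (c : G)⁻¹) := h
      _ = c * S.t * (c : G)⁻¹ * (c * x * (c : G)⁻¹) := by rw [hct, mul_inv_cancel_right]
      _ = _ := by group
  exact mul_left_cancel (mul_right_cancel h')

end Cfsg.Agent.Char.ReeOrder
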