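import Cfsg.Agent.Lib.Char.ReeOrder.KValues

/-!
# Elementary consequences of the data `KD` used by the local lemma
-/

set_option autoImplicit false
set_option linter.unusedSectionVars false

namespace Cfsg.Agent.Char.ReeOrder

open Subgroup

universe u v

/-- An element of `p`-power order lies in a conjugate of a subgroup of index prime to `p`. -/
theorem conj_into {P : Type u} [Group P] [Finite P] {p : ℕ} [hp : Fact p.Prime] (H : Subgroup P)
    (hi : ¬ p ∣ H.index) {x : P} {k : ℕ} (hx : x ^ p ^ k = 1) : ∃ g : P, g * x * g⁻¹ ∈ H := by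
  obtain ⟨Q⟩ := (inferInstance : Nonempty (Sylow p H))
  set Q' : Subgroup P := (Q : Subgroup H).map H.subtype
  have hQp : IsPGroup p Q' := Q.2.map _
  have hQi : ¬ p ∣ Q'.index := by
    rw [Subgroup.index_map, Subgroup.ker_subtype, sup_bot_eq, Subgroup.range_subtype]
    intro h
    rcases hp.out.dvd_mul.1 h with h | h
    · exact Q.not_dvd_index h
    · exact hi h
  obtain ⟨T, hT⟩ := (show IsPGroup p (zpowers x) from IsPGroup.of_card (n := (Classical.choose
    ((Nat.dvd_prime_pow hp.out).1 (orderOf_dvd_of_pow_eq_one hx)))) (by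
    rw [Nat.card_zpowers]
    exact (Classical.choose_spec ((Nat.dvd_prime_pow hp.out).1 (orderOf_dvd_of_pow_eq_one hx))).2)).exists_le_sylow
  obtain ⟨c, hc⟩ := MulAction.exists_smul_eq P T (hQp.toSylow hQi)
  refine ⟨c, ?_⟩
  have h1 : c * x * c⁻¹ ∈ ((hQp.toSylow hQi : Sylow p P) : Subgroup P) := by
    rw [← hc, Sylow.coe_subgroup_smul]
    exact ⟨x, hT (mem_zpowers x), rfl⟩
  exact Subgroup.map_subtype_le _ h1

/-- An element of odd order centralised by its square is trivial, in the form used below. -/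
theorem eq_one_of_inv_eq {P : Type u} [Group P] {x : P} (ho : Odd (orderOf x)) (h : x⁻¹ = x) : x = 1 := by
  have h2 : x ^ 2 = 1 := by rw [pow_two]; nth_rewrite 1 [← h]; exact inv_mul_cancel x
  rcases (Nat.dvd_prime Nat.prime_two).1 (orderOf_dvd_of_pow_eq_one h2) with e | e
  · exact orderOf_eq_one_iff.1 e
  · exact absurd (e ▸ ho) (by norm_num)

/-- An element of odd order is a power of its square. -/
theorem sq_pow {P : Type u} [Group P] {x : P} (ho : Odd (orderOf x)) : ∃ k : ℕ, x = (x ^ 2) ^ k := by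
  obtain ⟨k, hk⟩ := ho
  exact ⟨k + 1, by rw [← pow_mul, show 2 * (k + 1) = orderOf x + 1 by omega, pow_succ, pow_orderOf_eq_one, one_mul]⟩

/-- An element of odd order commuting with the square commutes. -/
theorem comm_of_sq {P : Type u} [Group P] {x y : P} (ho : Odd (orderOf x)) (h : x ^ 2 * y = y * x ^ 2) :
    x * y = y * x := by
  obtain ⟨k, hk⟩ := sq_pow ho
  have hc : Commute (x ^ 2) y := h
  rw [hk]
  exact (hc.pow_left k).eq

/-- Subgroups of odd order have elements of odd order. -/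
theorem odd_order_of_mem {P : Type u} [Group P] [Finite P] {H : Subgroup P} (hH : Odd (Nat.card H)) {x : P}
    (hx : x ∈ H) : Odd (orderOf x) := by
  rw [← Subgroup.orderOf_mk x hx]
  exact hH.of_dvd_nat (orderOf_dvd_natCard _)

namespace KD

variable {P : Type u} [Group P] [Finite P] {F : Type v} [Field F] [Fintype F] (D : KD P F)

include D in
theorem odd_q : Odd (Fintype.card F) := Nat.odd_iff.2 (by have := D.q8; omega)

theorem card_mul : Nat.card P = Fintype.card F * D.a * (4 * D.b) := by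
  have hP := D.card_P
  have h1 : (1 : ℕ) ≤ Fintype.card F ^ 2 := Nat.one_le_pow _ _ (by have := D.q5; omega)
  zify [h1] at hP ⊢
  have ha := D.ha
  have hb := D.hb
  have hε : D.ε * D.ε = 1 := by rcases D.hε with h | h <;> simp [h]
  apply mul_left_cancel₀ (two_ne_zero : (2 : ℤ) ≠ 0)
  linear_combination hP - (Fintype.card F : ℤ) * (4 * D.b) * ha -
    (Fintype.card F : ℤ) * ((Fintype.card F : ℤ) - D.ε) * hb + (Fintype.card F : ℤ) * hε

include D in
theorem four_dvd_only : ¬ 8 ∣ Nat.card P := by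
  rw [D.card_mul, show (8 : ℕ) = 4 * 2 by norm_num, show Fintype.card F * D.a * (4 * D.b) =
    4 * (Fintype.card F * D.a * D.b) by ring, Nat.mul_dvd_mul_iff_left (by norm_num)]
  exact fun h => (Nat.not_even_iff_odd.2 ((D.odd_q.mul D.a_odd).mul D.b_odd)) (even_iff_two_dvd.2 h)

theorem A_odd {x : P} (hx : x ∈ D.A) : Odd (orderOf x) := odd_order_of_mem (D.card_A ▸ D.a_odd) hx

theorem B_odd {x : P} (hx : x ∈ D.B) : Odd (orderOf x) := odd_order_of_mem (D.card_B ▸ D.b_odd) hx

theorem s_sq : D.s * D.s = 1 := by rw [← pow_two, ← D.hs, pow_orderOf_eq_one]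

theorem s_not_B : D.s ∉ D.B := fun h => by
  have := D.B_odd h
  rw [D.hs] at this
  exact absurd this (by norm_num)

/-- The torus `⟨s⟩ × B`. -/
def W : Subgroup P where
  carrier := {x | x ∈ D.B ∨ D.s * x ∈ D.B}
  one_mem' := Or.inl (one_mem _)
  mul_mem' := by
    intro x y hx hy
    have sB : ∀ z, D.s * z ∈ D.B → D.s * z = z * D.s := fun z hz => by
      have h := D.B_s _ hz
      rw [← mul_assoc, D.s_sq, one_mul] at h
      calc D.s * z = D.s * (D.s * z * D.s) := by rw [← h]
        _ = (D.s * D.s) * (z * D.s) := by group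
        _ = z * D.s := by rw [D.s_sq, one_mul]
    rcases hx with hx | hx <;> rcases hy with hy | hy
    · exact Or.inl (mul_mem hx hy)
    · exact Or.inr (by rw [← mul_assoc, D.B_s x hx, mul_assoc]; exact mul_mem hx hy)
    · exact Or.inr (by rw [← mul_assoc]; exact mul_mem hx hy)
    · refine Or.inl ?_
      have h := mul_mem hx hy
      rwa [sB x hx, mul_assoc x, ← mul_assoc D.s, D.s_sq, one_mul] at h
  inv_mem' := by
    intro x hx
    refine hx.imp inv_mem fun h => ?_
    have h1 := D.B_s _ (inv_mem h)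
    have h2 := inv_mem h
    rw [mul_inv_rev, inv_eq_of_mul_eq_one_left D.s_sq] at h1 h2
    rw [show D.s * x⁻¹ = D.s * (x⁻¹ * D.s) * D.s by rw [mul_assoc, mul_assoc, D.s_sq, mul_one], h1,
      mul_assoc, D.s_sq, mul_one]
    exact h2

theorem mem_W {x : P} : x ∈ D.W ↔ x ∈ D.B ∨ D.s * x ∈ D.B := Iff.rfl

theorem W_le : D.W ≤ centralizer ({D.s} : Set P) := by
  intro x hx
  rw [mem_centralizer_singleton_iff]
  rcases hx with hx | hx
  · exact (D.B_s x hx).symm
  · have h := D.B_s _ hx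
    rw [← mul_assoc, D.s_sq, one_mul] at h
    calc x * D.s = D.s * x * D.s * D.s := by rw [← h]
      _ = D.s * x * (D.s * D.s) := by group
      _ = D.s * x := by rw [D.s_sq, mul_one]

theorem B_le_W : D.B ≤ D.W := fun _ => Or.inl

theorem card_W : Nat.card D.W = 2 * D.b := by
  let e : Bool × D.B → D.W := fun p =>
    if p.1 then ⟨D.s * p.2, Or.inr (by rw [← mul_assoc, D.s_sq, one_mul]; exact p.2.2)⟩ else ⟨p.2, Or.inl p.2.2⟩
  have he : Function.Bijective e := by
    refine ⟨?_, fun c => ?_⟩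
    · rintro ⟨i, x⟩ ⟨j, y⟩ h
      have h' := congrArg Subtype.val h
      cases i <;> cases j <;> simp [e] at h'
      · exact Prod.ext rfl h'
      · refine absurd ?_ D.s_not_B
        rw [show D.s = (x : P) * (y : P)⁻¹ by rw [h', mul_inv_cancel_right]]
        exact mul_mem x.2 (inv_mem y.2)
      · refine absurd ?_ D.s_not_B
        rw [show D.s = (y : P) * (x : P)⁻¹ by rw [← h', mul_inv_cancel_right]]
        exact mul_mem y.2 (inv_mem x.2)
      · exact Prod.ext rfl h'
    · rcases c.2 with h | h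
      · exact ⟨(false, ⟨c, h⟩), rfl⟩
      · exact ⟨(true, ⟨_, h⟩), Subtype.ext (by simp [e, ← mul_assoc, D.s_sq])⟩
  rw [← Nat.card_congr (Equiv.ofBijective e he), Nat.card_prod, D.card_B, Nat.card_eq_fintype_card, Fintype.card_bool]

theorem mem_B_of_odd {x : P} (hx : x ∈ D.W) (ho : Odd (orderOf x)) : x ∈ D.B := by
  rcases hx with hx | hx
  · exact hx
  obtain ⟨k, hk⟩ := sq_pow ho
  have hc : Commute D.s x := (mem_centralizer_singleton_iff.1 (D.W_le (Or.inr hx))).symm
  have h2 : x ^ 2 ∈ D.B := by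
    have h := pow_mem hx 2
    rwa [hc.mul_pow, pow_two D.s, D.s_sq, one_mul] at h
  rw [hk]
  exact pow_mem h2 k

/-- `C(x) = ⟨s⟩ × B` for `1 ≠ x ∈ B`. -/
theorem centB {x : P} (hx : x ∈ D.B) (hx1 : x ≠ 1) {g : P} (h : g * x = x * g) : g ∈ D.W := by
  have hc := D.cntB x hx hx1 x hx
  rw [if_pos (Or.inl rfl)] at hc
  have hle : D.W ≤ centralizer ({x} : Set P) := by
    intro y hy
    rw [mem_centralizer_singleton_iff]
    rcases hy with hy | hy
    · exact D.B_comm y hy x hx
    · have h1 := D.B_comm _ hy x hx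
      have h2 := D.B_s x hx
      calc y * x = D.s * (D.s * y * x) := by rw [mul_assoc D.s y, ← mul_assoc D.s, D.s_sq, one_mul]
        _ = D.s * x * (D.s * y) := by rw [h1, mul_assoc]
        _ = x * y := by rw [h2, mul_assoc, ← mul_assoc D.s, D.s_sq, one_mul]
  have hcard : Nat.card (centralizer ({x} : Set P)) = Nat.card D.W := by
    rw [D.card_W, ← hc]
    exact Nat.card_congr (Equiv.subtypeEquivRight fun y => by
      rw [mem_centralizer_singleton_iff, mul_inv_eq_iff_eq_mul])
  rw [Subgroup.eq_of_le_of_card_ge hle hcard.le]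
  exact mem_centralizer_singleton_iff.2 h

theorem sq_mem_W {g : P} (hg : g * D.s = D.s * g) : g * g ∈ D.W := by
  have hg' : g ∈ centralizer ({D.s} : Set P) := mem_centralizer_singleton_iff.2 hg
  have hi : (D.W.subgroupOf (centralizer ({D.s} : Set P))).index = 2 := by
    have h := (D.W.subgroupOf (centralizer ({D.s} : Set P))).card_mul_index
    rw [Nat.card_congr (subgroupOfEquivOfLe D.W_le).toEquiv, D.card_W, D.card_cent] at h
    have hb := D.b_odd.pos
    exact Nat.eq_of_mul_eq_mul_left (by omega : 0 < 2 * D.b) (by linarith)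
  exact mem_subgroupOf.1 (Subgroup.mul_self_mem_of_index_two hi ⟨g, hg'⟩)

theorem odd_cent_s {x : P} (hx : x * D.s = D.s * x) (ho : Odd (orderOf x)) : x ∈ D.B := by
  obtain ⟨k, hk⟩ := sq_pow ho
  refine D.mem_B_of_odd ?_ ho
  rw [hk, pow_two]
  exact pow_mem (D.sq_mem_W hx) k

/-- The elements of `C(s)` outside the torus are involutions inverting `B`. -/
theorem outside {g : P} (hg : g * D.s = D.s * g) (hgW : g ∉ D.W) :
    g * g = 1 ∧ ∀ x ∈ D.B, g * x * g⁻¹ = x⁻¹ := by
  have hinv : ∀ x ∈ D.B, g * x * g⁻¹ = x⁻¹ := by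
    intro x hx
    by_cases hx1 : x = 1
    · simp [hx1]
    have hy : g * x * g⁻¹ ∈ D.B := by
      refine D.odd_cent_s ?_ (by
        rw [show g * x * g⁻¹ = MulAut.conj g x from rfl, MulEquiv.orderOf_eq]; exact D.B_odd hx)
      have h1 := D.B_s x hx
      have h2 : g⁻¹ * D.s = D.s * g⁻¹ := (Commute.inv_left hg)
      rw [mul_assoc, h2, ← mul_assoc, mul_assoc g x, ← h1, ← mul_assoc, hg]
      group
    have hc := D.cntB x hx hx1 _ hy
    have hne : Nat.card {k : P // k * x * k⁻¹ = g * x * g⁻¹} ≠ 0 := by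
      haveI : Nonempty {k : P // k * x * k⁻¹ = g * x * g⁻¹} := ⟨⟨g, rfl⟩⟩
      exact Nat.card_pos.ne'
    split_ifs at hc with hcase
    · rcases hcase with h | h
      · exact absurd (D.centB hx hx1 (mul_inv_eq_iff_eq_mul.1 h)) hgW
      · exact h
    · exact absurd hc hne
  refine ⟨?_, hinv⟩
  have hcs : Commute g D.s := hg
  rcases D.sq_mem_W hg with h | h
  · have e := hinv _ h
    rw [show g * (g * g) * g⁻¹ = g * g by group] at e
    exact eq_one_of_inv_eq (D.B_odd h) e.symm
  · have e := hinv _ h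
    rw [show g * (D.s * (g * g)) * g⁻¹ = g * D.s * g by group, hcs.eq, mul_assoc] at e
    have e1 := eq_one_of_inv_eq (D.B_odd h) e.symm
    have e2 : g * g = D.s := by
      rw [← mul_one D.s, ← e1, ← mul_assoc, D.s_sq, one_mul]
    have e4 : g ^ 4 = 1 := by rw [show 4 = 2 * 2 from rfl, pow_mul, pow_two g, e2, pow_two, D.s_sq]
    rw [← pow_two]
    exact D.no_four g e4

theorem exists_outside : ∃ g : P, g * D.s = D.s * g ∧ g ∉ D.W := by
  by_contra h
  push Not at h
  have hle : centralizer ({D.s} : Set P) ≤ D.W := fun g hg => h g (mem_centralizer_singleton_iff.1 hg)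
  have := Subgroup.card_le_of_le hle
  rw [D.card_cent, D.card_W] at this
  have := D.b_odd.pos
  omega

/-- `C(x) = A` for `1 ≠ x ∈ A`. -/
theorem centA {x : P} (hx : x ∈ D.A) (hx1 : x ≠ 1) {g : P} (h : g * x = x * g) : g ∈ D.A := by
  have hc := D.cntA x hx hx1 x hx
  rw [if_pos (Or.inl rfl)] at hc
  have hle : D.A ≤ centralizer ({x} : Set P) := fun y hy => mem_centralizer_singleton_iff.2 (D.A_comm y hy x hx)
  have hcard : Nat.card (centralizer ({x} : Set P)) = Nat.card D.A := by
    rw [D.card_A, ← hc]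
    exact Nat.card_congr (Equiv.subtypeEquivRight fun y => by
      rw [mem_centralizer_singleton_iff, mul_inv_eq_iff_eq_mul])
  rw [Subgroup.eq_of_le_of_card_ge hle hcard.le]
  exact mem_centralizer_singleton_iff.2 h

theorem U_comm : ∀ x ∈ D.U, ∀ y ∈ D.U, x * y = y * x := by
  rintro _ ⟨x, rfl⟩ _ ⟨y, rfl⟩
  rw [← map_mul, mul_comm, map_mul]

theorem centU {x : P} (hx : x ∈ D.U) (hx1 : x ≠ 1) {g : P} (h : g * x = x * g) : g ∈ D.U := by
  haveI := Fintype.ofFinite P
  have hle : D.U ≤ centralizer ({x} : Set P) := fun y hy => mem_centralizer_singleton_iff.2 (D.U_comm y hy x hx)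
  obtain ⟨z, rfl⟩ := hx
  obtain ⟨w, rfl⟩ : ∃ w : F, Multiplicative.ofAdd w = z := ⟨z.toAdd, rfl⟩
  have hw : w ≠ 0 := by rintro rfl; exact hx1 (map_one _)
  have hc := D.cntU w hw w
  rw [if_pos ⟨1, one_ne_zero, by ring⟩] at hc
  have hcard : Nat.card (centralizer ({D.eU (Multiplicative.ofAdd w)} : Set P)) = Nat.card D.U := by
    rw [D.card_U, ← hc]
    exact Nat.card_congr (Equiv.subtypeEquivRight fun y => by
      rw [mem_centralizer_singleton_iff, mul_inv_eq_iff_eq_mul])
  rw [Subgroup.eq_of_le_of_card_ge hle hcard.le]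
  exact mem_centralizer_singleton_iff.2 h

/-- An element of order three is conjugate into `B` or into a torus or root group of order prime to `b`. -/
theorem three_cases {x : P} (hx : orderOf x = 3) :
    (∃ g : P, g * x * g⁻¹ ∈ D.B) ∨
      ∃ (g : P) (T : Subgroup P), g * x * g⁻¹ ∈ T ∧ (∀ y ∈ T, ∀ z ∈ T, y * z = z * y) ∧
        (∀ y, y * (g * x * g⁻¹) = g * x * g⁻¹ * y → y ∈ T) ∧ Odd (Nat.card T) ∧ Nat.Coprime (Nat.card T) D.b ∧
        ((D.b : ℤ) ∣ (Nat.card T : ℤ) ^ 2 - 1) := by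
  haveI := Fintype.ofFinite P
  haveI := Fact.mk Nat.prime_three
  have hx3 : x ^ 3 ^ 1 = 1 := by rw [pow_one, ← hx, pow_orderOf_eq_one]
  have hdvd : 3 ∣ Nat.card P := hx ▸ orderOf_dvd_natCard x
  have hP := D.card_mul
  have hidx : ∀ (H : Subgroup P) (m : ℕ), Nat.card P = Nat.card H * m → ¬ 3 ∣ m → ¬ 3 ∣ H.index := by
    intro H m hm h3 h
    rw [← H.card_mul_index] at hm
    rw [Nat.eq_of_mul_eq_mul_left Nat.card_pos hm] at h
    exact h3 h
  have h34 : ¬ 3 ∣ 4 := by norm_num
  have hεa : ((D.b : ℤ)) ∣ (D.a : ℤ) + D.ε := by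
    refine ⟨2, ?_⟩
    have := D.ha
    have := D.hb
    omega
  by_cases hb : 3 ∣ D.b
  · left
    refine conj_into D.B (hidx _ (Fintype.card F * D.a * 4) (by rw [hP, D.card_B]; ring) fun h => ?_) hx3
    rcases Nat.prime_three.dvd_mul.1 h with h | h
    · rcases Nat.prime_three.dvd_mul.1 h with h | h
      · exact Nat.not_coprime_of_dvd_of_dvd (by norm_num) h hb D.cop_qb
      · exact Nat.not_coprime_of_dvd_of_dvd (by norm_num) h hb D.cop_ab
    · exact h34 h
  right
  have hx1 : x ≠ 1 := fun e => by rw [e, orderOf_one] at hx; omega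
  have hne : ∀ g : P, g * x * g⁻¹ ≠ 1 := fun g e => hx1 (conj_eq_one_iff.1 e)
  have hor : 3 ∣ D.a ∨ 3 ∣ Fintype.card F := by
    rw [hP] at hdvd
    rcases Nat.prime_three.dvd_mul.1 hdvd with h | h
    · exact (Nat.prime_three.dvd_mul.1 h).symm
    · exact absurd ((Nat.prime_three.dvd_mul.1 h).resolve_left h34) hb
  rcases hor with ha | hq
  · obtain ⟨g, hg⟩ := conj_into D.A (hidx _ (Fintype.card F * (4 * D.b)) (by rw [hP, D.card_A]; ring) fun h => by
      rcases Nat.prime_three.dvd_mul.1 h with h | h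
      · exact Nat.not_coprime_of_dvd_of_dvd (by norm_num) h ha D.cop_qa
      · exact hb ((Nat.prime_three.dvd_mul.1 h).resolve_left h34)) hx3
    refine ⟨g, D.A, hg, D.A_comm, fun y hy => D.centA hg (hne g) hy, D.card_A ▸ D.a_odd, D.card_A ▸ D.cop_ab, ?_⟩
    rw [D.card_A, show ((D.a : ℤ)) ^ 2 - 1 = ((D.a : ℤ) + D.ε) * ((D.a : ℤ) - D.ε) by
      rcases D.hε with h | h <;> rw [h] <;> ring]
    exact dvd_mul_of_dvd_left hεa _
  · obtain ⟨g, hg⟩ := conj_into D.U (hidx _ (D.a * (4 * D.b)) (by rw [hP, D.card_U]; ring) fun h => by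
      rcases Nat.prime_three.dvd_mul.1 h with h | h
      · exact Nat.not_coprime_of_dvd_of_dvd (by norm_num) hq h D.cop_qa
      · exact hb ((Nat.prime_three.dvd_mul.1 h).resolve_left h34)) hx3
    refine ⟨g, D.U, hg, D.U_comm, fun y hy => D.centU hg (hne g) hy, D.card_U ▸ D.odd_q, D.card_U ▸ D.cop_qb, ?_⟩
    rw [D.card_U, show ((Fintype.card F : ℤ)) ^ 2 - 1 =
      ((Fintype.card F : ℤ) + D.ε) * ((Fintype.card F : ℤ) - D.ε) by rcases D.hε with h | h <;> rw [h] <;> ring,
      ← D.hb]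
    exact dvd_mul_of_dvd_left (dvd_mul_left _ _) _

end KD

end Cfsg.Agent.Char.ReeOrder
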