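import Cfsg.Agent.Lib.Char.ReeOrder.Setting
import Cfsg.Agent.Lib.Char.ReeOrder.LocalPsl

/-!
# The four group `V = ⟨t, s⟩`, the odd part `BG` of its centraliser and the rotation of `V`
-/

set_option autoImplicit false
set_option linter.unusedSectionVars false

namespace Cfsg.Agent.Char.ReeOrder

open Subgroup Cfsg.Agent.Char.ReeThree

universe u v

/-- The setting of the local lemma with the data of `K` chosen. -/
structure LCfg (G : Type u) [Group G] (F : Type v) [Field F] [Fintype F] where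
  S : Split G
  D : KD S.K F
  hconj : ∀ x : G, orderOf x = 2 → IsConj S.t x
  hab : ∀ P : Sylow 2 G, ∀ a b : P, a * b = b * a

namespace LCfg

variable {G : Type u} [Group G] [Finite G] {F : Type v} [Field F] [Fintype F] (L : LCfg G F)

/-- The involution. -/
abbrev t : G := L.S.t

/-- The second involution. -/
abbrev s : G := (L.D.s : L.S.K)

/-- The odd part of `C_K(s)`, in `G`. -/
abbrev BG : Subgroup G := L.D.B.map L.S.K.subtype

theorem sq_t : L.t * L.t = 1 := L.S.sq_t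

theorem sq_s : L.s * L.s = 1 := congrArg Subtype.val L.D.s_sq

theorem ts_comm : L.t * L.s = L.s * L.t := (L.S.comm_t L.D.s.2).symm

theorem t_ne_one : L.t ≠ 1 := fun h => by
  have := L.S.ht
  rw [show L.S.t = 1 from h, orderOf_one] at this
  omega

theorem s_ne_one : L.s ≠ 1 := fun h => by
  have h1 : orderOf L.s = 2 := by rw [Subgroup.orderOf_coe, L.D.hs]
  rw [h, orderOf_one] at h1
  omega

/-- The four group. -/
def V : Subgroup G where
  carrier := {x | x = 1 ∨ x = L.t ∨ x = L.s ∨ x = L.t * L.s}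
  one_mem' := Or.inl rfl
  mul_mem' := by
    have e1 : L.s * L.t = L.t * L.s := L.ts_comm.symm
    have e2 : ∀ y, L.t * (L.t * y) = y := fun y => by rw [← mul_assoc, L.sq_t, one_mul]
    have e3 : ∀ y, L.s * (L.s * y) = y := fun y => by rw [← mul_assoc, L.sq_s, one_mul]
    have e4 : ∀ y, L.s * (L.t * y) = L.t * (L.s * y) := fun y => by rw [← mul_assoc, e1, mul_assoc]
    intro x y hx hy
    rcases hx with rfl | rfl | rfl | rfl <;> rcases hy with rfl | rfl | rfl | rfl <;>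
      simp [e1, e2, e4, L.sq_t, L.sq_s, mul_assoc]
  inv_mem' := by
    have e1 : L.s⁻¹ = L.s := inv_eq_of_mul_eq_one_left L.sq_s
    have e2 : L.t⁻¹ = L.t := inv_eq_of_mul_eq_one_left L.sq_t
    intro x hx
    rcases hx with rfl | rfl | rfl | rfl <;> simp [e1, e2, L.ts_comm]

theorem mem_V {x : G} : x ∈ L.V ↔ x = 1 ∨ x = L.t ∨ x = L.s ∨ x = L.t * L.s := Iff.rfl

theorem t_mem_V : L.t ∈ L.V := Or.inr (Or.inl rfl)

theorem s_mem_V : L.s ∈ L.V := Or.inr (Or.inr (Or.inl rfl))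

theorem mem_BG {x : G} : x ∈ L.BG ↔ ∃ h : x ∈ L.S.K, (⟨x, h⟩ : L.S.K) ∈ L.D.B := by
  constructor
  · rintro ⟨y, hy, rfl⟩; exact ⟨y.2, hy⟩
  · rintro ⟨h, hy⟩; exact ⟨⟨x, h⟩, hy, rfl⟩

theorem coe_BG {x : L.S.K} : (x : G) ∈ L.BG ↔ x ∈ L.D.B :=
  ⟨fun h => (L.mem_BG.1 h).2, fun h => ⟨x, h, rfl⟩⟩

theorem BG_K {x : G} (hx : x ∈ L.BG) : x ∈ L.S.K := (L.mem_BG.1 hx).1

theorem BG_t {x : G} (hx : x ∈ L.BG) : x * L.t = L.t * x := L.S.comm_t (L.BG_K hx)

theorem BG_s {x : G} (hx : x ∈ L.BG) : x * L.s = L.s * x := by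
  obtain ⟨h, hy⟩ := L.mem_BG.1 hx
  exact (congrArg Subtype.val (L.D.B_s _ hy)).symm

theorem card_BG : Nat.card L.BG = L.D.b := by
  rw [Subgroup.card_map_of_injective L.S.K.subtype_injective, L.D.card_B]

theorem BG_odd {x : G} (hx : x ∈ L.BG) : Odd (orderOf x) :=
  odd_order_of_mem (L.card_BG ▸ L.D.b_odd) hx

theorem BG_comm {x y : G} (hx : x ∈ L.BG) (hy : y ∈ L.BG) : x * y = y * x := by
  obtain ⟨h, hx⟩ := L.mem_BG.1 hx
  obtain ⟨h', hy⟩ := L.mem_BG.1 hy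
  exact congrArg Subtype.val (L.D.B_comm _ hx _ hy)

theorem V_sq {v : G} (hv : v ∈ L.V) : v * v = 1 := by
  rcases hv with rfl | rfl | rfl | rfl
  · exact one_mul 1
  · exact L.sq_t
  · exact L.sq_s
  · rw [mul_assoc, ← mul_assoc L.s, ← L.ts_comm, mul_assoc L.t L.s, L.sq_s, mul_one, L.sq_t]

theorem V_BG {v x : G} (hv : v ∈ L.V) (hx : x ∈ L.BG) : v * x = x * v := by
  rcases hv with rfl | rfl | rfl | rfl
  · simp
  · exact (L.BG_t hx).symm
  · exact (L.BG_s hx).symm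
  · rw [mul_assoc, ← L.BG_s hx, ← mul_assoc, ← L.BG_t hx, mul_assoc]

include L in
theorem two_comm {T : Subgroup G} (hT : IsPGroup 2 T) {x y : G} (hx : x ∈ T) (hy : y ∈ T) : x * y = y * x := by
  obtain ⟨P, hP⟩ := hT.exists_le_sylow
  exact congrArg Subtype.val (L.hab P ⟨x, hP hx⟩ ⟨y, hP hy⟩)

theorem odd_mem_K {x : G} (hx : x * L.t = L.t * x) (ho : Odd (orderOf x)) : x ∈ L.S.K := by
  rcases L.S.split (L.S.mem_C.2 hx) with h | h
  · exact h
  exfalso
  have hc : Commute L.t x := Eq.symm hx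
  have h' := pow_mem h (orderOf x)
  rw [hc.mul_pow, pow_orderOf_eq_one, mul_one] at h'
  obtain ⟨k, hk⟩ := ho
  rw [hk, pow_succ, pow_mul, pow_two, L.sq_t, one_pow, one_mul] at h'
  exact L.S.t_not_mem h'

theorem odd_CV {x : G} (ht : x * L.t = L.t * x) (hs : x * L.s = L.s * x) (ho : Odd (orderOf x)) : x ∈ L.BG := by
  have hk := L.odd_mem_K ht ho
  exact (L.coe_BG (x := ⟨x, hk⟩)).2
    (L.D.odd_cent_s (Subtype.ext hs) (by rw [← Subgroup.orderOf_coe]; exact ho))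

theorem W_split {k : L.S.K} (hk : k ∈ L.D.W) : ∃ v ∈ L.V, ∃ β ∈ L.BG, (k : G) = v * β := by
  rcases hk with h | h
  · exact ⟨1, one_mem _, k, L.coe_BG.2 h, (one_mul _).symm⟩
  · exact ⟨L.s, L.s_mem_V, _, L.coe_BG.2 h, by
      rw [Subgroup.coe_mul, ← mul_assoc, L.sq_s, one_mul]⟩

/-- `C(t) ∩ C(b) = V × B`. -/
theorem cent_bt {b : G} (hb : b ∈ L.BG) (hb1 : b ≠ 1) {x : G} (hxt : x * L.t = L.t * x)
    (hxb : x * b = b * x) : ∃ v ∈ L.V, ∃ β ∈ L.BG, x = v * β := by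
  obtain ⟨hbK, hbB⟩ := L.mem_BG.1 hb
  have key : ∀ k : L.S.K, (k : G) * b = b * k → ∃ v ∈ L.V, ∃ β ∈ L.BG, (k : G) = v * β := fun k hk =>
    L.W_split (L.D.centB hbB (fun e => hb1 (congrArg Subtype.val e)) (Subtype.ext hk))
  rcases L.S.split (L.S.mem_C.2 hxt) with h | h
  · exact key ⟨x, h⟩ hxb
  · obtain ⟨v, hv, β, hβ, e⟩ := key ⟨_, h⟩ (by
      show L.t * x * b = b * (L.t * x)
      rw [mul_assoc, hxb, ← mul_assoc, ← mul_assoc, L.BG_t hb])
    refine ⟨L.t * v, mul_mem L.t_mem_V hv, β, hβ, ?_⟩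
    rw [mul_assoc, ← show L.t * x = v * β from e, ← mul_assoc, L.sq_t, one_mul]

/-- `C(V) = V × B` extended by involutions inverting `B`. -/
theorem cent_V {x : G} (hxt : x * L.t = L.t * x) (hxs : x * L.s = L.s * x) :
    (∃ v ∈ L.V, ∃ β ∈ L.BG, x = v * β) ∨ (x * x = 1 ∧ ∀ β ∈ L.BG, x * β * x⁻¹ = β⁻¹) := by
  have key : ∀ k : L.S.K, (k : G) * L.s = L.s * k →
      (∃ v ∈ L.V, ∃ β ∈ L.BG, (k : G) = v * β) ∨ ((k : G) * k = 1 ∧ ∀ β ∈ L.BG, (k : G) * β * (k : G)⁻¹ = β⁻¹) := by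
    intro k hk
    by_cases hW : k ∈ L.D.W
    · exact Or.inl (L.W_split hW)
    obtain ⟨h1, h2⟩ := L.D.outside (Subtype.ext hk) hW
    refine Or.inr ⟨congrArg Subtype.val h1, fun β hβ => ?_⟩
    obtain ⟨hK, hB⟩ := L.mem_BG.1 hβ
    exact congrArg Subtype.val (h2 _ hB)
  rcases L.S.split (L.S.mem_C.2 hxt) with h | h
  · exact key ⟨x, h⟩ hxs
  · rcases key ⟨_, h⟩ (by
      show L.t * x * L.s = L.s * (L.t * x)
      rw [mul_assoc, hxs, ← mul_assoc, L.ts_comm, mul_assoc]) with ⟨v, hv, β, hβ, e⟩ | ⟨h1, h2⟩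
    · refine Or.inl ⟨L.t * v, mul_mem L.t_mem_V hv, β, hβ, ?_⟩
      rw [mul_assoc, ← show L.t * x = v * β from e, ← mul_assoc, L.sq_t, one_mul]
    · refine Or.inr ⟨?_, fun β hβ => ?_⟩
      · have h1' : L.t * x * (L.t * x) = 1 := h1
        rw [show L.t * x * (L.t * x) = L.t * (x * L.t) * x by group, hxt, ← mul_assoc L.t, L.sq_t, one_mul] at h1'
        exact h1'
      · rw [← h2 β hβ]
        have hinv : (L.t * x)⁻¹ = x⁻¹ * L.t := by rw [mul_inv_rev, inv_eq_of_mul_eq_one_left L.sq_t]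
        show x * β * x⁻¹ = L.t * x * β * (L.t * x)⁻¹
        have hm : x * β * x⁻¹ * L.t = L.t * (x * β * x⁻¹) := by
          have hx' : Commute x L.t := hxt
          exact (((hx'.mul_left (show Commute β L.t from L.BG_t hβ)).mul_left hx'.inv_left)).eq
        rw [hinv, show L.t * x * β * (x⁻¹ * L.t) = L.t * (x * β * x⁻¹ * L.t) by group, hm, ← mul_assoc L.t L.t,
          L.sq_t, one_mul]

theorem V_inter {v β : G} (hv : v ∈ L.V) (hβ : β ∈ L.BG) (h : v * β = 1) : v = 1 ∧ β = 1 := by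
  have e : β = v := by rw [eq_comm, ← inv_eq_of_mul_eq_one_right h, inv_eq_of_mul_eq_one_left (L.V_sq hv)]
  have hβ1 : β = 1 := eq_one_of_inv_eq (L.BG_odd hβ) (inv_eq_of_mul_eq_one_left (by rw [e]; exact L.V_sq hv))
  exact ⟨e ▸ hβ1, hβ1⟩

/-- A rotation of `V` and an involution of `C(V)` outside `V` commuting with it. -/
structure Rot where
  rho : G
  u : G
  rho3 : rho ^ 3 = 1
  rho_t : rho * L.t * rho⁻¹ = L.s
  rho_s : rho * L.s * rho⁻¹ = L.t * L.s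
  u2 : u * u = 1
  ut : u * L.t = L.t * u
  us : u * L.s = L.s * u
  uV : u ∉ L.V
  ur : u * rho = rho * u

omit L in
theorem two_pow_of_dvd_four {T : Subgroup G} {n : ℕ} (h : Nat.card T = 2 ^ n) (h8 : ¬ 8 ∣ Nat.card T) :
    Nat.card T ∣ 4 := by
  rw [h] at h8 ⊢
  by_cases hn : n ≤ 2
  · exact (pow_dvd_pow 2 hn).trans (by norm_num)
  · exact absurd ((show (8 : ℕ) = 2 ^ 3 by norm_num) ▸ pow_dvd_pow 2 (by omega : 3 ≤ n)) h8

/-- A `3`-cycle of the involutions of a four group of `K`. -/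
theorem exists_theta : ∃ (u0 θ : L.S.K), u0 * L.D.s = L.D.s * u0 ∧ u0 ∉ L.D.W ∧ θ ^ 3 = 1 ∧
    θ * L.D.s * θ⁻¹ = u0 ∧ θ * u0 * θ⁻¹ = L.D.s * u0 := by
  obtain ⟨u0, hus, huW⟩ := L.D.exists_outside
  obtain ⟨hu2, huinv⟩ := L.D.outside hus huW
  have hu1 : u0 ≠ 1 := fun e => huW (e ▸ one_mem _)
  have hord : orderOf u0 = 2 := orderOf_eq_prime (by rw [pow_two, hu2]) hu1
  let s0 := L.D.s
  have hs2 : s0 * s0 = 1 := L.D.s_sq
  have e1 : u0 * s0 = s0 * u0 := hus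
  have a1 : ∀ y, s0 * (s0 * y) = y := fun y => by rw [← mul_assoc, hs2, one_mul]
  have a2 : ∀ y, u0 * (u0 * y) = y := fun y => by rw [← mul_assoc, hu2, one_mul]
  have a3 : ∀ y, u0 * (s0 * y) = s0 * (u0 * y) := fun y => by rw [← mul_assoc, e1, mul_assoc]
  let E : Subgroup L.S.K :=
    { carrier := {x | x = 1 ∨ x = s0 ∨ x = u0 ∨ x = s0 * u0}
      one_mem' := Or.inl rfl
      mul_mem' := by
        intro x y hx hy
        rcases hx with rfl | rfl | rfl | rfl <;> rcases hy with rfl | rfl | rfl | rfl <;>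
          simp [e1, a1, a3, hs2, hu2, mul_assoc]
      inv_mem' := by
        intro x hx
        rcases hx with rfl | rfl | rfl | rfl <;>
          simp [inv_eq_of_mul_eq_one_left hs2, inv_eq_of_mul_eq_one_left hu2, e1] }
  have hsne : s0 ≠ 1 := fun e => by
    have := L.D.hs
    rw [show L.D.s = 1 from e, orderOf_one] at this
    omega
  have hsu : s0 ≠ u0 := fun e => huW (e ▸ Or.inr (by rw [L.D.s_sq]; exact one_mem _))
  have hcardE : Nat.card E = 4 := by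
    classical
    rw [show Nat.card E = Set.ncard (E : Set L.S.K) from Nat.card_coe_set_eq _]
    rw [show (E : Set L.S.K) = {1, s0, u0, s0 * u0} from Set.ext fun x => by
      show (x = 1 ∨ x = s0 ∨ x = u0 ∨ x = s0 * u0) ↔ _
      simp]
    rw [Set.ncard_insert_of_notMem, Set.ncard_insert_of_notMem, Set.ncard_pair]
    · exact fun e => hsne (by simpa using e.symm)
    · rintro (e | e)
      · exact hsu e
      · exact hu1 (by simpa using e)
    · rintro (e | e | e)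
      · exact hsne e.symm
      · exact hu1 e.symm
      · exact hsu (by rw [← mul_one s0, e, ← mul_assoc, hs2, one_mul])
  have hE2 : IsPGroup 2 E := IsPGroup.of_card (n := 2) (by rw [hcardE]; norm_num)
  -- fusion of `s` to `u0`
  obtain ⟨c, hc⟩ := isConj_iff.1 (L.D.s_conj u0 hord)
  set C0 := centralizer ({u0} : Set L.S.K)
  set E1 := E.map (MulAut.conj c).toMonoidHom
  have hE1 : E1 ≤ C0 := by
    rintro _ ⟨x, hx, rfl⟩
    rw [mem_centralizer_singleton_iff, ← hc]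
    show c * x * c⁻¹ * (c * s0 * c⁻¹) = c * s0 * c⁻¹ * (c * x * c⁻¹)
    have hxs : x * s0 = s0 * x := by
      rcases hx with rfl | rfl | rfl | rfl <;> simp [e1, a1, hs2, mul_assoc]
    rw [show c * x * c⁻¹ * (c * s0 * c⁻¹) = c * (x * s0) * c⁻¹ by group, hxs]
    group
  have hE0 : E ≤ C0 := by
    intro x hx
    rw [mem_centralizer_singleton_iff]
    rcases hx with rfl | rfl | rfl | rfl <;> simp [e1, a3, hu2, mul_assoc]
  have hcardC : ¬ 2 ∣ (E.subgroupOf C0).index := by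
    intro h
    have h' := (E.subgroupOf C0).card_mul_index
    rw [Nat.card_congr (subgroupOfEquivOfLe hE0).toEquiv, hcardE] at h'
    have h8 : 8 ∣ Nat.card C0 := h' ▸ Nat.mul_dvd_mul_left 4 h
    exact L.D.four_dvd_only (h8.trans (card_subgroup_dvd_card _))
  let P0 : Sylow 2 C0 := (hE2.of_equiv (subgroupOfEquivOfLe hE0).symm).toSylow hcardC
  obtain ⟨T, hT⟩ := ((hE2.map (MulAut.conj c).toMonoidHom).of_equiv (subgroupOfEquivOfLe hE1).symm).exists_le_sylow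
  obtain ⟨d, hd⟩ := MulAction.exists_smul_eq C0 T P0
  set c' : L.S.K := (d : L.S.K) * c with hc'
  have hmapE : ∀ x ∈ E, c' * x * c'⁻¹ ∈ E := by
    intro x hx
    have hx1 : (⟨c * x * c⁻¹, hE1 ⟨x, hx, rfl⟩⟩ : C0) ∈ (T : Subgroup C0) := hT (mem_subgroupOf.2 ⟨x, hx, rfl⟩)
    have hx2 : d * ⟨c * x * c⁻¹, hE1 ⟨x, hx, rfl⟩⟩ * d⁻¹ ∈ (P0 : Subgroup C0) := by
      rw [← hd, Sylow.coe_subgroup_smul]
      exact ⟨_, hx1, rfl⟩
    rw [hc', show (d : L.S.K) * c * x * ((d : L.S.K) * c)⁻¹ = d * (c * x * c⁻¹) * (d : L.S.K)⁻¹ by group]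
    exact mem_subgroupOf.1 hx2
  have hcs : c' * s0 * c'⁻¹ = u0 := by
    rw [hc', show (d : L.S.K) * c * s0 * ((d : L.S.K) * c)⁻¹ = d * (c * s0 * c⁻¹) * (d : L.S.K)⁻¹ by group, hc,
      mem_centralizer_singleton_iff.1 d.2, mul_inv_cancel_right]
  have hinj : ∀ x y, c' * x * c'⁻¹ = c' * y * c'⁻¹ → x = y := fun x y h => mul_left_cancel (mul_right_cancel h)
  have hcu : c' * u0 * c'⁻¹ = s0 * u0 := by
    rcases hmapE u0 (Or.inr (Or.inr (Or.inl rfl))) with h | h | h | h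
    · exact absurd (conj_eq_one_iff.1 h) hu1
    · exfalso
      have sw : ∀ k : ℕ, c' ^ (2 * k + 1) * s0 * (c' ^ (2 * k + 1))⁻¹ = u0 := by
        intro k
        induction k with
        | zero => simpa using hcs
        | succ k ih =>
          rw [show 2 * (k + 1) + 1 = 1 + (1 + (2 * k + 1)) by omega, pow_add, pow_add, pow_one,
            show c' * (c' * c' ^ (2 * k + 1)) * s0 * (c' * (c' * c' ^ (2 * k + 1)))⁻¹ =
              c' * (c' * (c' ^ (2 * k + 1) * s0 * (c' ^ (2 * k + 1))⁻¹) * c'⁻¹) * c'⁻¹ by group, ih, h, hcs]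
      obtain ⟨i, o, ho, hio⟩ := Nat.exists_eq_two_pow_mul_odd (orderOf_pos c').ne'
      obtain ⟨j, rfl⟩ := ho
      set m := c' ^ (2 * j + 1) with hm
      have hms := sw j
      rw [← hm] at hms
      have hmE : zpowers m ≤ normalizer (E : Set L.S.K) := by
        rw [zpowers_le]
        have hstep : c' ∈ normalizer (E : Set L.S.K) := by
          rw [mem_normalizer_iff]
          intro y
          refine ⟨hmapE y, fun hy => ?_⟩
          have hbij : Function.Bijective (fun x : E => (⟨c' * x * c'⁻¹, hmapE x x.2⟩ : E)) :=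
            Finite.injective_iff_bijective.1 fun x y e => Subtype.ext (hinj _ _ (congrArg Subtype.val e))
          obtain ⟨z, hz⟩ := hbij.2 ⟨_, hy⟩
          rw [← hinj _ _ (congrArg Subtype.val hz)]
          exact z.2
        exact pow_mem hstep _
      have hmp : IsPGroup 2 (zpowers m) := by
        obtain ⟨n, -, hn⟩ := (Nat.dvd_prime_pow Nat.prime_two).1
          (orderOf_dvd_of_pow_eq_one (x := m) (n := 2 ^ i) (by
            rw [hm, ← pow_mul, mul_comm, ← hio, pow_orderOf_eq_one]))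
        exact IsPGroup.of_card (n := n) (by rw [Nat.card_zpowers, hn])
      have hsup : IsPGroup 2 (zpowers m ⊔ E : Subgroup L.S.K) := hmp.to_sup_of_normal_right' hE2 hmE
      obtain ⟨n, hn⟩ := IsPGroup.iff_card.1 hsup
      have h4 := two_pow_of_dvd_four hn fun h8 => L.D.four_dvd_only (h8.trans (card_subgroup_dvd_card _))
      have heq : E = zpowers m ⊔ E :=
        Subgroup.eq_of_le_of_card_ge le_sup_right (by rw [hcardE]; exact Nat.le_of_dvd (by norm_num) h4)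
      have hmem : m ∈ E := by rw [heq]; exact mem_sup_left (mem_zpowers m)
      apply hsu
      rw [← hms]
      rcases hmem with hh | hh | hh | hh <;> rw [hh] <;>
        simp [inv_eq_of_mul_eq_one_left hs2, inv_eq_of_mul_eq_one_left hu2, e1, a1, a3, hs2, hu2, mul_assoc]
    · exact absurd (hinj _ _ (h.trans hcs.symm)) hsu.symm
    · exact h
  have e3 : c' ^ 3 = c' * (c' * c') := by rw [pow_succ', pow_two]
  have h3s : c' ^ 3 * s0 * (c' ^ 3)⁻¹ = s0 := by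
    rw [e3, show c' * (c' * c') * s0 * (c' * (c' * c'))⁻¹ = c' * (c' * (c' * s0 * c'⁻¹) * c'⁻¹) * c'⁻¹ by group, hcs, hcu,
      show c' * (s0 * u0) * c'⁻¹ = c' * s0 * c'⁻¹ * (c' * u0 * c'⁻¹) by group, hcs, hcu, a3, hu2, mul_one]
  have h3u : c' ^ 3 * u0 * (c' ^ 3)⁻¹ = u0 := by
    rw [e3, show c' * (c' * c') * u0 * (c' * (c' * c'))⁻¹ = c' * (c' * (c' * u0 * c'⁻¹) * c'⁻¹) * c'⁻¹ by group, hcu,
      show c' * (s0 * u0) * c'⁻¹ = c' * s0 * c'⁻¹ * (c' * u0 * c'⁻¹) by group, hcs, hcu, a3, hu2, mul_one, hcs]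
  have h6 : c' ^ 3 * c' ^ 3 = 1 := by
    by_cases hW : c' ^ 3 ∈ L.D.W
    · have hcu3 : u0 * c' ^ 3 * u0⁻¹ = c' ^ 3 := by
        rw [mul_inv_eq_iff_eq_mul, eq_comm, ← mul_inv_eq_iff_eq_mul]
        exact h3u
      rcases hW with h | h
      · have := huinv _ h
        rw [hcu3] at this
        rw [eq_one_of_inv_eq (L.D.B_odd h) this.symm, one_mul]
      · have := huinv _ h
        rw [show u0 * (L.D.s * c' ^ 3) * u0⁻¹ = (u0 * L.D.s) * u0⁻¹ * (u0 * c' ^ 3 * u0⁻¹) by group, hcu3, hus,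
          mul_inv_cancel_right] at this
        have h1 := eq_one_of_inv_eq (L.D.B_odd h) this.symm
        have e : c' ^ 3 = L.D.s := by rw [← mul_one L.D.s, ← h1, ← mul_assoc, L.D.s_sq, one_mul]
        rw [e, L.D.s_sq]
    · exact (L.D.outside (mul_inv_eq_iff_eq_mul.1 h3s) hW).1
  refine ⟨u0, c' ^ 4, hus, huW, ?_, ?_, ?_⟩
  · rw [← pow_mul, show 4 * 3 = (3 + 3) * 2 by norm_num, pow_mul, pow_add, h6, one_pow]
  · rw [pow_succ', show c' * c' ^ 3 * s0 * (c' * c' ^ 3)⁻¹ = c' * (c' ^ 3 * s0 * (c' ^ 3)⁻¹) * c'⁻¹ by group, h3s, hcs]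
  · rw [pow_succ', show c' * c' ^ 3 * u0 * (c' * c' ^ 3)⁻¹ = c' * (c' ^ 3 * u0 * (c' ^ 3)⁻¹) * c'⁻¹ by group, h3u, hcu]

theorem exists_rot : Nonempty L.Rot := by
  obtain ⟨u0, θ, hus, huW, hθ3, hθs, hθu⟩ := L.exists_theta
  obtain ⟨hu2, -⟩ := L.D.outside hus huW
  have hu1 : u0 ≠ 1 := fun e => huW (e ▸ one_mem _)
  have hus' : (u0 : G) * L.s = L.s * u0 := congrArg Subtype.val hus
  obtain ⟨g1, hg1⟩ := isConj_iff.1 (L.hconj L.s (by rw [Subgroup.orderOf_coe, L.D.hs])).symm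
  replace hg1 : g1 * L.s * g1⁻¹ = L.t := hg1
  set z := g1 * (u0 : G) * g1⁻¹ with hz
  have hz2 : z * z = 1 := by
    rw [hz, show g1 * (u0 : G) * g1⁻¹ * (g1 * u0 * g1⁻¹) = g1 * ((u0 : G) * u0) * g1⁻¹ by group,
      show (u0 : G) * u0 = 1 from congrArg Subtype.val hu2]
    group
  have hzt : z * L.t = L.t * z := by
    rw [hz, ← hg1, show g1 * (u0 : G) * g1⁻¹ * (g1 * L.s * g1⁻¹) = g1 * ((u0 : G) * L.s) * g1⁻¹ by group, hus']
    group
  have hzne : z ≠ L.t := by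
    intro e
    rw [hz, ← hg1] at e
    exact huW ((Subtype.ext (mul_left_cancel (mul_right_cancel e)) : u0 = L.D.s) ▸ Or.inr (by
      rw [L.D.s_sq]; exact one_mem _))
  have hz1 : z ≠ 1 := fun e => hu1 (Subtype.ext (conj_eq_one_iff.1 (hz ▸ e)))
  obtain ⟨k, hk⟩ : ∃ k : L.S.K, (k : G) * z * (k : G)⁻¹ = L.s ∨ (k : G) * z * (k : G)⁻¹ = L.t * L.s := by
    rcases L.S.split (L.S.mem_C.2 hzt) with h | h
    · obtain ⟨k, hk⟩ := isConj_iff.1 (L.D.s_conj ⟨z, h⟩ (orderOf_eq_prime (by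
        rw [pow_two]; exact Subtype.ext hz2) (fun e => hz1 (congrArg Subtype.val e)))).symm
      exact ⟨k, Or.inl (congrArg Subtype.val hk)⟩
    · have hne : L.t * z ≠ 1 := fun e => hzne (by
        rw [← mul_one L.t, ← e, ← mul_assoc, L.sq_t, one_mul])
      obtain ⟨k, hk⟩ := isConj_iff.1 (L.D.s_conj ⟨_, h⟩ (orderOf_eq_prime (by
        rw [pow_two]; refine Subtype.ext ?_
        show L.t * z * (L.t * z) = 1
        rw [show L.t * z * (L.t * z) = L.t * (z * L.t) * z by group, hzt, ← mul_assoc L.t, L.sq_t, one_mul, hz2])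
        (fun e => hne (congrArg Subtype.val e)))).symm
      refine ⟨k, Or.inr ?_⟩
      have hk' : (k : G) * (L.t * z) * (k : G)⁻¹ = L.s := congrArg Subtype.val hk
      rw [← hk', show (k : G) * (L.t * z) * (k : G)⁻¹ = (k * L.t) * z * (k : G)⁻¹ by group, L.S.comm_t k.2]
      simp only [← mul_assoc, L.sq_t, one_mul]
  set g := (k : G) * g1 with hg
  have hgs : g * L.s * g⁻¹ = L.t := by
    rw [hg, show (k : G) * g1 * L.s * ((k : G) * g1)⁻¹ = k * (g1 * L.s * g1⁻¹) * (k : G)⁻¹ by group, hg1,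
      L.S.comm_t k.2, mul_inv_cancel_right]
  have hgu : g * u0 * g⁻¹ = (k : G) * z * (k : G)⁻¹ := by rw [hg, hz]; group
  have hθs' : (θ : G) * L.s * (θ : G)⁻¹ = u0 := congrArg Subtype.val hθs
  have hθu' : (θ : G) * u0 * (θ : G)⁻¹ = L.s * u0 := congrArg Subtype.val hθu
  set r0 := g * (θ : G) * g⁻¹ with hr0
  set w := g * L.t * g⁻¹ with hw
  have hr03 : r0 ^ 3 = 1 := by
    rw [hr0, conj_pow, ← Subgroup.coe_pow, hθ3]
    simp
  have hr0t : r0 * L.t * r0⁻¹ = g * u0 * g⁻¹ := by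
    rw [hr0, ← hgs, show g * (θ : G) * g⁻¹ * (g * L.s * g⁻¹) * (g * (θ : G) * g⁻¹)⁻¹ =
      g * ((θ : G) * L.s * (θ : G)⁻¹) * g⁻¹ by group, hθs']
  have hr0y : r0 * (g * u0 * g⁻¹) * r0⁻¹ = L.t * (g * u0 * g⁻¹) := by
    rw [hr0, show g * (θ : G) * g⁻¹ * (g * u0 * g⁻¹) * (g * (θ : G) * g⁻¹)⁻¹ =
      g * ((θ : G) * u0 * (θ : G)⁻¹) * g⁻¹ by group, hθu', ← hgs]
    group
  have hw2 : w * w = 1 := by
    rw [hw, show g * L.t * g⁻¹ * (g * L.t * g⁻¹) = g * (L.t * L.t) * g⁻¹ by group, L.sq_t]; group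
  have hwt : w * L.t = L.t * w := by
    calc w * L.t = w * (g * L.s * g⁻¹) := by rw [hgs]
      _ = g * (L.t * L.s) * g⁻¹ := by rw [hw]; group
      _ = g * (L.s * L.t) * g⁻¹ := by rw [L.ts_comm]
      _ = g * L.s * g⁻¹ * w := by rw [hw]; group
      _ = L.t * w := by rw [hgs]
  have hwy : w * (g * u0 * g⁻¹) = g * u0 * g⁻¹ * w := by
    rw [hw, show g * L.t * g⁻¹ * (g * u0 * g⁻¹) = g * (L.t * u0) * g⁻¹ by group, ← L.S.comm_t u0.2]; group
  have hwr : w * r0 = r0 * w := by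
    rw [hw, hr0, show g * L.t * g⁻¹ * (g * θ * g⁻¹) = g * (L.t * θ) * g⁻¹ by group, ← L.S.comm_t θ.2]; group
  have hVpre : ∀ x ∈ L.V, g⁻¹ * x * g ∈ L.S.K := by
    have e1 : g⁻¹ * L.t * g ∈ L.S.K := by
      rw [← hgs, show g⁻¹ * (g * L.s * g⁻¹) * g = L.s by group]; exact L.D.s.2
    have e3 : g⁻¹ * L.s * g ∈ L.S.K := by
      rcases hgu ▸ hk with h | h
      · rw [← h, show g⁻¹ * (g * (u0 : G) * g⁻¹) * g = u0 by group]; exact u0.2
      · rw [show L.s = L.t * (g * (u0 : G) * g⁻¹) by rw [h, ← mul_assoc, L.sq_t, one_mul],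
          show g⁻¹ * (L.t * (g * (u0 : G) * g⁻¹)) * g = g⁻¹ * L.t * g * u0 by group]
        exact mul_mem e1 u0.2
    rintro x (rfl | rfl | rfl | rfl)
    · simp
    · exact e1
    · exact e3
    · rw [show g⁻¹ * (L.t * L.s) * g = g⁻¹ * L.t * g * (g⁻¹ * L.s * g) by group]
      exact mul_mem e1 e3
  have hwV : w ∉ L.V := fun h => L.S.t_not_mem (by
    have := hVpre w h
    rwa [hw, show g⁻¹ * (g * L.t * g⁻¹) * g = L.t by group] at this)
  rcases hgu ▸ hk with h | h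
  · rw [h] at hr0t hr0y hwy
    exact ⟨⟨r0, w, hr03, hr0t, hr0y, hw2, hwt, hwy, hwV, hwr⟩⟩
  · rw [h] at hr0t hr0y hwy
    have hy' : r0 * (L.t * L.s) * r0⁻¹ = L.s := by rw [hr0y, ← mul_assoc, L.sq_t, one_mul]
    have hs' : r0 * L.s * r0⁻¹ = L.t := by
      calc r0 * L.s * r0⁻¹ = r0 * (L.t * (L.t * L.s)) * r0⁻¹ := by rw [← mul_assoc L.t, L.sq_t, one_mul]
        _ = r0 * L.t * r0⁻¹ * (r0 * (L.t * L.s) * r0⁻¹) := by group
        _ = L.t * L.s * L.s := by rw [hr0t, hy']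
        _ = L.t := by rw [mul_assoc, L.sq_s, mul_one]
    refine ⟨⟨r0⁻¹, w, by rw [inv_pow, hr03, inv_one], ?_, ?_, hw2, hwt, ?_, hwV, ?_⟩⟩
    · rw [inv_inv]
      conv_lhs => rw [← hs']
      group
    · rw [inv_inv]
      conv_lhs => rw [← hy']
      group
    · rw [show L.s = L.t * (L.t * L.s) by rw [← mul_assoc, L.sq_t, one_mul], ← mul_assoc, hwt, mul_assoc, hwy,
        ← mul_assoc]
    · exact (Commute.inv_right hwr).eq

end LCfg

end Cfsg.Agent.Char.ReeOrder
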