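import Mathlib
import Cfsg.Agent.Lib.Solv.Cores
import Cfsg.Agent.Lib.Char.ReeOrder.LocalPsl
import Cfsg.Agent.Lib.Char.ReeOrder.LocalRankTwo
import Cfsg.Agent.S0205

/-!
# Odd groups with an involutory automorphism whose fixed points are `π`-elements

If `σ` inverts `b`, `C(b)` is abelian and `b` is fused in `C(b)` only to its inverse, the fixed points of `σ` lie
in a normal `π`-subgroup. In a `π`-group on which `b` fixes only `Z`, the fixed points modulo `Z` square to the
order.
-/

set_option autoImplicit false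
set_option linter.unusedSectionVars false

namespace Cfsg.Agent.Char.ReeOrder

open Subgroup
open scoped Pointwise

universe u

variable {O : Type u} [Group O]

theorem iterate_pow (φ : MulAut O) (i : ℕ) : ∀ x, (φ ^ i) x = (φ : O → O)^[i] x := by
  induction i with
  | zero => intro x; rfl
  | succ i ih => intro x; rw [pow_succ', MulAut.mul_apply, ih, Function.iterate_succ_apply']

/-- A coset fixed by an automorphism of prime order prime to the subgroup contains a fixed point. -/
theorem fixed_coset [Finite O] (φ : MulAut O) {p : ℕ} [hp : Fact p.Prime] (hφ : φ ^ p = 1) (M : Subgroup O)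
    (hM : ∀ m ∈ M, φ m ∈ M) (hpM : ¬ p ∣ Nat.card M) {k : O} (hk : k⁻¹ * φ k ∈ M) :
    ∃ m ∈ M, φ (k * m) = k * m := by
  classical
  let ψ : M → M := fun m => ⟨k⁻¹ * φ (k * m), by rw [map_mul, ← mul_assoc]; exact mul_mem hk (hM m m.2)⟩
  have hiter : ∀ (i : ℕ) (m : M), ((ψ^[i] m : M) : O) = k⁻¹ * (φ ^ i) (k * m) := by
    intro i
    induction i with
    | zero => intro m; simp
    | succ i ih =>
      intro m
      rw [Function.iterate_succ_apply', pow_succ', MulAut.mul_apply]
      show k⁻¹ * φ (k * (ψ^[i] m : M)) = _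
      rw [ih, mul_inv_cancel_left]
  have hid : ∀ m, ψ^[p] m = m := fun m => Subtype.ext (by rw [hiter, hφ, MulAut.one_apply, inv_mul_cancel_left])
  have hinj : Function.Injective ψ := fun a b h => by
    have := congrArg (fun x => ψ^[p - 1] x) h
    simp only [← Function.iterate_succ_apply, show (p - 1).succ = p by have := hp.out.one_lt; omega, hid] at this
    exact this
  let e : Equiv.Perm M := Equiv.ofBijective ψ (Finite.injective_iff_bijective.1 hinj)
  haveI : Fintype M := Fintype.ofFinite _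
  have he : e ^ p ^ 1 = 1 := by
    rw [pow_one]
    ext m
    rw [Equiv.Perm.coe_pow]
    exact congrArg Subtype.val (hid m)
  obtain ⟨m, hm⟩ := Equiv.Perm.exists_fixed_point_of_prime (n := 1) (by rwa [← Nat.card_eq_fintype_card]) he
  refine ⟨m, m.2, ?_⟩
  have h : k⁻¹ * φ (k * m) = m := congrArg Subtype.val hm
  conv_rhs => rw [← h]
  group

theorem odd_of_card [Finite O] (ho : Odd (Nat.card O)) (x : O) : Odd (orderOf x) :=
  ho.of_dvd_nat (orderOf_dvd_natCard x)

/-- The fixed points of `σ` lie in a normal `σ`-invariant subgroup of order prime to `r`. -/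
theorem fixed_core [Finite O] (ho : Odd (Nat.card O)) (σ : MulAut O) (hσ : ∀ x, σ (σ x) = x) {n r : ℕ}
    (hn : ∀ x, σ x = x → orderOf x ∣ n) (hr : r.Prime) (hrn : ¬ r ∣ n) {b : O} (hb : σ b = b⁻¹)
    (hbr : orderOf b = r) (hcomm : ∀ c d : O, c * b = b * c → d * b = b * d → c * d = d * c)
    (hfus : ∀ g : O, g * b * g⁻¹ * b = b * (g * b * g⁻¹) → g * b * g⁻¹ = b ∨ g * b * g⁻¹ = b⁻¹) :
    ∃ M : Subgroup O, M.Normal ∧ (∀ m ∈ M, σ m ∈ M) ∧ (∀ p : ℕ, p.Prime → p ∣ Nat.card M → p ∣ n) ∧
      ∀ x, σ x = x → x ∈ M := by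
  classical
  haveI := Fact.mk hr
  haveI : Group.IsSolvable O := S0205.result ho
  let S : Set (Subgroup O) := {M | M.Normal ∧ ∀ p : ℕ, p.Prime → p ∣ Nat.card M → p ∣ n}
  obtain ⟨M, hMS, hmax⟩ := Set.exists_max_image S (fun M => Nat.card M) (Set.toFinite S)
    ⟨⊥, inferInstance, fun p hp h => by rw [Subgroup.card_bot] at h; exact absurd h hp.not_dvd_one⟩
  obtain ⟨hMn, hMπ⟩ := hMS
  haveI := hMn
  have hMσ : ∀ m ∈ M, σ m ∈ M := by
    intro m hm
    haveI : (M.map σ.toMonoidHom).Normal := hMn.map _ σ.surjective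
    have hS : M ⊔ M.map σ.toMonoidHom ∈ S := by
      refine ⟨inferInstance, fun p hp h => ?_⟩
      have h' := h.trans (Solv.card_sup_dvd M (M.map σ.toMonoidHom))
      rw [show Nat.card (M.map σ.toMonoidHom) = Nat.card M from Subgroup.card_map_of_injective σ.injective] at h'
      rcases hp.dvd_mul.1 h' with h | h <;> exact hMπ p hp h
    have he := Subgroup.eq_of_le_of_card_ge le_sup_left (hmax _ hS)
    exact he ▸ mem_sup_right ⟨m, hm, rfl⟩
  refine ⟨M, hMn, hMσ, hMπ, ?_⟩
  have hrM : ¬ r ∣ Nat.card M := fun h => hrn (hMπ r hr h)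
  have h2M : ¬ 2 ∣ Nat.card M := fun h =>
    (Nat.not_even_iff_odd.2 ho) (even_iff_two_dvd.2 (h.trans (card_subgroup_dvd_card _)))
  have hσ2 : σ ^ 2 = 1 := MulEquiv.ext fun x => by rw [pow_two, MulAut.mul_apply, hσ]; rfl
  let φ : MulAut O := MulAut.conj b
  have hφ : φ ^ r = 1 := by rw [← map_pow, ← hbr, pow_orderOf_eq_one, map_one]
  have hσM : M.map σ.toMonoidHom = M := Subgroup.eq_of_le_of_card_ge
    (by rintro _ ⟨m, hm, rfl⟩; exact hMσ m hm) (Subgroup.card_map_of_injective σ.injective).ge
  let τ : MulAut (O ⧸ M) := QuotientGroup.congr M M σ hσM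
  have hτmk : ∀ x : O, τ (x : O ⧸ M) = ((σ x : O) : O ⧸ M) := fun x => rfl
  have hτ : ∀ z, τ (τ z) = z := by
    intro z
    induction z using QuotientGroup.induction_on with
    | H x => rw [hτmk, hτmk, hσ]
  have hQodd : Odd (Nat.card (O ⧸ M)) := ho.of_dvd_nat (Subgroup.card_quotient_dvd_card M)
  -- fixed points of the quotient
  have hfix : ∀ z, τ z = z → ∃ x : O, σ x = x ∧ (x : O ⧸ M) = z := by
    intro z hz
    induction z using QuotientGroup.induction_on with
    | H x =>
      rw [hτmk, eq_comm, QuotientGroup.eq] at hz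
      obtain ⟨m, hm, he⟩ := fixed_coset σ hσ2 M hMσ h2M hz
      exact ⟨x * m, he, by rw [QuotientGroup.eq, mul_inv_rev, inv_mul_cancel_right]; exact inv_mem hm⟩
  have hcent : ∀ z : O ⧸ M, z * (b : O ⧸ M) = (b : O ⧸ M) * z → ∃ x : O, x * b = b * x ∧ (x : O ⧸ M) = z := by
    intro z hz
    induction z using QuotientGroup.induction_on with
    | H x =>
      rw [← QuotientGroup.mk_mul, ← QuotientGroup.mk_mul, QuotientGroup.eq] at hz
      have hz' : x⁻¹ * φ x ∈ M := by
        have := hMn.conj_mem _ hz b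
        rwa [show b * ((x * b)⁻¹ * (b * x)) * b⁻¹ = x⁻¹ * (b * x * b⁻¹) by group] at this
      obtain ⟨m, hm, he⟩ := fixed_coset φ hφ M (fun m hm => hMn.conj_mem m hm b) hrM hz'
      have he' : b * (x * m) * b⁻¹ = x * m := he
      exact ⟨x * m, (mul_inv_eq_iff_eq_mul.1 he').symm, by
        rw [QuotientGroup.eq, mul_inv_rev, inv_mul_cancel_right]; exact inv_mem hm⟩
  -- the Fitting subgroup
  set Q := O ⧸ M
  set Fq := Cfsg.fittingSubgroup Q with hFq
  haveI hFn : Fq.Normal := Solv.fittingSubgroup_normal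
  haveI hFnil : Group.IsNilpotent Fq := Solv.fittingSubgroup_nilpotent
  have hFτ : ∀ f ∈ Fq, τ f ∈ Fq := by
    intro f hf
    haveI : (Fq.map τ.toMonoidHom).Normal := hFn.map _ τ.surjective
    refine Solv.normal_le_fitting (N := Fq.map τ.toMonoidHom) ?_ ⟨f, hf, rfl⟩
    haveI := hFnil
    exact Group.nilpotent_of_mulEquiv (Fq.equivMapOfInjective τ.toMonoidHom τ.injective)
  have hFfix : ∀ f ∈ Fq, τ f = f → f = 1 := by
    intro f hf hff
    by_contra hf1
    obtain ⟨x, hx, rfl⟩ := hfix f hff
    have hord : orderOf (x : Q) ∣ n := (orderOf_map_dvd (QuotientGroup.mk' M) x).trans (hn x hx)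
    obtain ⟨p, hp, hpd⟩ := Nat.exists_prime_and_dvd (n := orderOf (x : Q)) fun e => hf1 (orderOf_eq_one_iff.1 e)
    haveI := Fact.mk hp
    obtain ⟨P⟩ : Nonempty (Sylow p Fq) := inferInstance
    haveI : (P : Subgroup Fq).Characteristic := P.characteristic_of_normal inferInstance
    haveI : ((P : Subgroup Fq).map Fq.subtype).Normal := Solv.map_subtype_normal_of_characteristic Fq _
    set N := ((P : Subgroup Fq).map Fq.subtype) with hN
    have hNp : IsPGroup p N := P.2.map _
    have hpos : 1 < Nat.card N := by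
      rw [hN, Subgroup.card_map_of_injective Fq.subtype_injective]
      have hd : p ∣ Nat.card Fq := by
        refine hpd.trans ?_
        rw [← Subgroup.orderOf_mk _ hf]
        exact orderOf_dvd_natCard _
      exact lt_of_lt_of_le hp.one_lt (Nat.le_of_dvd Nat.card_pos (P.dvd_card_of_dvd_card hd))
    set M' := N.comap (QuotientGroup.mk' M) with hM'
    have hcard : Nat.card M' = Nat.card M * Nat.card N := by
      have h := Subgroup.card_mul_index M'
      rw [hM', Subgroup.index_comap_of_surjective _ (QuotientGroup.mk'_surjective M)] at h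
      have h1 := N.card_mul_index
      have h2 : Nat.card M * Nat.card Q = Nat.card O := M.card_mul_index
      rw [← h1, ← mul_assoc, ← h] at h2
      exact (Nat.eq_of_mul_eq_mul_right (Nat.pos_of_ne_zero Subgroup.index_ne_zero_of_finite) h2).symm
    have hS : M' ∈ S := by
      refine ⟨inferInstance, fun q hq h => ?_⟩
      rw [hcard] at h
      rcases hq.dvd_mul.1 h with h | h
      · exact hMπ q hq h
      · obtain ⟨k, hk⟩ := IsPGroup.iff_card.1 hNp
        rw [hk] at h
        rw [(Nat.prime_dvd_prime_iff_eq hq hp).1 (hq.dvd_of_dvd_pow h)]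
        exact hpd.trans hord
    have hle := hmax _ hS
    rw [hcard] at hle
    have h2 : 0 < Nat.card M := Nat.card_pos
    nlinarith
  have hinv : ∀ f ∈ Fq, τ f = f⁻¹ := by
    intro f hf
    let τF : Fq →* Fq := MonoidHom.mk' (fun x => ⟨τ x, hFτ x x.2⟩) fun a c => Subtype.ext (map_mul τ (a : Q) c)
    have hfp : MonoidHom.FixedPointFree τF := fun g hg =>
      Subtype.ext (hFfix g g.2 (congrArg Subtype.val hg))
    have h := MonoidHom.FixedPointFree.coe_eq_inv_of_involutive hfp fun g => Subtype.ext (hτ g)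
    exact congrArg Subtype.val (congrFun h ⟨f, hf⟩)
  have hFab : ∀ f ∈ Fq, ∀ g ∈ Fq, f * g = g * f := by
    intro f hf g hg
    have e := hinv _ (mul_mem hf hg)
    rw [map_mul, hinv f hf, hinv g hg] at e
    have := congrArg (fun z => z⁻¹) e
    simp only [mul_inv_rev, inv_inv] at this
    exact this.symm
  have hCF : ∀ z : Q, (∀ f ∈ Fq, z * f = f * z) → z ∈ Fq := fun z hz =>
    Solv.centralizer_fitting_le inferInstance (mem_centralizer_iff.2 fun f hf => (hz f hf).symm)
  have hbF : (b : Q) ∈ Fq := by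
    have hb2 : (b : Q) * b ∈ Fq := hCF _ fun f hf => by
      have e := hinv _ (hFn.conj_mem f hf (b : Q))
      rw [map_mul, map_mul, map_inv, hinv f hf, hτmk, hb, QuotientGroup.mk_inv, inv_inv] at e
      have e' := congrArg (fun z => z⁻¹) e
      simp only [mul_inv_rev, inv_inv] at e'
      calc (b : Q) * b * f = (b : Q) * ((b : Q) * (f * (b : Q)⁻¹)) * b := by group
        _ = (b : Q) * ((b : Q)⁻¹ * (f * b)) * b := by rw [← mul_assoc (b : Q) f, ← e']
        _ = f * ((b : Q) * b) := by group
    obtain ⟨k, hk⟩ := sq_pow (odd_of_card hQodd (b : Q))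
    rw [hk, pow_two]
    exact pow_mem hb2 k
  have hCb : ∀ z : Q, z * (b : Q) = b * z → z ∈ Fq := by
    intro z hz
    refine hCF z fun f hf => ?_
    obtain ⟨c, hc, rfl⟩ := hcent z hz
    obtain ⟨d, hd, rfl⟩ := hcent f (hFab f hf _ hbF)
    rw [← QuotientGroup.mk_mul, hcomm c d hc hd, QuotientGroup.mk_mul]
  intro x hx
  have hxQ : τ (x : Q) = x := by rw [hτmk, hx]
  suffices h : (x : Q) * b = b * x by
    exact (QuotientGroup.eq_one_iff x).1 (hFfix _ (hCb _ h) hxQ)
  set y := x * b * x⁻¹ with hy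
  have hyF : (y : Q) ∈ Fq := by
    rw [hy, QuotientGroup.mk_mul, QuotientGroup.mk_mul, QuotientGroup.mk_inv]
    exact hFn.conj_mem _ hbF _
  obtain ⟨c, hc, hcy⟩ := hcent (y : Q) (hFab _ hyF _ hbF)
  have hyr : y ^ r = 1 := by rw [hy, conj_pow, ← hbr, pow_orderOf_eq_one, mul_one, mul_inv_cancel]
  have hcr : c ^ r ∈ M := by
    rw [← QuotientGroup.eq_one_iff, QuotientGroup.mk_pow, hcy, ← QuotientGroup.mk_pow, hyr, QuotientGroup.mk_one]
  -- the `r`-part of `c`
  set e := orderOf (c ^ r) with he
  have hce : c ^ (e * r) = 1 := by rw [mul_comm, pow_mul, he, pow_orderOf_eq_one]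
  have hre : Nat.Coprime e r := by
    refine Nat.Coprime.symm (hr.coprime_iff_not_dvd.2 fun h => hrM (h.trans ?_))
    rw [he, ← Subgroup.orderOf_mk _ hcr]
    exact orderOf_dvd_natCard _
  obtain ⟨j, hj⟩ : ∃ j : ℕ, e * j % r = 1 := by
    obtain ⟨j, -, hj⟩ := Nat.exists_mul_mod_eq_one_of_coprime hre hr.one_lt
    exact ⟨j, hj⟩
  set c' := c ^ (e * j) with hc'
  have hc'r : c' ^ r = 1 := by rw [hc', ← pow_mul, mul_right_comm, pow_mul, hce, one_pow]
  have hc'b : c' * b = b * c' := ((show Commute c b from hc).pow_left _).eq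
  have hc'y : (c' : Q) = y := by
    rw [hc', QuotientGroup.mk_pow, hcy, ← QuotientGroup.mk_pow]
    congr 1
    rw [← pow_mod_orderOf]
    rcases (Nat.dvd_prime hr).1 (orderOf_dvd_of_pow_eq_one hyr) with h | h
    · rw [orderOf_eq_one_iff.1 h, one_pow]
    · rw [h, hj, pow_one]
  set H := zpowers c' with hH
  set L := M ⊔ H
  have hyL : y ∈ L := by
    have : c'⁻¹ * y ∈ M := QuotientGroup.eq.1 hc'y
    rw [show y = c' * (c'⁻¹ * y) by group]
    exact mul_mem (mem_sup_right (mem_zpowers c')) (mem_sup_left this)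
  have hidx : ¬ r ∣ (H.subgroupOf L).index := by
    intro h
    have h1 := (H.subgroupOf L).card_mul_index
    rw [Nat.card_congr (subgroupOfEquivOfLe (le_sup_right : H ≤ L)).toEquiv] at h1
    have h2 : Nat.card L ∣ Nat.card M * Nat.card H := Solv.card_sup_dvd M H
    rw [← h1, mul_comm (Nat.card M)] at h2
    exact hrM (h.trans ((Nat.mul_dvd_mul_iff_left Nat.card_pos).1 h2))
  obtain ⟨g, hg⟩ := conj_into (p := r) (H.subgroupOf L) hidx (x := (⟨y, hyL⟩ : L)) (k := 1)
    (Subtype.ext (by rw [pow_one]; exact hyr))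
  rw [mem_subgroupOf] at hg
  change (g : O) * y * (g : O)⁻¹ ∈ H at hg
  obtain ⟨i, hi⟩ := mem_zpowers_iff.1 hg
  have hgx : (g : O) * x * b * ((g : O) * x)⁻¹ = (g : O) * y * (g : O)⁻¹ := by rw [hy]; group
  have hcom : (g : O) * x * b * ((g : O) * x)⁻¹ * b = b * ((g : O) * x * b * ((g : O) * x)⁻¹) := by
    rw [hgx, ← hi]; exact ((show Commute c' b from hc'b).zpow_left i).eq
  have hgQ : ((g : O) : Q) * y = y * ((g : O) : Q) := by
    have hle : L ≤ (zpowers (y : Q)).comap (QuotientGroup.mk' M) := sup_le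
      (fun m hm => by rw [mem_comap, QuotientGroup.mk'_apply, (QuotientGroup.eq_one_iff m).2 hm]; exact one_mem _)
      (zpowers_le.2 (by rw [mem_comap, QuotientGroup.mk'_apply, hc'y]; exact mem_zpowers _))
    obtain ⟨l, hl⟩ := mem_zpowers_iff.1 (hle g.2)
    rw [show ((g : O) : Q) = (y : Q) ^ l from hl.symm]
    exact ((Commute.refl (y : Q)).zpow_left l).eq
  have hyQ : (((g : O) * y * (g : O)⁻¹ : O) : Q) = y := by
    rw [QuotientGroup.mk_mul, QuotientGroup.mk_mul, QuotientGroup.mk_inv, hgQ, mul_inv_cancel_right]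
  have hxb : ((x : Q) * b * (x : Q)⁻¹) = (y : Q) := by
    rw [hy, QuotientGroup.mk_mul, QuotientGroup.mk_mul, QuotientGroup.mk_inv]
  rcases hfus _ hcom with h | h <;> rw [hgx] at h <;> rw [h] at hyQ
  · rw [← hxb] at hyQ
    exact mul_inv_eq_iff_eq_mul.1 hyQ.symm
  · rw [← hxb, QuotientGroup.mk_inv] at hyQ
    have h2 : (x : Q) ^ 2 * b = b * (x : Q) ^ 2 := by
      calc (x : Q) ^ 2 * b = (x : Q) * ((x : Q) * b * (x : Q)⁻¹) * x := by rw [pow_two]; group
        _ = (x : Q) * (b : Q)⁻¹ * x := by rw [← hyQ]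
        _ = ((x : Q) * b * (x : Q)⁻¹)⁻¹ * ((x : Q) * x) := by group
        _ = b * (x : Q) ^ 2 := by rw [← hyQ, inv_inv, pow_two]
    exact comm_of_sq (odd_of_card hQodd _) h2

/-- Restriction of an automorphism to an invariant subgroup. -/
noncomputable def restr {N : Type u} [Group N] (φ : MulAut N) (D : Subgroup N) (h : D.map φ.toMonoidHom = D) :
    MulAut D :=
  (φ.subgroupMap D).trans (MulEquiv.subgroupCongr h)

theorem restr_val {N : Type u} [Group N] (φ : MulAut N) (D : Subgroup N) (h : D.map φ.toMonoidHom = D) (x : D) :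
    ((restr φ D h x : D) : N) = φ x := rfl

theorem fix_of_sq {N : Type u} [Group N] (β : MulAut N) {r : ℕ} (hr : Odd r) (hβ : β ^ r = 1) {e : N}
    (h : β (β e) = e) : β e = e := by
  obtain ⟨j, rfl⟩ := hr
  have hj : ∀ i : ℕ, (β ^ (2 * i)) e = e := by
    intro i
    induction i with
    | zero => rfl
    | succ i ih => rw [show 2 * (i + 1) = 1 + (1 + 2 * i) by ring, pow_add, pow_add, pow_one, MulAut.mul_apply,
        MulAut.mul_apply, ih, h]
  conv_rhs => rw [← MulAut.one_apply (M := N) e, ← hβ, pow_succ', MulAut.mul_apply, hj]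

/-- If `β` fixes only the identity and `σ` inverts it, the fixed points of `σ` square to the order. -/
theorem card_eq_sq : ∀ (k : ℕ) (N : Type u) [Group N] [Finite N] (σ β : MulAut N) {r : ℕ}, Nat.card N ≤ k → r.Prime →
    Odd r → Odd (Nat.card N) → ¬ r ∣ Nat.card N → (∀ x, σ (σ x) = x) → β ^ r = 1 →
    (∀ x, β (σ (β x)) = σ x) → (∀ x, β x = x → x = 1) → Nat.card N = Nat.card {x : N // σ x = x} ^ 2 := by
  classical
  intro k
  induction k with
  | zero =>
    intro N _ _ σ β r hk
    have := Nat.card_pos (α := N)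
    omega
  | succ k ih =>
    intro N _ _ σ β r hk hr hrodd hodd hrN hσ hβ hrel hfpf
    haveI := Fact.mk hr
    haveI : Group.IsSolvable N := S0205.result hodd
    have hsq : ∀ g : N, ∃ w : N, w * w = g := fun g => by
      obtain ⟨i, hi⟩ := sq_pow (odd_of_card hodd g)
      exact ⟨g ^ i, by rw [← pow_add, ← two_mul, pow_mul]; exact hi.symm⟩
    have hodd2 : ∀ x : N, x⁻¹ = x → x = 1 := fun x h => eq_one_of_inv_eq (odd_of_card hodd x) h
    by_cases hab : ∀ x y : N, x * y = y * x
    · -- abelian case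
      have hc : ∀ x y : N, Commute x y := hab
      let fI := {x : N // σ x = x⁻¹}
      let fC := {x : N // σ x = x}
      have hCI : Nat.card N = Nat.card fC * Nat.card fI := by
        rw [← Nat.card_prod]
        refine (Nat.card_congr (Equiv.ofBijective (fun p : fC × fI => (p.1 : N) * p.2) ⟨?_, fun g => ?_⟩)).symm
        · rintro ⟨⟨c, hc1⟩, ⟨i, hi⟩⟩ ⟨⟨c', hc1'⟩, ⟨i', hi'⟩⟩ (h : c * i = c' * i')
          have h' := congrArg σ h
          rw [map_mul, map_mul, hc1, hi, hc1', hi'] at h'
          have e1 : (c'⁻¹ * c)⁻¹ = c'⁻¹ * c := by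
            have a : c'⁻¹ * c = i' * i⁻¹ := by rw [eq_mul_inv_iff_mul_eq, mul_assoc, h, inv_mul_cancel_left]
            have a' : c'⁻¹ * c = i'⁻¹ * i := by
              rw [← mul_inv_eq_iff_eq_mul, mul_assoc, h', inv_mul_cancel_left]
            rw [a, mul_inv_rev, inv_inv, hab, ← a', a]
          have e2 := hodd2 _ e1
          rw [inv_mul_eq_one] at e2
          subst e2
          exact Prod.ext rfl (Subtype.ext (mul_left_cancel h))
        · obtain ⟨w, rfl⟩ := hsq g
          refine ⟨(⟨w * σ w, by rw [map_mul, hσ, hab]⟩, ⟨w * (σ w)⁻¹, by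
            rw [map_mul, map_inv, hσ, mul_inv_rev, inv_inv]⟩), ?_⟩
          show w * σ w * (w * (σ w)⁻¹) = w * w
          rw [hab w (σ w)⁻¹, ← mul_assoc, mul_inv_cancel_right]
      have hC2 : Nat.card fC * Nat.card fC ≤ Nat.card N := by
        rw [← Nat.card_prod]
        refine Nat.card_le_card_of_injective (fun p : fC × fC => (p.1 : N) * β p.2) ?_
        rintro ⟨⟨c, hc1⟩, ⟨d, hd⟩⟩ ⟨⟨c', hc1'⟩, ⟨d', hd'⟩⟩ (h : c * β d = c' * β d')
        have hz : β (d' * d⁻¹) = c'⁻¹ * c := by
          rw [map_mul, map_inv, mul_inv_eq_iff_eq_mul, mul_assoc, h, inv_mul_cancel_left]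
        have hfix : σ (β (d' * d⁻¹)) = β (d' * d⁻¹) := by rw [hz, map_mul, map_inv, hc1, hc1']
        have h2 : β (β (d' * d⁻¹)) = d' * d⁻¹ := by
          conv_lhs => rw [← hfix, hrel, map_mul, map_inv, hd, hd']
        have e1 := hfpf _ (fix_of_sq β hrodd hβ h2)
        rw [e1, map_one, eq_comm, inv_mul_eq_one] at hz
        rw [mul_inv_eq_one] at e1
        subst e1 hz
        rfl
      have hI2 : Nat.card fI * Nat.card fI ≤ Nat.card N := by
        rw [← Nat.card_prod]
        refine Nat.card_le_card_of_injective (fun p : fI × fI => (p.1 : N) * β p.2) ?_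
        rintro ⟨⟨c, hc1⟩, ⟨d, hd⟩⟩ ⟨⟨c', hc1'⟩, ⟨d', hd'⟩⟩ (h : c * β d = c' * β d')
        have hz : β (d' * d⁻¹) = c'⁻¹ * c := by
          rw [map_mul, map_inv, mul_inv_eq_iff_eq_mul, mul_assoc, h, inv_mul_cancel_left]
        have hfix : σ (β (d' * d⁻¹)) = (β (d' * d⁻¹))⁻¹ := by
          rw [hz, map_mul, map_inv, hc1, hc1', mul_inv_rev, hab, inv_inv]
        have h2 : β (β (d' * d⁻¹)) = d' * d⁻¹ := by
          have hs : σ (d' * d⁻¹) = (d' * d⁻¹)⁻¹ := by
            rw [map_mul, map_inv, hd, hd', mul_inv_rev, inv_inv, hab]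
          have h3 := hrel (d' * d⁻¹)
          rw [hfix, hs, map_inv, inv_inj] at h3
          exact h3
        have e1 := hfpf _ (fix_of_sq β hrodd hβ h2)
        rw [e1, map_one, eq_comm, inv_mul_eq_one] at hz
        rw [mul_inv_eq_one] at e1
        subst e1 hz
        rfl
      rw [hCI] at hC2 hI2
      have pC : 0 < Nat.card fC := @Nat.card_pos _ ⟨⟨1, map_one σ⟩⟩ _
      have pI : 0 < Nat.card fI := @Nat.card_pos _ ⟨⟨1, by rw [map_one, inv_one]⟩⟩ _
      have e1 := Nat.le_of_mul_le_mul_left hC2 pC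
      have e2 := Nat.le_of_mul_le_mul_right hI2 pI
      rw [hCI, le_antisymm e2 e1, ← pow_two]
    · -- reduce modulo the derived subgroup
      set D := commutator N with hD
      haveI : Nontrivial N := by
        by_contra h
        rw [not_nontrivial_iff_subsingleton] at h
        exact hab fun x y => Subsingleton.elim _ _
      have hDtop : D < ⊤ := Group.IsSolvable.commutator_lt_top_of_nontrivial N
      have hDbot : D ≠ ⊥ := fun h => hab fun x y => by
        have := Subgroup.commutator_mem_commutator (mem_top x) (mem_top y)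
        rw [← _root_.commutator_def, ← hD, h, mem_bot] at this
        exact commutatorElement_eq_one_iff_mul_comm.1 this
      have hmapD : ∀ φ : MulAut N, D.map φ.toMonoidHom = D := fun φ => Subgroup.characteristic_iff_map_eq.1 inferInstance φ
      have hDodd : Odd (Nat.card D) := hodd.of_dvd_nat (card_subgroup_dvd_card _)
      have hDr : ¬ r ∣ Nat.card D := fun h => hrN (h.trans (card_subgroup_dvd_card _))
      have hD2 : ¬ 2 ∣ Nat.card D := fun h => (Nat.not_even_iff_odd.2 hDodd) (even_iff_two_dvd.2 h)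
      have hσ2 : σ ^ 2 = 1 := MulEquiv.ext fun x => by rw [pow_two, MulAut.mul_apply, hσ]; rfl
      -- the subgroup
      let σD := restr σ D (hmapD σ)
      let βD := restr β D (hmapD β)
      have hcardlt : Nat.card D < Nat.card N := by
        refine lt_of_le_of_ne (Subgroup.card_le_card_group D) fun h => hDtop.ne (Subgroup.eq_top_of_card_eq D h)
      have hβD : βD ^ r = 1 := by
        have key : ∀ (i : ℕ) (x : D), (((βD ^ i) x : D) : N) = (β ^ i) x := by
          intro i
          induction i with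
          | zero => intro x; rfl
          | succ i ihi =>
            intro x
            rw [pow_succ', pow_succ', MulAut.mul_apply, MulAut.mul_apply, restr_val, ihi]
        exact MulEquiv.ext fun x => Subtype.ext (by rw [key, hβ]; rfl)
      have ihD := ih D σD βD (by omega) hr hrodd hDodd hDr (fun x => Subtype.ext (hσ x)) hβD
        (fun x => Subtype.ext (hrel x)) (fun x hx => Subtype.ext (hfpf x (congrArg Subtype.val hx)))
      -- the quotient
      let σQ : MulAut (N ⧸ D) := QuotientGroup.congr D D σ (hmapD σ)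
      let βQ : MulAut (N ⧸ D) := QuotientGroup.congr D D β (hmapD β)
      have hσQ : ∀ x : N, σQ (x : N ⧸ D) = ((σ x : N) : N ⧸ D) := fun x => rfl
      have hβQ : ∀ x : N, βQ (x : N ⧸ D) = ((β x : N) : N ⧸ D) := fun x => rfl
      have hβQr : βQ ^ r = 1 := by
        have key : ∀ (i : ℕ) (x : N), (βQ ^ i) (x : N ⧸ D) = (((β ^ i) x : N) : N ⧸ D) := by
          intro i
          induction i with
          | zero => intro x; rfl
          | succ i ihi => intro x; rw [pow_succ', pow_succ', MulAut.mul_apply, MulAut.mul_apply, ihi, hβQ]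
        refine MulEquiv.ext fun z => ?_
        induction z using QuotientGroup.induction_on with
        | H x => rw [key, hβ]; rfl
      have hqcard : Nat.card D * Nat.card (N ⧸ D) = Nat.card N := D.card_mul_index
      have hqlt : Nat.card (N ⧸ D) < Nat.card N := by
        have h1 : 1 < Nat.card D := (Subgroup.one_lt_card_iff_ne_bot D).2 hDbot
        have h2 : 0 < Nat.card (N ⧸ D) := Nat.card_pos
        nlinarith
      have ihQ := ih (N ⧸ D) σQ βQ (by omega) hr hrodd (hodd.of_dvd_nat (Dvd.intro_left _ hqcard))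
        (fun h => hrN (h.trans (Dvd.intro_left _ hqcard)))
        (fun z => by induction z using QuotientGroup.induction_on with | H x => rw [hσQ, hσQ, hσ])
        hβQr
        (fun z => by induction z using QuotientGroup.induction_on with | H x => rw [hβQ, hσQ, hβQ, hrel, hσQ])
        (fun z hz => by
          induction z using QuotientGroup.induction_on with
          | H x =>
            rw [hβQ, eq_comm, QuotientGroup.eq] at hz
            obtain ⟨m, hm, he⟩ := fixed_coset β hβ D (fun m hm => hmapD β ▸ ⟨m, hm, rfl⟩) hDr hz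
            rw [QuotientGroup.eq_one_iff]
            have := hfpf _ he
            rw [mul_eq_one_iff_eq_inv] at this
            rw [this]; exact inv_mem hm)
      -- the fixed points
      let FN : Subgroup N := (σ.toMonoidHom).eqLocus (MonoidHom.id N)
      let f : FN →* N ⧸ D := (QuotientGroup.mk' D).comp FN.subtype
      have hker : Nat.card f.ker = Nat.card {x : D // σD x = x} := by
        refine Nat.card_congr ⟨fun x => ⟨⟨((x : FN) : N), (QuotientGroup.eq_one_iff _).1 x.2⟩, Subtype.ext x.1.2⟩,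
          fun x => ⟨⟨((x : D) : N), congrArg Subtype.val x.2⟩, (QuotientGroup.eq_one_iff _).2 (x : D).2⟩,
          fun x => rfl, fun x => rfl⟩
      have hrange : Nat.card f.range = Nat.card {z : N ⧸ D // σQ z = z} := by
        refine Nat.card_congr (Equiv.subtypeEquivRight fun z => ⟨?_, ?_⟩)
        · rintro ⟨x, rfl⟩
          show σQ ((x : N) : N ⧸ D) = ((x : N) : N ⧸ D)
          rw [hσQ]
          exact congrArg _ x.2
        · intro hz
          induction z using QuotientGroup.induction_on with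
          | H x =>
            rw [hσQ, eq_comm, QuotientGroup.eq] at hz
            obtain ⟨m, hm, he⟩ := fixed_coset σ hσ2 D (fun m hm => hmapD σ ▸ ⟨m, hm, rfl⟩) hD2 hz
            exact ⟨⟨x * m, he⟩, by
              show ((x * m : N) : N ⧸ D) = _
              rw [QuotientGroup.eq, mul_inv_rev, inv_mul_cancel_right]; exact inv_mem hm⟩
      have hFN : Nat.card {x : N // σ x = x} = Nat.card f.ker * Nat.card f.range := by
        rw [← Subgroup.index_ker f, Subgroup.card_mul_index]
        rfl
      rw [← hqcard, ihD, ihQ, hFN, hker, hrange, mul_pow]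

/-- An automorphism of prime order fixing only the identity: the order is `1` modulo that prime. -/
theorem card_mod [Finite O] (β : MulAut O) {r : ℕ} [hr : Fact r.Prime] (hβ : β ^ r = 1)
    (hfpf : ∀ x, β x = x → x = 1) : Nat.card O ≡ 1 [MOD r] := by
  classical
  haveI := Fintype.ofFinite O
  have he : (β.toEquiv : Equiv.Perm O) ^ r ^ 1 = 1 := by
    rw [pow_one]
    ext x
    rw [Equiv.Perm.coe_pow]
    show (β : O → O)^[r] x = x
    rw [← iterate_pow, hβ]; rfl
  have h := Equiv.Perm.card_compl_support_modEq (p := r) (n := 1) he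
  have hs : (Equiv.Perm.support (β.toEquiv : Equiv.Perm O))ᶜ = {1} := by
    ext x
    simp only [Finset.mem_compl, Equiv.Perm.mem_support, not_not, Finset.mem_singleton]
    exact ⟨fun hx => hfpf x hx, fun hx => by rw [hx]; exact map_one β⟩
  rw [hs, Finset.card_singleton] at h
  rw [Nat.card_eq_fintype_card]
  exact h.symm

end Cfsg.Agent.Char.ReeOrder
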