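import Mathlib
import Cfsg.Agent.S0948
import Cfsg.Agent.S4479
import Cfsg.Agent.Lib.Char.DihedralPrincipal
import Cfsg.Agent.Lib.Char.LocalRing

/-!
# Groups with a four group as Sylow subgroup whose involution centralisers are `V × B`

The order formula of the principal block bounds the index of `N(V)` by five; hence `B` is normal.
-/

set_option autoImplicit false
set_option linter.unusedSectionVars false

namespace Cfsg.Agent.Char.ReeOrder

open Subgroup

universe u

set_option synthInstance.maxSize 1000 in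
theorem alt_five_cent : ∀ x y : alternatingGroup (Fin 5), x ≠ 1 → x ^ 3 = 1 → y * x = x * y →
    y = 1 ∨ y = x ∨ y = x * x := by
  decide +kernel

/-- A group with Sylow two-subgroup `V = ⟨t, s⟩`, `C(t) = V × B`, and a rotation of `V` normalising `B`. -/
structure KX (X : Type u) [Group X] where
  t : X
  s : X
  rho : X
  V : Subgroup X
  B : Subgroup X
  mem_V : ∀ x, x ∈ V ↔ x = 1 ∨ x = t ∨ x = s ∨ x = t * s
  ht : orderOf t = 2
  hs : orderOf s = 2
  hts : t ≠ s
  hV : ¬ 2 ∣ V.index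
  hcent : ∀ x, x * t = t * x → ∃ v ∈ V, ∃ β ∈ B, x = v * β
  V_comm : ∀ x ∈ V, ∀ y ∈ V, x * y = y * x
  VB : ∀ v ∈ V, ∀ β ∈ B, v * β = β * v
  B_odd : Odd (Nat.card B)
  rho3 : rho ^ 3 ∈ B
  rho_t : rho * t * rho⁻¹ = s
  rho_s : rho * s * rho⁻¹ = t * s
  rho_B : ∀ β ∈ B, rho * β * rho⁻¹ ∈ B

namespace KX

variable {X : Type u} [Group X] [Finite X] (D : KX X)
include D

theorem sq_t : D.t * D.t = 1 := by rw [← pow_two, ← D.ht, pow_orderOf_eq_one]

theorem sq_s : D.s * D.s = 1 := by rw [← pow_two, ← D.hs, pow_orderOf_eq_one]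

theorem t_mem : D.t ∈ D.V := (D.mem_V _).2 (Or.inr (Or.inl rfl))

theorem s_mem : D.s ∈ D.V := (D.mem_V _).2 (Or.inr (Or.inr (Or.inl rfl)))

theorem ts_mem : D.t * D.s ∈ D.V := mul_mem D.t_mem D.s_mem

theorem ts_comm : D.t * D.s = D.s * D.t := D.V_comm _ D.t_mem _ D.s_mem

theorem t_ne : D.t ≠ 1 := fun h => by have := D.ht; rw [h, orderOf_one] at this; omega

theorem s_ne : D.s ≠ 1 := fun h => by have := D.hs; rw [h, orderOf_one] at this; omega

theorem V_sq {v : X} (hv : v ∈ D.V) : v * v = 1 := by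
  rcases (D.mem_V v).1 hv with rfl | rfl | rfl | rfl
  · exact one_mul 1
  · exact D.sq_t
  · exact D.sq_s
  · rw [mul_assoc, ← mul_assoc D.s, ← D.ts_comm, mul_assoc D.t D.s, D.sq_s, mul_one, D.sq_t]

theorem card_V : Nat.card D.V = 4 := by
  classical
  rw [show Nat.card D.V = Set.ncard (D.V : Set X) from Nat.card_coe_set_eq _,
    show (D.V : Set X) = {1, D.t, D.s, D.t * D.s} from Set.ext fun x => by
      rw [SetLike.mem_coe, D.mem_V]; simp]
  rw [Set.ncard_insert_of_notMem, Set.ncard_insert_of_notMem, Set.ncard_pair]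
  · exact fun e => D.t_ne (by simpa using e.symm)
  · rintro (e | e)
    · exact D.hts e
    · exact D.s_ne (by simpa using e)
  · rintro (e | e | e)
    · exact D.t_ne e.symm
    · exact D.s_ne e.symm
    · exact D.hts (by rw [← mul_one D.t, e, ← mul_assoc, D.sq_t, one_mul])

theorem B_odd' {x : X} (hx : x ∈ D.B) : Odd (orderOf x) := by
  rw [← Subgroup.orderOf_mk x hx]
  exact D.B_odd.of_dvd_nat (orderOf_dvd_natCard _)

theorem disj {v : X} (hv : v ∈ D.V) (hvB : v ∈ D.B) : v = 1 := by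
  have h2 : v ^ 2 = 1 := by rw [pow_two, D.V_sq hv]
  rcases (Nat.dvd_prime Nat.prime_two).1 (orderOf_dvd_of_pow_eq_one h2) with e | e
  · exact orderOf_eq_one_iff.1 e
  · exact absurd (e ▸ D.B_odd' hvB) (by norm_num)

/-- `C(t) = V × B`. -/
theorem card_cent : Nat.card (centralizer ({D.t} : Set X)) = 4 * Nat.card D.B := by
  let e : D.V × D.B → centralizer ({D.t} : Set X) := fun p => ⟨p.1 * p.2, mem_centralizer_singleton_iff.2 (by
    rw [mul_assoc, ← D.VB D.t D.t_mem p.2 p.2.2, ← mul_assoc, D.V_comm p.1 p.1.2 D.t D.t_mem, mul_assoc])⟩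
  have he : Function.Bijective e := by
    refine ⟨?_, fun c => ?_⟩
    · rintro ⟨v, β⟩ ⟨v', β'⟩ h
      have h' : (v : X) * β = v' * β' := congrArg Subtype.val h
      have h1 : (v' : X)⁻¹ * v = (β' : X) * (β : X)⁻¹ := by
        rw [eq_mul_inv_iff_mul_eq, mul_assoc, h', inv_mul_cancel_left]
      have h2 := D.disj (mul_mem (inv_mem v'.2) v.2) (h1 ▸ mul_mem β'.2 (inv_mem β.2))
      rw [inv_mul_eq_one] at h2
      have h3 : (β : X) = β' := by rw [h2] at h'; exact mul_left_cancel h'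
      exact Prod.ext (Subtype.ext h2.symm) (Subtype.ext h3)
    · obtain ⟨v, hv, β, hβ, h⟩ := D.hcent c (mem_centralizer_singleton_iff.1 c.2)
      exact ⟨(⟨v, hv⟩, ⟨β, hβ⟩), Subtype.ext h.symm⟩
  rw [← Nat.card_congr (Equiv.ofBijective e he), Nat.card_prod, D.card_V]

theorem rho_ts : D.rho * (D.t * D.s) * D.rho⁻¹ = D.t := by
  rw [show D.rho * (D.t * D.s) * D.rho⁻¹ = D.rho * D.t * D.rho⁻¹ * (D.rho * D.s * D.rho⁻¹) by group, D.rho_t,
    D.rho_s, ← mul_assoc, ← D.ts_comm, mul_assoc, D.sq_s, mul_one]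

theorem rho_V {v : X} (hv : v ∈ D.V) : D.rho * v * D.rho⁻¹ ∈ D.V := by
  rcases (D.mem_V v).1 hv with rfl | rfl | rfl | rfl
  · simp
  · rw [D.rho_t]; exact D.s_mem
  · rw [D.rho_s]; exact D.ts_mem
  · rw [D.rho_ts]; exact D.t_mem

theorem rho_fix {v : X} (hv : v ∈ D.V) (h : D.rho * v = v * D.rho) : v = 1 := by
  have e : D.rho * v * D.rho⁻¹ = v := by rw [h, mul_inv_cancel_right]
  rcases (D.mem_V v).1 hv with rfl | rfl | rfl | rfl
  · rfl
  · exact absurd (D.rho_t.symm.trans e) D.hts.symm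
  · exact absurd (mul_eq_right.1 (D.rho_s.symm.trans e)) D.t_ne
  · exact absurd (left_eq_mul.1 (D.rho_ts.symm.trans e)) D.s_ne

theorem rho_ne : D.rho ≠ 1 := fun h => by
  have := D.rho_t
  rw [h, one_mul, inv_one, mul_one] at this
  exact D.hts this

theorem ord_rho : Odd (orderOf D.rho) := by
  refine ((by decide : Odd 3).mul (D.B_odd' D.rho3)).of_dvd_nat (orderOf_dvd_of_pow_eq_one ?_)
  rw [pow_mul, pow_orderOf_eq_one]

/-- `N(V)`. -/
def N : Subgroup X := normalizer (D.V : Set X)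

theorem rho_N : D.rho ∈ D.N := by
  rw [N, mem_normalizer_iff]
  intro y
  refine ⟨D.rho_V, fun hy => ?_⟩
  have h2 := D.rho_V (D.rho_V hy)
  rw [show D.rho * (D.rho * (D.rho * y * D.rho⁻¹) * D.rho⁻¹) * D.rho⁻¹ =
    (D.rho * (D.rho * D.rho)) * y * (D.rho * (D.rho * D.rho))⁻¹ by group, ← pow_two, ← pow_succ'] at h2
  have e := D.VB _ h2 _ D.rho3
  rw [inv_mul_cancel_right] at e
  rw [mul_left_cancel (show D.rho ^ 3 * y = D.rho ^ 3 * (D.rho ^ 3 * y * (D.rho ^ 3)⁻¹) from e)]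
  exact h2

theorem B_N : D.B ≤ D.N := by
  intro β hβ
  rw [N, mem_normalizer_iff]
  intro y
  constructor
  · intro hy
    rw [← D.VB y hy β hβ, mul_inv_cancel_right]
    exact hy
  · intro hy
    have h := D.VB _ hy β hβ
    rw [inv_mul_cancel_right] at h
    have : y = β * y * β⁻¹ := mul_left_cancel h
    rw [this]
    exact hy

theorem V_N : D.V ≤ D.N := Subgroup.le_normalizer

/-- `N(V) = (V × B)⟨ρ⟩`. -/
theorem N_elt {n : X} (hn : n ∈ D.N) : ∃ i : ℕ, i < 3 ∧ ∃ v ∈ D.V, ∃ β ∈ D.B, n = D.rho ^ i * (v * β) := by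
  have key : ∀ i : ℕ, i < 3 → D.rho ^ i * D.t * (D.rho ^ i)⁻¹ = n * D.t * n⁻¹ →
      ∃ i : ℕ, i < 3 ∧ ∃ v ∈ D.V, ∃ β ∈ D.B, n = D.rho ^ i * (v * β) := by
    intro i hi h
    obtain ⟨v, hv, β, hβ, e⟩ := D.hcent ((D.rho ^ i)⁻¹ * n) (by
      calc (D.rho ^ i)⁻¹ * n * D.t = (D.rho ^ i)⁻¹ * (n * D.t * n⁻¹) * n := by group
        _ = D.t * ((D.rho ^ i)⁻¹ * n) := by rw [← h]; group)
    exact ⟨i, hi, v, hv, β, hβ, by rw [← e, mul_inv_cancel_left]⟩
  have h := (mem_normalizer_iff.1 hn D.t).1 D.t_mem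
  rcases (D.mem_V _).1 h with e | e | e | e
  · exact absurd (conj_eq_one_iff.1 e) D.t_ne
  · exact key 0 (by norm_num) (by rw [e]; group)
  · exact key 1 (by norm_num) (by rw [pow_one, D.rho_t, e])
  · refine key 2 (by norm_num) ?_
    rw [pow_two, show D.rho * D.rho * D.t * (D.rho * D.rho)⁻¹ = D.rho * (D.rho * D.t * D.rho⁻¹) * D.rho⁻¹ by group,
      D.rho_t, D.rho_s, e]

theorem card_N : Nat.card D.N = 12 * Nat.card D.B := by
  let e : Fin 3 × D.V × D.B → D.N := fun p =>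
    ⟨D.rho ^ (p.1 : ℕ) * (p.2.1 * p.2.2), mul_mem (pow_mem D.rho_N _) (mul_mem (D.V_N p.2.1.2) (D.B_N p.2.2.2))⟩
  have he : Function.Bijective e := by
    refine ⟨?_, fun c => ?_⟩
    · rintro ⟨i, v, β⟩ ⟨j, v', β'⟩ h
      have h' : D.rho ^ (i : ℕ) * ((v : X) * β) = D.rho ^ (j : ℕ) * ((v' : X) * β') := congrArg Subtype.val h
      have hfix : ∀ (w : D.V) (γ : D.B), (w : X) * γ * D.t * ((w : X) * γ)⁻¹ = D.t := fun w γ => by
        rw [mul_assoc (w : X), ← D.VB D.t D.t_mem γ γ.2, ← mul_assoc, D.V_comm w w.2 D.t D.t_mem]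
        group
      have hij : i = j := by
        have e1 : D.rho ^ (i : ℕ) * D.t * (D.rho ^ (i : ℕ))⁻¹ = D.rho ^ (j : ℕ) * D.t * (D.rho ^ (j : ℕ))⁻¹ := by
          calc _ = D.rho ^ (i : ℕ) * ((v : X) * β) * D.t * (D.rho ^ (i : ℕ) * ((v : X) * β))⁻¹ := by
                conv_lhs => rw [← hfix v β]
                group
            _ = D.rho ^ (j : ℕ) * ((v' : X) * β') * D.t * (D.rho ^ (j : ℕ) * ((v' : X) * β'))⁻¹ := by rw [h']
            _ = _ := by
                conv_rhs => rw [← hfix v' β']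
                group
        have r2 : D.rho ^ 2 * D.t * (D.rho ^ 2)⁻¹ = D.t * D.s := by
          rw [pow_two, show D.rho * D.rho * D.t * (D.rho * D.rho)⁻¹ = D.rho * (D.rho * D.t * D.rho⁻¹) * D.rho⁻¹ by
            group, D.rho_t, D.rho_s]
        have n1 : D.t * D.s ≠ D.t := fun e => D.s_ne (mul_eq_left.1 e)
        have n2 : D.t * D.s ≠ D.s := fun e => D.t_ne (mul_eq_right.1 e)
        fin_cases i <;> fin_cases j <;>
          simp [r2, D.rho_t, D.hts, D.hts.symm, n1, n1.symm, n2, n2.symm] at e1 ⊢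
      subst hij
      have h1 := mul_left_cancel h'
      have h2 : (v' : X)⁻¹ * v = (β' : X) * (β : X)⁻¹ := by
        rw [eq_mul_inv_iff_mul_eq, mul_assoc, h1, inv_mul_cancel_left]
      have h3 := D.disj (mul_mem (inv_mem v'.2) v.2) (h2 ▸ mul_mem β'.2 (inv_mem β.2))
      rw [inv_mul_eq_one] at h3
      have h4 : (β : X) = β' := by rw [h3] at h1; exact mul_left_cancel h1
      exact Prod.ext rfl (Prod.ext (Subtype.ext h3.symm) (Subtype.ext h4))
    · obtain ⟨i, hi, v, hv, β, hβ, h⟩ := D.N_elt c.2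
      exact ⟨(⟨i, hi⟩, ⟨v, hv⟩, ⟨β, hβ⟩), Subtype.ext h.symm⟩
  rw [← Nat.card_congr (Equiv.ofBijective e he), Nat.card_prod, Nat.card_prod, D.card_V,
    Nat.card_eq_fintype_card, Fintype.card_fin]
  ring

theorem card_X : Nat.card X = 12 * Nat.card D.B * D.N.index := by rw [← D.card_N, Subgroup.card_mul_index]

theorem index_odd : Odd D.N.index := by
  refine Nat.not_even_iff_odd.1 fun h => D.hV ?_
  exact (even_iff_two_dvd.1 h).trans (Subgroup.index_dvd_of_le D.V_N)

/-- The order formula. -/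
theorem index_lt : D.N.index < 6 := by
  classical
  haveI : Fact (Nat.Prime 2) := ⟨Nat.prime_two⟩
  haveI := Fintype.ofFinite X
  obtain ⟨M, hM⟩ := exists_pModular Nat.prime_two
  set P : Sylow 2 X := (IsPGroup.of_card (n := 2) (by rw [D.card_V]; norm_num)).toSylow D.hV
  have hP : (P : Subgroup X) = D.V := rfl
  have hK : IsKleinFour (P : Subgroup X) := by
    rw [hP]
    refine IsKleinFour.mk D.card_V ?_
    haveI : Nontrivial D.V := Finite.one_lt_card_iff_nontrivial.1 (by rw [D.card_V]; norm_num)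
    exact Monoid.exponent_eq_prime_iff Nat.prime_two |>.2 fun v hv =>
      orderOf_eq_prime (by rw [pow_two]; exact Subtype.ext (D.V_sq v.2)) hv
  have hone : ∀ x y : X, orderOf x = 2 → orderOf y = 2 → IsConj x y := by
    have key : ∀ x : X, orderOf x = 2 → IsConj D.t x := by
      intro x hx
      obtain ⟨T, hT⟩ := (IsPGroup.of_card (p := 2) (n := 1) (G := zpowers x) (by
        rw [Nat.card_zpowers, hx, pow_one])).exists_le_sylow
      obtain ⟨c, hc⟩ := MulAction.exists_smul_eq X T P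
      have h1 : c * x * c⁻¹ ∈ (P : Subgroup X) := by
        rw [← hc, Sylow.coe_subgroup_smul]; exact ⟨x, hT (mem_zpowers x), rfl⟩
      refine IsConj.trans ?_ (isConj_iff.2 ⟨c, rfl⟩ : IsConj x (c * x * c⁻¹)).symm
      rw [hP] at h1
      rcases (D.mem_V _).1 h1 with e | e | e | e
      · exact absurd (conj_eq_one_iff.1 e) fun e => by rw [e, orderOf_one] at hx; omega
      · rw [e]
      · rw [e]; exact isConj_iff.2 ⟨_, D.rho_t⟩
      · rw [e]; exact (isConj_iff.2 ⟨_, D.rho_ts⟩).symm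
    exact fun x y hx hy => (key x hx).symm.trans (key y hy)
  obtain ⟨z2, z3, z4, ε, hε, h2, h3, d23, d24, d34, hB, hval, hd2, hd3, hd4, -⟩ := S0948.result M hM P hK hone
  have h4 : (z4 : X → ℂ) ≠ fun _ => 1 := by
    intro e
    have := (hval D.t D.ht).2.2
    rw [e] at this
    norm_num at this
  have hG : Nat.card X = 4 * (3 * Nat.card D.B * D.N.index) := by rw [D.card_X]; ring
  have hg₀ : Odd (3 * Nat.card D.B * D.N.index) := ((by decide : Odd 3).mul D.B_odd).mul D.index_odd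
  have hnc : ¬ ∃ O : Subgroup X, O.Normal ∧ Nat.card O = 3 * Nat.card D.B * D.N.index := by
    rintro ⟨O, hO, hcard⟩
    haveI := hO
    have hidx : O.index = 4 := by
      have h := O.card_mul_index
      rw [hcard, hG, mul_comm 4] at h
      exact Nat.eq_of_mul_eq_mul_left hg₀.pos h
    have hrO : D.rho ∈ O := by
      rw [← QuotientGroup.eq_one_iff]
      refine orderOf_eq_one_iff.1 (Nat.dvd_one.1 ?_)
      have d1 : orderOf (QuotientGroup.mk' O D.rho) ∣ orderOf D.rho := orderOf_map_dvd _ _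
      have d2 : orderOf (QuotientGroup.mk' O D.rho) ∣ 2 ^ 2 := by
        rw [show (2 : ℕ) ^ 2 = 4 by norm_num, ← hidx]
        exact orderOf_dvd_natCard _
      exact (Nat.Coprime.pow_right 2 (Nat.coprime_two_right.2 D.ord_rho)).gcd_eq_one ▸ Nat.dvd_gcd d1 d2
    have hx : D.rho * D.t * D.rho⁻¹ * D.t⁻¹ ∈ O := by
      rw [show D.rho * D.t * D.rho⁻¹ * D.t⁻¹ = D.rho * (D.t * D.rho⁻¹ * D.t⁻¹) by group]
      exact mul_mem hrO (hO.conj_mem _ (inv_mem hrO) D.t)
    rw [D.rho_t, inv_eq_of_mul_eq_one_left D.sq_t] at hx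
    have hodd : Odd (orderOf (D.s * D.t)) := by
      rw [← Subgroup.orderOf_mk _ hx]
      exact (hcard ▸ hg₀).of_dvd_nat (orderOf_dvd_natCard _)
    have h2 : (D.s * D.t) ^ 2 = 1 := by rw [pow_two]; exact D.V_sq (mul_mem D.s_mem D.t_mem)
    rcases (Nat.dvd_prime Nat.prime_two).1 (orderOf_dvd_of_pow_eq_one h2) with e | e
    · exact D.hts (by
        have := orderOf_eq_one_iff.1 e
        rw [mul_eq_one_iff_eq_inv, inv_eq_of_mul_eq_one_left D.sq_t] at this
        exact this.symm)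
    · exact absurd (e ▸ hodd) (by norm_num)
  have hv := hval D.t D.ht
  have hform := S4479.result M hM _ hg₀ hG hnc P D.t (by rw [hP]; exact D.t_mem) D.ht z2 z3 z4 1 ε (-1) hB
    ⟨h2, h3, h4, d23, d24, d34⟩ ⟨Or.inl rfl, hε, Or.inr rfl⟩ ⟨by exact_mod_cast hv.1, hv.2.1, by exact_mod_cast hv.2.2⟩
  have hCP : centralizer ((P : Subgroup X) : Set X) = centralizer ({D.t} : Set X) := by
    refine le_antisymm (centralizer_le (Set.singleton_subset_iff.2 (by rw [SetLike.mem_coe, hP]; exact D.t_mem))) ?_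
    intro x hx
    obtain ⟨v, hv, β, hβ, rfl⟩ := D.hcent x (mem_centralizer_singleton_iff.1 hx)
    rw [mem_centralizer_iff]
    intro y hy
    rw [SetLike.mem_coe, hP] at hy
    rw [← mul_assoc, D.V_comm y hy v hv, mul_assoc, D.VB y hy β hβ, mul_assoc]
  rw [hCP, D.card_cent] at hform
  set c2 := charDegree (z2 : X → ℂ) with hc2
  set c3 := charDegree (z3 : X → ℂ) with hc3
  set c4 := charDegree (z4 : X → ℂ) with hc4
  have p2 : (1 : ℚ) ≤ c2 := by exact_mod_cast charDegree_pos' z2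
  have p3 : (c3 : ℚ) / ((c3 : ℚ) + ε) ≤ 3 / 2 := by
    have q3 : (1 : ℚ) ≤ c3 := by exact_mod_cast charDegree_pos' z3
    rcases hε with rfl | rfl
    · rw [div_le_iff₀ (by push_cast; linarith)]; push_cast; linarith
    · have q3' : 3 ≤ c3 := by
        have := charDegree_pos' z3
        obtain ⟨k, hk⟩ := hd3
        omega
      have : (3 : ℚ) ≤ c3 := by exact_mod_cast q3'
      rw [div_le_iff₀ (by push_cast; linarith)]; push_cast; linarith
  have p3' : 0 < (c3 : ℚ) / ((c3 : ℚ) + ε) := by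
    have q3 : (1 : ℚ) ≤ c3 := by exact_mod_cast charDegree_pos' z3
    rcases hε with rfl | rfl
    · push_cast; positivity
    · have q3' : 3 ≤ c3 := by
        have := charDegree_pos' z3
        obtain ⟨k, hk⟩ := hd3
        omega
      have : (3 : ℚ) ≤ c3 := by exact_mod_cast q3'
      push_cast
      apply div_pos <;> linarith
  have p4 : (c4 : ℚ) / ((c4 : ℚ) + -1) ≤ 3 / 2 ∧ 0 < (c4 : ℚ) / ((c4 : ℚ) + -1) := by
    have q4 : 3 ≤ c4 := by
      have := charDegree_pos' z4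
      obtain ⟨k, hk⟩ := hd4
      omega
    have : (3 : ℚ) ≤ c4 := by exact_mod_cast q4
    constructor
    · rw [div_le_iff₀ (by linarith)]; linarith
    · apply div_pos <;> linarith
  have p2' : (c2 : ℚ) / ((c2 : ℚ) + 1) < 1 := by rw [div_lt_one (by linarith)]; linarith
  have p2'' : 0 < (c2 : ℚ) / ((c2 : ℚ) + 1) := by apply div_pos <;> linarith
  have hb : (0 : ℚ) < Nat.card D.B := by exact_mod_cast Nat.card_pos
  rw [D.card_X] at hform
  push_cast at hform
  set Z2 := (c2 : ℚ) / ((c2 : ℚ) + 1) with hZ2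
  set Z3 := (c3 : ℚ) / ((c3 : ℚ) + ε) with hZ3
  set Z4 := (c4 : ℚ) / ((c4 : ℚ) + -1) with hZ4
  have hsplit : (c2 : ℚ) * c3 * c4 / (((c2 : ℚ) + 1) * ((c3 : ℚ) + ε) * ((c4 : ℚ) + -1)) = Z2 * Z3 * Z4 := by
    rw [hZ2, hZ3, hZ4, div_mul_div_comm, div_mul_div_comm]
  rw [hsplit] at hform
  have hlt : Z2 * Z3 * Z4 < 9 / 4 := by
    have h34 : Z3 * Z4 ≤ 9 / 4 := by
      calc Z3 * Z4 ≤ 3 / 2 * (3 / 2) := mul_le_mul p3 p4.1 p4.2.le (by norm_num)
        _ = 9 / 4 := by norm_num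
    have h34' : 0 < Z3 * Z4 := mul_pos p3' p4.2
    calc Z2 * Z3 * Z4 = Z2 * (Z3 * Z4) := by ring
      _ < 1 * (Z3 * Z4) := mul_lt_mul_of_pos_right p2' h34'
      _ ≤ 9 / 4 := by linarith
  have hid : 12 * (D.N.index : ℚ) = 8 * (Z2 * Z3 * Z4) * 4 := by
    field_simp at hform
    nlinarith [hform, hb]
  have : (D.N.index : ℚ) < 6 := by linarith
  exact_mod_cast this

theorem mem_B_of_fix {x : X} (ho : Odd (orderOf x)) (hx : x * D.t = D.t * x) : x ∈ D.B := by
  obtain ⟨v, hv, β, hβ, e⟩ := D.hcent x hx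
  obtain ⟨k, hk⟩ := ho
  have h2 : x ^ 2 = β ^ 2 := by
    rw [e, (show Commute v β from D.VB v hv β hβ).mul_pow, pow_two v, D.V_sq hv, one_mul]
  have : x = (x ^ 2) ^ (k + 1) := by
    rw [← pow_mul, show 2 * (k + 1) = orderOf x + 1 by omega, pow_succ, pow_orderOf_eq_one, one_mul]
  rw [this, h2]
  exact pow_mem (pow_mem hβ 2) _

/-- Either `X = N(V)`, or `X / B` is the alternating group of degree five. -/
theorem cases :
    D.N = ⊤ ∨ ∃ f : X →* Equiv.Perm (Fin 5), f.ker = D.B ∧ f.range = alternatingGroup (Fin 5) := by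
  classical
  obtain ⟨m, hm⟩ : ∃ m, D.N.index = m := ⟨_, rfl⟩
  have hlt := D.index_lt
  have hodd := D.index_odd
  rw [hm] at hlt hodd
  rcases (show m = 1 ∨ m = 3 ∨ m = 5 by obtain ⟨k, rfl⟩ := hodd; omega) with h1 | h35
  · exact Or.inl (Subgroup.index_eq_one.1 (hm.trans h1))
  refine Or.inr ?_
  set K0 := D.N.normalCore with hK0
  have hK0N : K0 ≤ D.N := D.N.normalCore_le
  have hK0odd : ∀ v ∈ K0, v ∈ D.V → v = 1 := by
    intro v hvK hvV
    by_contra hv1
    have hall : D.V ≤ K0 := by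
      have step : ∀ w, w ∈ K0 → D.rho * w * D.rho⁻¹ ∈ K0 := fun w hw => (D.N.normalCore_normal).conj_mem w hw _
      have hts : D.t ∈ K0 ∧ D.s ∈ K0 := by
        rcases (D.mem_V v).1 hvV with rfl | rfl | rfl | rfl
        · exact absurd rfl hv1
        · exact ⟨hvK, D.rho_t ▸ step _ hvK⟩
        · have h2 := step _ hvK
          rw [D.rho_s] at h2
          exact ⟨by have := mul_mem h2 hvK; rwa [mul_assoc, D.sq_s, mul_one] at this, hvK⟩
        · have h2 := step _ hvK
          rw [D.rho_ts] at h2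
          exact ⟨h2, D.rho_t ▸ step _ h2⟩
      intro w hw
      rcases (D.mem_V w).1 hw with rfl | rfl | rfl | rfl
      exacts [one_mem _, hts.1, hts.2, mul_mem hts.1 hts.2]
    have htop : D.N = ⊤ := by
      rw [eq_top_iff]
      intro x _
      rw [N, mem_normalizer_iff]
      have hfwd : ∀ x w : X, w ∈ D.V → x * w * x⁻¹ ∈ D.V := by
        intro x w hw
        obtain ⟨i, hi, v', hv', β, hβ, e⟩ := D.N_elt (hK0N ((D.N.normalCore_normal).conj_mem w (hall hw) x))
        by_cases hw1 : w = 1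
        · simp [hw1]
        have hsq : (x * w * x⁻¹) * (x * w * x⁻¹) = 1 := by
          rw [show x * w * x⁻¹ * (x * w * x⁻¹) = x * (w * w) * x⁻¹ by group, D.V_sq hw]; group
        have hmem : x * w * x⁻¹ ∈ D.N := hK0N ((D.N.normalCore_normal).conj_mem w (hall hw) x)
        haveI : (D.V.subgroupOf D.N).Normal := Subgroup.normal_in_normalizer
        have hVN : ¬ 2 ∣ (D.V.subgroupOf D.N).index := fun h => D.hV (h.trans (Dvd.intro _ (Subgroup.relIndex_mul_index D.V_N)))
        have hp : IsPGroup 2 (zpowers (⟨_, hmem⟩ : D.N)) := by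
          refine IsPGroup.of_card (n := 1) ?_
          rw [Nat.card_zpowers, pow_one]
          refine orderOf_eq_prime (by rw [pow_two]; exact Subtype.ext hsq) fun e => hw1 ?_
          exact conj_eq_one_iff.1 (congrArg Subtype.val e)
        haveI : Fact (Nat.Prime 2) := ⟨Nat.prime_two⟩
        obtain ⟨T, hT⟩ := hp.exists_le_sylow
        have hV2 : IsPGroup 2 D.V := IsPGroup.of_card (n := 2) (by rw [D.card_V]; norm_num)
        let P : Sylow 2 D.N := (hV2.of_equiv (subgroupOfEquivOfLe D.V_N).symm).toSylow hVN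
        haveI : (P : Subgroup D.N).Normal := ‹(D.V.subgroupOf D.N).Normal›
        haveI := Sylow.unique_of_normal P ‹_›
        have : T = P := Subsingleton.elim _ _
        exact mem_subgroupOf.1 (this ▸ hT (mem_zpowers _))
      intro y
      refine ⟨hfwd x y, fun hy => ?_⟩
      have := hfwd x⁻¹ _ hy
      rwa [inv_inv, show x⁻¹ * (x * y * x⁻¹) * x = y by group] at this
    rw [htop, Subgroup.index_top] at hm
    omega
  have hK0B : K0 ≤ D.B := by
    intro x hx
    have hc : x * D.t = D.t * x := by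
      have hcom : x * D.t * x⁻¹ * D.t⁻¹ ∈ K0 := by
        rw [show x * D.t * x⁻¹ * D.t⁻¹ = x * (D.t * x⁻¹ * D.t⁻¹) by group]
        exact mul_mem hx ((D.N.normalCore_normal).conj_mem _ (inv_mem hx) D.t)
      have := hK0odd _ hcom (mul_mem ((mem_normalizer_iff.1 (hK0N hx) D.t).1 D.t_mem) (inv_mem D.t_mem))
      rwa [mul_inv_eq_one, mul_inv_eq_iff_eq_mul] at this
    refine D.mem_B_of_fix ?_ hc
    refine Nat.not_even_iff_odd.1 fun h => ?_
    obtain ⟨v, hv, β, hβ, e⟩ := D.hcent x hc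
    have hcomm : Commute v β := D.VB v hv β hβ
    have hpow : x ^ orderOf β = v := by
      rw [e, hcomm.mul_pow, pow_orderOf_eq_one, mul_one]
      obtain ⟨k, hk⟩ := D.B_odd' hβ
      rw [hk, pow_succ, pow_mul, pow_two, D.V_sq hv, one_pow, one_mul]
    have hv1 : v = 1 := hK0odd v (hpow ▸ pow_mem hx _) hv
    rw [e, hv1, one_mul] at h
    exact (Nat.not_even_iff_odd.2 (D.B_odd' hβ)) h
  let f0 := MulAction.toPermHom X (X ⧸ D.N)
  have hker0 : f0.ker = K0 := (Subgroup.normalCore_eq_ker D.N).symm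
  haveI : Fintype (X ⧸ D.N) := Fintype.ofFinite _
  have hcardq : Fintype.card (X ⧸ D.N) = m := by rw [← Nat.card_eq_fintype_card, ← Subgroup.index, hm]
  let e : X ⧸ D.N ≃ Fin m := Fintype.equivFinOfCardEq hcardq
  let f : X →* Equiv.Perm (Fin m) := e.permCongrHom.toMonoidHom.comp f0
  have hker : f.ker = K0 := by
    ext x
    rw [← hker0, MonoidHom.mem_ker, MonoidHom.mem_ker]
    show e.permCongrHom (f0 x) = 1 ↔ _
    exact MulEquiv.map_eq_one_iff _
  have hrange : Nat.card f.range * Nat.card K0 = 12 * Nat.card D.B * m := by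
    rw [← hker, ← Subgroup.index_ker, mul_comm, Subgroup.card_mul_index, D.card_X, hm]
  have hle := Subgroup.card_le_of_le hK0B
  have hdvd : Nat.card f.range ∣ Nat.factorial m := by
    have := card_subgroup_dvd_card f.range
    rwa [Nat.card_eq_fintype_card (α := Equiv.Perm (Fin m)), Fintype.card_perm, Fintype.card_fin] at this
  have hub := Nat.le_of_dvd (Nat.factorial_pos m) hdvd
  have hbpos : 0 < Nat.card D.B := Nat.card_pos
  rcases h35 with rfl | rfl
  · exfalso
    have h' := Nat.mul_le_mul hub hle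
    rw [hrange, show Nat.factorial 3 = 6 from rfl] at h'
    omega
  refine ⟨f, ?_, ?_⟩
  · rw [hker]
    obtain ⟨k, hk⟩ := Subgroup.card_dvd_of_le hK0B
    have hkodd : Odd k := D.B_odd.of_dvd_nat ⟨Nat.card K0, by rw [hk]; ring⟩
    have h' : Nat.card f.range = 60 * k := by
      refine Nat.eq_of_mul_eq_mul_right (Nat.card_pos (α := K0)) ?_
      rw [hrange, hk]; ring
    rw [show Nat.factorial 5 = 120 from rfl, h'] at hub
    have hk1 : k = 1 := by obtain ⟨j, rfl⟩ := hkodd; omega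
    exact Subgroup.eq_of_le_of_card_ge hK0B (by rw [hk, hk1, mul_one])
  · obtain ⟨k, hk⟩ := Subgroup.card_dvd_of_le hK0B
    have hkodd : Odd k := D.B_odd.of_dvd_nat ⟨Nat.card K0, by rw [hk]; ring⟩
    have h' : Nat.card f.range = 60 * k := by
      refine Nat.eq_of_mul_eq_mul_right (Nat.card_pos (α := K0)) ?_
      rw [hrange, hk]; ring
    rw [show Nat.factorial 5 = 120 from rfl, h'] at hub
    have hk1 : k = 1 := by obtain ⟨j, rfl⟩ := hkodd; omega
    apply Equiv.Perm.eq_alternatingGroup_of_index_eq_two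
    have h2 := f.range.card_mul_index
    rw [h', hk1, Nat.card_eq_fintype_card (α := Equiv.Perm (Fin 5)), Fintype.card_perm, Fintype.card_fin,
      show Nat.factorial 5 = 120 from rfl] at h2
    omega

theorem B_normal : D.B.Normal := by
  rcases D.cases with h | ⟨f, hf, -⟩
  · refine ⟨fun β hβ x => ?_⟩
    obtain ⟨i, -, v, hv, γ, hγ, rfl⟩ := D.N_elt (show x ∈ D.N by rw [h]; trivial)
    have h1 : v * γ * β * (v * γ)⁻¹ ∈ D.B := by
      rw [show v * γ * β * (v * γ)⁻¹ = v * (γ * β * γ⁻¹) * v⁻¹ by group,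
        D.VB v hv _ (mul_mem (mul_mem hγ hβ) (inv_mem hγ)), mul_inv_cancel_right]
      exact mul_mem (mul_mem hγ hβ) (inv_mem hγ)
    have hr : ∀ (n : ℕ), ∀ y ∈ D.B, D.rho ^ n * y * (D.rho ^ n)⁻¹ ∈ D.B := by
      intro n
      induction n with
      | zero => intro y hy; simpa using hy
      | succ n ih =>
        intro y hy
        rw [pow_succ', show D.rho * D.rho ^ n * y * (D.rho * D.rho ^ n)⁻¹ =
          D.rho * (D.rho ^ n * y * (D.rho ^ n)⁻¹) * D.rho⁻¹ by group]
        exact D.rho_B _ (ih y hy)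
    have := hr i _ h1
    rwa [show D.rho ^ i * (v * γ * β * (v * γ)⁻¹) * (D.rho ^ i)⁻¹ =
      D.rho ^ i * (v * γ) * β * (D.rho ^ i * (v * γ))⁻¹ by group] at this
  · exact hf ▸ MonoidHom.normal_ker f

/-- The centraliser of the rotation. -/
theorem cent_rho {x : X} (hx : x * D.rho = D.rho * x) :
    ∃ β ∈ D.B, β * D.rho = D.rho * β ∧ ∃ i : ℕ, x = β * D.rho ^ i := by
  have hri : ∀ (i : ℕ) (β : X), β * D.rho ^ i = x → β * D.rho = D.rho * β := by
    intro i β e
    rw [show β = x * (D.rho ^ i)⁻¹ by rw [← e, mul_inv_cancel_right]]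
    exact ((show Commute x D.rho from hx).mul_left ((Commute.refl D.rho).pow_left i).inv_left).eq
  rcases D.cases with h | ⟨f, hf, hr⟩
  · obtain ⟨i, -, v, hv, γ, hγ, e⟩ := D.N_elt (show x ∈ D.N by rw [h]; trivial)
    have hvg : (v * γ) * D.rho = D.rho * (v * γ) := by
      rw [show v * γ = (D.rho ^ i)⁻¹ * x by rw [e, inv_mul_cancel_left]]
      exact ((((Commute.refl D.rho).pow_left i).inv_left).mul_left (show Commute x D.rho from hx)).eq
    have hv' : v * (D.rho * v * D.rho⁻¹)⁻¹ = D.rho * γ * D.rho⁻¹ * γ⁻¹ := by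
      have hc : v * γ = γ * v := D.VB v hv γ hγ
      calc v * (D.rho * v * D.rho⁻¹)⁻¹ = γ⁻¹ * (v * γ * D.rho) * v⁻¹ * D.rho⁻¹ := by
            rw [hc]; group
        _ = γ⁻¹ * (D.rho * (γ * v)) * v⁻¹ * D.rho⁻¹ := by rw [hvg, hc]
        _ = γ⁻¹ * (D.rho * γ * D.rho⁻¹) := by group
        _ = D.rho * γ * D.rho⁻¹ * γ⁻¹ := by
            have hm := D.rho_B γ hγ
            obtain ⟨v', hv', β', hβ', e'⟩ := D.hcent (γ⁻¹ * (D.rho * γ * D.rho⁻¹)) (by
              have c1 : Commute D.t γ := D.VB D.t D.t_mem γ hγ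
              have c2 : Commute D.t (D.rho * γ * D.rho⁻¹) := D.VB D.t D.t_mem _ hm
              exact ((c1.inv_right).mul_right c2).symm.eq)
            have hBc : ∀ a ∈ D.B, ∀ b ∈ D.B, v * (D.rho * v * D.rho⁻¹)⁻¹ = a⁻¹ * b → a⁻¹ * b = b * a⁻¹ := by
              intro a ha b hb e
              have := D.disj (mul_mem hv (inv_mem (D.rho_V hv))) (e ▸ mul_mem (inv_mem ha) hb)
              rw [e, inv_mul_eq_one] at this
              rw [this, mul_inv_cancel, inv_mul_cancel]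
            refine hBc γ hγ _ hm ?_
            calc v * (D.rho * v * D.rho⁻¹)⁻¹ = γ⁻¹ * (v * γ * D.rho) * v⁻¹ * D.rho⁻¹ := by
                  rw [hc]; group
              _ = γ⁻¹ * (D.rho * (γ * v)) * v⁻¹ * D.rho⁻¹ := by rw [hvg, hc]
              _ = _ := by group
    have h1 := D.disj (mul_mem hv (inv_mem (D.rho_V hv))) (hv' ▸ mul_mem (D.rho_B γ hγ) (inv_mem hγ))
    rw [mul_inv_eq_one] at h1
    have hv1 := D.rho_fix hv (mul_inv_eq_iff_eq_mul.1 h1.symm)
    rw [hv1, one_mul] at e hvg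
    exact ⟨γ, hγ, hvg, i, by rw [e, ((show Commute γ D.rho from hvg).pow_right i).eq]⟩
  · have hfr : f D.rho ≠ 1 := fun e => by
      have hB : D.rho ∈ D.B := hf ▸ MonoidHom.mem_ker.2 e
      have h1 := D.VB D.t D.t_mem _ hB
      have h2 := D.rho_t
      rw [← h1, mul_inv_cancel_right] at h2
      exact D.hts h2
    have mem : ∀ y, f y ∈ alternatingGroup (Fin 5) := fun y => hr ▸ ⟨y, rfl⟩
    have h3 := alt_five_cent ⟨_, mem D.rho⟩ ⟨_, mem x⟩ (fun e => hfr (congrArg Subtype.val e))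
      (Subtype.ext (by show f D.rho ^ 3 = 1; rw [← map_pow]; exact MonoidHom.mem_ker.1 (hf.symm ▸ D.rho3)))
      (Subtype.ext (by show f x * f D.rho = f D.rho * f x; rw [← map_mul, hx, map_mul]))
    have fin : ∀ i : ℕ, f x = f D.rho ^ i → ∃ β ∈ D.B, β * D.rho = D.rho * β ∧ ∃ i : ℕ, x = β * D.rho ^ i := by
      intro i hi
      refine ⟨x * (D.rho ^ i)⁻¹, hf ▸ MonoidHom.mem_ker.2 (by rw [map_mul, map_inv, map_pow, hi, mul_inv_cancel]),
        hri i _ (inv_mul_cancel_right _ _), i, (inv_mul_cancel_right _ _).symm⟩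
    rcases h3 with e | e | e
    · exact fin 0 (by rw [pow_zero]; exact congrArg Subtype.val e)
    · exact fin 1 (by rw [pow_one]; exact congrArg Subtype.val e)
    · exact fin 2 (by rw [pow_two]; exact congrArg Subtype.val e)

theorem not_27_dvd (hb : Nat.card D.B = 3) : ¬ 27 ∣ Nat.card X := by
  rw [D.card_X, hb]
  have h := D.index_lt
  have ho := D.index_odd
  intro hd
  have hne : D.N.index ≠ 3 := by
    intro h3
    rcases D.cases with htop | ⟨f, hf, hr⟩
    · rw [htop, Subgroup.index_top] at h3; omega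
    · have := Subgroup.index_ker f
      rw [hf, hr] at this
      have hi := D.B.card_mul_index
      rw [this, D.card_X, h3, Nat.card_eq_fintype_card (α := alternatingGroup (Fin 5))] at hi
      have h60 : Fintype.card (alternatingGroup (Fin 5)) = 60 := by decide +kernel
      rw [h60, hb] at hi
      omega
  obtain ⟨k, hk⟩ := ho
  omega

end KX

end Cfsg.Agent.Char.ReeOrder
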