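import Cfsg.Agent.Lib.Char.ReeOrder.LocalBasic
import Cfsg.Agent.Lib.Char.ReeOrder.LocalKlein
import Cfsg.Agent.S0058

/-!
# The centraliser of an element of `BG`

If `ρ` moves `b` then `C(b) ≤ C(t)`. If it fixes `b` then `BG` is normal in `C(b)`, the elements of `C(b)`
centralising `ρ` lie in `BG⟨ρ⟩`, and `b` is fused in `BG` only to its inverse.
-/

set_option autoImplicit false
set_option linter.unusedSectionVars false

namespace Cfsg.Agent.Char.ReeOrder

open Subgroup Cfsg.Agent.Char.ReeThree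

universe u v

namespace LCfg

variable {G : Type u} [Group G] [Finite G] {F : Type v} [Field F] [Fintype F] {L : LCfg G F}

theorem t_ne_s : L.t ≠ L.s := fun e => L.S.t_not_mem (by
  show L.t ∈ L.S.K
  rw [e]
  exact L.D.s.2)

namespace Rot

variable (R : L.Rot)

theorem rho_ts : R.rho * (L.t * L.s) * R.rho⁻¹ = L.t := by
  rw [show R.rho * (L.t * L.s) * R.rho⁻¹ = R.rho * L.t * R.rho⁻¹ * (R.rho * L.s * R.rho⁻¹) by group, R.rho_t,
    R.rho_s, ← mul_assoc, ← L.ts_comm, mul_assoc, L.sq_s, mul_one]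

/-- Conjugation by `ρ` preserves `BG`. -/
theorem rho_B {β : G} (hβ : β ∈ L.BG) : R.rho * β * R.rho⁻¹ ∈ L.BG := by
  refine L.odd_CV ?_ ?_ ?_
  · calc R.rho * β * R.rho⁻¹ * L.t = R.rho * β * R.rho⁻¹ * (R.rho * (L.t * L.s) * R.rho⁻¹) := by rw [R.rho_ts]
      _ = R.rho * (β * (L.t * L.s)) * R.rho⁻¹ := by group
      _ = R.rho * ((L.t * L.s) * β) * R.rho⁻¹ := by rw [L.V_BG (mul_mem L.t_mem_V L.s_mem_V) hβ]
      _ = R.rho * (L.t * L.s) * R.rho⁻¹ * (R.rho * β * R.rho⁻¹) := by group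
      _ = _ := by rw [R.rho_ts]
  · calc R.rho * β * R.rho⁻¹ * L.s = R.rho * β * R.rho⁻¹ * (R.rho * L.t * R.rho⁻¹) := by rw [R.rho_t]
      _ = R.rho * (β * L.t) * R.rho⁻¹ := by group
      _ = R.rho * (L.t * β) * R.rho⁻¹ := by rw [L.BG_t hβ]
      _ = R.rho * L.t * R.rho⁻¹ * (R.rho * β * R.rho⁻¹) := by group
      _ = _ := by rw [R.rho_t]
  · rw [show R.rho * β * R.rho⁻¹ = MulAut.conj R.rho β from rfl, MulEquiv.orderOf_eq]
    exact L.BG_odd hβ

theorem rho_pow_B {β : G} (hβ : β ∈ L.BG) : ∀ n : ℕ, R.rho ^ n * β * (R.rho ^ n)⁻¹ ∈ L.BG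
  | 0 => by simpa using hβ
  | n + 1 => by
    rw [pow_succ', show R.rho * R.rho ^ n * β * (R.rho * R.rho ^ n)⁻¹ =
      R.rho * (R.rho ^ n * β * (R.rho ^ n)⁻¹) * R.rho⁻¹ by group]
    exact R.rho_B (rho_pow_B hβ n)

/-- `u` inverts `BG`. -/
theorem u_inv {β : G} (hβ : β ∈ L.BG) : R.u * β * R.u⁻¹ = β⁻¹ := by
  rcases L.cent_V R.ut R.us with ⟨v, hv, γ, hγ, e⟩ | ⟨-, h⟩
  · exfalso
    have h2 := R.u2
    rw [e, show v * γ * (v * γ) = v * (γ * v) * γ by group, ← L.V_BG hv hγ, ← mul_assoc v, L.V_sq hv, one_mul] at h2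
    have hγ1 := eq_one_of_inv_eq (L.BG_odd hγ) (inv_eq_of_mul_eq_one_left h2)
    rw [hγ1, mul_one] at e
    exact R.uV (e ▸ hv)
  · exact h β hβ

theorem u_inv' : R.u⁻¹ = R.u := inv_eq_of_mul_eq_one_left R.u2

theorem rho_ne : R.rho ≠ 1 := fun h => by
  have := R.rho_t
  rw [h, one_mul, inv_one, mul_one] at this
  exact L.t_ne_s this

theorem ord_rho : orderOf R.rho = 3 :=
  haveI := Fact.mk Nat.prime_three
  orderOf_eq_prime R.rho3 R.rho_ne

end Rot

theorem no_swap {c : G} (hc : c * L.t = L.t * c) : c * L.s * c⁻¹ ≠ L.t * L.s := by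
  intro h
  apply L.S.not_both L.D.s.2
  show L.t * L.s ∈ L.S.K
  rw [← h]
  rcases L.S.split (L.S.mem_C.2 hc) with hk | hk
  · exact mul_mem (mul_mem hk L.D.s.2) (inv_mem hk)
  · have hm := mul_mem (mul_mem hk L.D.s.2) (inv_mem hk)
    rw [h]
    rwa [show L.S.t * c * L.s * (L.S.t * c)⁻¹ = L.t * (c * L.s * c⁻¹) * L.t⁻¹ by group, h,
      inv_eq_of_mul_eq_one_left L.sq_t, mul_assoc, mul_assoc, ← L.ts_comm, ← mul_assoc L.t L.t, L.sq_t,
      one_mul] at hm

/-- `N(V) = C(V)⟨ρ⟩`. -/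
theorem norm_V (R : L.Rot) {n : G} (hn : ∀ v ∈ L.V, n * v * n⁻¹ ∈ L.V) :
    ∃ i < 3, ∃ c : G, c * L.t = L.t * c ∧ c * L.s = L.s * c ∧ n = R.rho ^ i * c := by
  have key : ∀ i : ℕ, i < 3 → n * L.t * n⁻¹ = R.rho ^ i * L.t * (R.rho ^ i)⁻¹ →
      ∃ i < 3, ∃ c : G, c * L.t = L.t * c ∧ c * L.s = L.s * c ∧ n = R.rho ^ i * c := by
    intro i hi e
    set c := (R.rho ^ i)⁻¹ * n with hcdef
    have hct : c * L.t = L.t * c := by
      calc c * L.t = (R.rho ^ i)⁻¹ * (n * L.t * n⁻¹) * n := by rw [hcdef]; group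
        _ = L.t * c := by rw [e, hcdef]; group
    have hpow : ∀ j : ℕ, ∀ v ∈ L.V, R.rho ^ j * v * (R.rho ^ j)⁻¹ ∈ L.V := by
      intro j
      induction j with
      | zero => intro v hv; simpa using hv
      | succ j ih =>
        intro v hv
        rw [pow_succ', show R.rho * R.rho ^ j * v * (R.rho * R.rho ^ j)⁻¹ =
          R.rho * (R.rho ^ j * v * (R.rho ^ j)⁻¹) * R.rho⁻¹ by group]
        rcases ih v hv with h | h | h | h <;> rw [h]
        · simp
        · rw [R.rho_t]; exact L.s_mem_V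
        · rw [R.rho_s]; exact mul_mem L.t_mem_V L.s_mem_V
        · rw [R.rho_ts]; exact L.t_mem_V
    have hcs : c * L.s * c⁻¹ ∈ L.V := by
      have h1 := hn _ L.s_mem_V
      have h3 : (R.rho ^ i)⁻¹ = R.rho ^ (2 * i) := by
        apply inv_eq_of_mul_eq_one_left
        rw [← pow_add, show 2 * i + i = 3 * i by ring, pow_mul, R.rho3, one_pow]
      have h4 := hpow (2 * i) _ h1
      rwa [← h3, inv_inv, show (R.rho ^ i)⁻¹ * (n * L.s * n⁻¹) * R.rho ^ i = c * L.s * c⁻¹ by rw [hcdef]; group] at h4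
    refine ⟨i, hi, c, hct, ?_, by rw [hcdef, mul_inv_cancel_left]⟩
    rcases hcs with h | h | h | h
    · exact absurd (conj_eq_one_iff.1 h) L.s_ne_one
    · exfalso
      have e1 : c * L.t * c⁻¹ = L.t := by rw [hct, mul_inv_cancel_right]
      have e2 : L.s = L.t := mul_left_cancel (mul_right_cancel (h.trans e1.symm))
      exact L.t_ne_s e2.symm
    · exact mul_inv_eq_iff_eq_mul.1 h
    · exact absurd h (L.no_swap hct)
  rcases hn _ L.t_mem_V with h | h | h | h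
  · exact absurd (conj_eq_one_iff.1 h) L.t_ne_one
  · exact key 0 (by norm_num) (by rw [h]; group)
  · exact key 1 (by norm_num) (by rw [h, pow_one, R.rho_t])
  · refine key 2 (by norm_num) ?_
    rw [h, pow_two, show R.rho * R.rho * L.t * (R.rho * R.rho)⁻¹ = R.rho * (R.rho * L.t * R.rho⁻¹) * R.rho⁻¹ by group,
      R.rho_t, R.rho_s]

theorem cent_V_act {c : G} (hct : c * L.t = L.t * c) (hcs : c * L.s = L.s * c) {b : G} (hb : b ∈ L.BG) :
    c * b * c⁻¹ = b ∨ c * b * c⁻¹ = b⁻¹ := by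
  rcases L.cent_V hct hcs with ⟨v, hv, γ, hγ, e⟩ | ⟨-, h⟩
  · left
    rw [e, show v * γ * b * (v * γ)⁻¹ = v * (γ * b * γ⁻¹) * v⁻¹ by group, L.BG_comm hγ hb, mul_inv_cancel_right,
      L.V_BG hv hb, mul_inv_cancel_right]
  · exact Or.inr (h b hb)

theorem V_le_cent {b : G} (hb : b ∈ L.BG) : L.V ≤ centralizer ({b} : Set G) :=
  fun _ hv => mem_centralizer_singleton_iff.2 (L.V_BG hv hb)

theorem card_V_pgroup : IsPGroup 2 L.V := fun v => ⟨1, Subtype.ext (by
  rw [Subgroup.coe_pow, pow_one, pow_two]; exact L.V_sq v.2)⟩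

/-- A two-group of `C(b)` containing `V` is `V`. -/
theorem two_eq_V {b : G} (hb : b ∈ L.BG) (hb1 : b ≠ 1) {P : Subgroup G} (hP : IsPGroup 2 P) (hV : L.V ≤ P)
    (hPb : P ≤ centralizer ({b} : Set G)) : P = L.V := by
  refine le_antisymm (fun x hx => ?_) hV
  obtain ⟨v, hv, β, hβ, e⟩ := L.cent_bt hb hb1 (L.two_comm hP hx (hV L.t_mem_V))
    (mem_centralizer_singleton_iff.1 (hPb hx))
  obtain ⟨k, hk⟩ := hP ⟨x, hx⟩
  have hk' : x ^ 2 ^ k = 1 := congrArg Subtype.val hk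
  have hxp : x ^ 2 ^ (k + 1) = 1 := by rw [pow_succ, pow_mul, hk', one_pow]
  have hβk : β ^ 2 ^ (k + 1) = 1 := by
    rw [e, (show Commute v β from L.V_BG hv hβ).mul_pow, pow_succ', pow_mul v, pow_two v, L.V_sq hv, one_pow,
      one_mul] at hxp
    rwa [pow_succ']
  obtain ⟨j, -, hj⟩ := (Nat.dvd_prime_pow Nat.prime_two).1 (orderOf_dvd_of_pow_eq_one hβk)
  have ho := L.BG_odd hβ
  rw [hj] at ho
  rcases j with _ | j
  · rw [pow_zero, orderOf_eq_one_iff] at hj
    rw [e, hj, mul_one]; exact hv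
  · exact absurd ho (Nat.not_odd_iff_even.2 ⟨2 ^ j, by rw [pow_succ]; ring⟩)

theorem V_index {b : G} (hb : b ∈ L.BG) (hb1 : b ≠ 1) :
    ¬ 2 ∣ (L.V.subgroupOf (centralizer ({b} : Set G))).index := by
  haveI : Fact (Nat.Prime 2) := ⟨Nat.prime_two⟩
  obtain ⟨P, hP⟩ := (L.card_V_pgroup.of_equiv (subgroupOfEquivOfLe (L.V_le_cent hb)).symm).exists_le_sylow
  have hle : L.V ≤ (P : Subgroup (centralizer ({b} : Set G))).map (centralizer ({b} : Set G)).subtype :=
    fun v hv => ⟨⟨v, L.V_le_cent hb hv⟩, hP (mem_subgroupOf.2 hv), rfl⟩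
  have he := L.two_eq_V hb hb1 (P.2.map _) hle (Subgroup.map_subtype_le _)
  rw [show L.V.subgroupOf (centralizer ({b} : Set G)) = (P : Subgroup _) by
    rw [← he, Subgroup.subgroupOf, Subgroup.comap_map_eq_self_of_injective (Subgroup.subtype_injective _)]]
  exact P.not_dvd_index

/-- If `ρ` moves `b` then `C(b) ≤ C(t)`. -/
theorem cent_le_of_moved (R : L.Rot) {b : G} (hb : b ∈ L.BG) (hb1 : b ≠ 1) (hr : R.rho * b ≠ b * R.rho) :
    centralizer ({b} : Set G) ≤ centralizer ({L.S.t} : Set G) := by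
  classical
  haveI : Fact (Nat.Prime 2) := ⟨Nat.prime_two⟩
  set X := centralizer ({b} : Set G) with hX
  set P : Sylow 2 X := (L.card_V_pgroup.of_equiv (subgroupOfEquivOfLe (L.V_le_cent hb)).symm).toSylow
    (L.V_index hb hb1) with hPdef
  have hP : (P : Subgroup X) = L.V.subgroupOf X := rfl
  have hmemP : ∀ x : X, x ∈ (P : Subgroup X) ↔ (x : G) ∈ L.V := fun x => by rw [hP, mem_subgroupOf]
  have hN : normalizer (((P : Subgroup X)) : Set X) ≤ centralizer ((P : Subgroup X) : Set X) := by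
    intro n hn
    have hnv : ∀ v ∈ L.V, (n : G) * v * (n : G)⁻¹ ∈ L.V := fun v hv =>
      (hmemP _).1 ((mem_normalizer_iff.1 hn ⟨v, L.V_le_cent hb hv⟩).1 ((hmemP _).2 hv))
    obtain ⟨i, hi, c, hct, hcs, e⟩ := L.norm_V R hnv
    have hnb : (n : G) * b = b * n := mem_centralizer_singleton_iff.1 n.2
    have hi0 : i = 0 := by
      by_contra hi0
      apply hr
      have h1 : R.rho ^ i * (c * b * c⁻¹) * (R.rho ^ i)⁻¹ = b := by
        rw [show R.rho ^ i * (c * b * c⁻¹) * (R.rho ^ i)⁻¹ = R.rho ^ i * c * b * (R.rho ^ i * c)⁻¹ by group, ← e, hnb,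
          mul_inv_cancel_right]
      have conj3 : R.rho * (R.rho * (R.rho * b * R.rho⁻¹) * R.rho⁻¹) * R.rho⁻¹ = b := by
        rw [show R.rho * (R.rho * (R.rho * b * R.rho⁻¹) * R.rho⁻¹) * R.rho⁻¹ =
          (R.rho * (R.rho * R.rho)) * b * (R.rho * (R.rho * R.rho))⁻¹ by group, ← pow_two, ← pow_succ', R.rho3]
        group
      have hne : b⁻¹ ≠ b := fun h => hb1 (eq_one_of_inv_eq (L.BG_odd hb) h)
      have cinv : ∀ x y : G, x * y⁻¹ * x⁻¹ = (x * y * x⁻¹)⁻¹ := fun x y => by group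
      rcases (show i = 1 ∨ i = 2 by omega) with rfl | rfl <;> rcases L.cent_V_act hct hcs hb with hc | hc <;>
        rw [hc] at h1
      · rw [pow_one] at h1
        exact mul_inv_eq_iff_eq_mul.1 h1
      · rw [pow_one, cinv, inv_eq_iff_eq_inv] at h1
        rw [h1, cinv, h1, inv_inv, h1] at conj3
        exact absurd conj3 hne
      · rw [pow_two, show R.rho * R.rho * b * (R.rho * R.rho)⁻¹ = R.rho * (R.rho * b * R.rho⁻¹) * R.rho⁻¹ by group] at h1
        rw [h1] at conj3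
        exact mul_inv_eq_iff_eq_mul.1 conj3
      · rw [pow_two, cinv, inv_eq_iff_eq_inv,
          show R.rho * R.rho * b * (R.rho * R.rho)⁻¹ = R.rho * (R.rho * b * R.rho⁻¹) * R.rho⁻¹ by group] at h1
        rw [h1, cinv, inv_eq_iff_eq_inv] at conj3
        rw [conj3, cinv, conj3, inv_inv] at h1
        exact absurd h1.symm hne
    rw [hi0, pow_zero, one_mul] at e
    rw [mem_centralizer_iff]
    intro v hv
    apply Subtype.ext
    show (v : G) * n = n * v
    rw [e]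
    rcases (hmemP v).1 hv with h | h | h | h <;> rw [h]
    · simp
    · exact hct.symm
    · exact hcs.symm
    · rw [mul_assoc, ← hcs, ← mul_assoc, ← hct, mul_assoc]
  set O := (MonoidHom.transferSylow P hN).ker
  have hcomp : O.IsComplement' (P : Subgroup X) := MonoidHom.ker_transferSylow_isComplement' P hN
  haveI : (O.Normal) := MonoidHom.normal_ker _
  have hOodd : Odd (Nat.card O) := by
    have hi := P.not_dvd_index
    rw [hcomp.index_eq_card] at hi
    rwa [← Nat.not_even_iff_odd, even_iff_two_dvd]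
  have hcentA : ∀ a : X, a ∈ (P : Subgroup X) → a ≠ 1 → ∀ o : X, o ∈ O → o * a = a * o → (o : G) ∈ L.BG := by
    intro a ha ha1 o ho hoa
    have hoo : Odd (orderOf (o : G)) := by
      rw [Subgroup.orderOf_coe, ← Subgroup.orderOf_mk o ho]
      exact hOodd.of_dvd_nat (orderOf_dvd_natCard _)
    have hob : (o : G) * b = b * o := mem_centralizer_singleton_iff.1 o.2
    have hbase : ∀ x b' : G, b' ∈ L.BG → b' ≠ 1 → Odd (orderOf x) → x * L.t = L.t * x → x * b' = b' * x →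
        x ∈ L.BG := by
      intro x b' h1 h2 h3 h4 h5
      obtain ⟨v, hv, β, hβ, e⟩ := L.cent_bt h1 h2 h4 h5
      have hx : x ^ 2 = β ^ 2 := by
        rw [e, (show Commute v β from L.V_BG hv hβ).mul_pow, pow_two v, L.V_sq hv, one_mul]
      obtain ⟨k, hk⟩ := sq_pow h3
      rw [hk, hx]
      exact pow_mem (pow_mem hβ 2) k
    have hoa' : (o : G) * (a : G) = a * o := congrArg Subtype.val hoa
    rcases (hmemP a).1 ha with h | h | h | h
    · exact absurd (Subtype.ext h) ha1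
    · exact hbase _ b hb hb1 hoo (h ▸ hoa') hob
    · rw [h] at hoa'
      have e2 : R.rho⁻¹ = R.rho ^ 2 := inv_eq_of_mul_eq_one_left (by rw [← pow_succ, R.rho3])
      have hmem := hbase (R.rho⁻¹ * o * R.rho) (R.rho⁻¹ * b * R.rho) (by
          have := R.rho_pow_B hb 2; rwa [← e2, inv_inv] at this)
        (fun h' => hb1 (by simpa [mul_eq_one_iff_eq_inv, mul_assoc, inv_mul_eq_one] using h')) (by
          rw [show R.rho⁻¹ * (o : G) * R.rho = MulAut.conj R.rho⁻¹ (o : G) by simp [MulAut.conj_apply],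
            MulEquiv.orderOf_eq]; exact hoo) (by
          calc R.rho⁻¹ * o * R.rho * L.t = R.rho⁻¹ * (o * (R.rho * L.t * R.rho⁻¹)) * R.rho := by group
            _ = R.rho⁻¹ * ((R.rho * L.t * R.rho⁻¹) * o) * R.rho := by rw [R.rho_t, hoa']
            _ = _ := by group) (by
          rw [show R.rho⁻¹ * (o : G) * R.rho * (R.rho⁻¹ * b * R.rho) = R.rho⁻¹ * (o * b) * R.rho by group, hob]
          group)
      have := R.rho_B hmem
      rwa [show R.rho * (R.rho⁻¹ * (o : G) * R.rho) * R.rho⁻¹ = o by group] at this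
    · rw [h] at hoa'
      have hmem := hbase (R.rho * o * R.rho⁻¹) (R.rho * b * R.rho⁻¹) (R.rho_B hb)
        (fun h' => hb1 (conj_eq_one_iff.1 h')) (by
          rw [show R.rho * (o : G) * R.rho⁻¹ = MulAut.conj R.rho (o : G) from rfl, MulEquiv.orderOf_eq]; exact hoo) (by
          calc R.rho * o * R.rho⁻¹ * L.t = R.rho * o * R.rho⁻¹ * (R.rho * (L.t * L.s) * R.rho⁻¹) := by rw [R.rho_ts]
            _ = R.rho * (o * (L.t * L.s)) * R.rho⁻¹ := by group
            _ = R.rho * ((L.t * L.s) * o) * R.rho⁻¹ := by rw [hoa']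
            _ = R.rho * (L.t * L.s) * R.rho⁻¹ * (R.rho * o * R.rho⁻¹) := by group
            _ = _ := by rw [R.rho_ts]) (by
          rw [show R.rho * (o : G) * R.rho⁻¹ * (R.rho * b * R.rho⁻¹) = R.rho * (o * b) * R.rho⁻¹ by group, hob]
          group)
      have := R.rho_pow_B hmem 2
      rwa [pow_two, show R.rho * R.rho * (R.rho * (o : G) * R.rho⁻¹) * (R.rho * R.rho)⁻¹ =
        (R.rho * (R.rho * R.rho)) * o * (R.rho * (R.rho * R.rho))⁻¹ by group, ← pow_two, ← pow_succ', R.rho3,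
        one_mul, inv_one, mul_one] at this
  have hPab : IsMulCommutative (P : Subgroup X) :=
    ⟨⟨fun a c => Subtype.ext (Subtype.ext (L.two_comm L.card_V_pgroup ((hmemP _).1 a.2) ((hmemP _).1 c.2)))⟩⟩
  haveI := hPab
  have hncyc : ¬ IsCyclic (P : Subgroup X) := by
    intro hc
    haveI := hc
    obtain ⟨g, hg⟩ := IsCyclic.exists_generator (α := (P : Subgroup X))
    have key : ∀ y : (P : Subgroup X), y = 1 ∨ y = g := by
      intro y
      obtain ⟨k, hk⟩ := hg y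
      have hg2 : g ^ 2 = 1 := Subtype.ext (Subtype.ext (by
        show ((g : X) : G) ^ 2 = 1
        rw [pow_two]; exact L.V_sq ((hmemP _).1 g.2)))
      simp only at hk
      rcases Int.even_or_odd k with ⟨j, rfl⟩ | ⟨j, rfl⟩
      · left; rw [← hk, ← two_mul, zpow_mul]; norm_cast; rw [hg2, one_zpow]
      · right; rw [← hk, zpow_add, zpow_one, zpow_mul]; norm_cast; rw [hg2, one_zpow, one_mul]
    have hts : L.t ≠ L.s := L.t_ne_s
    rcases key ⟨⟨L.t, L.V_le_cent hb L.t_mem_V⟩, (hmemP _).2 L.t_mem_V⟩ with ht | ht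
    · exact L.t_ne_one (congrArg (fun y : (P : Subgroup X) => ((y : X) : G)) ht)
    · rcases key ⟨⟨L.s, L.V_le_cent hb L.s_mem_V⟩, (hmemP _).2 L.s_mem_V⟩ with hs | hs
      · exact L.s_ne_one (congrArg (fun y : (P : Subgroup X) => ((y : X) : G)) hs)
      · exact hts (congrArg (fun y : (P : Subgroup X) => ((y : X) : G)) (ht.trans hs.symm))
  have hgen := S0058.result (P : Subgroup X) O hncyc
    (by rw [Subgroup.normalizer_eq_top]; exact le_top) (by
      obtain ⟨n, hn⟩ := IsPGroup.iff_card.1 P.2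
      rw [hn]
      exact Nat.Coprime.pow_left n ((Nat.coprime_two_left).2 hOodd))
  have hO : ∀ o ∈ O, (o : G) ∈ L.BG := by
    intro o ho
    have hle : O ≤ L.BG.subgroupOf X := by
      conv_lhs => rw [← hgen]
      refine iSup₂_le fun a ha => ?_
      intro x hx
      exact mem_subgroupOf.2 (hcentA a ha.1 ha.2 x hx.1 (mem_centralizer_singleton_iff.1 hx.2))
    exact mem_subgroupOf.1 (hle ho)
  intro x hx
  rw [mem_centralizer_singleton_iff]
  obtain ⟨⟨o, p⟩, hop⟩ := (hcomp.existsUnique (⟨x, hx⟩ : X)).exists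
  have e : x = ((o : X) : G) * ((p : X) : G) := (congrArg Subtype.val hop).symm
  show x * L.t = L.t * x
  rw [e, mul_assoc, L.two_comm L.card_V_pgroup ((hmemP _).1 p.2) L.t_mem_V, ← mul_assoc, L.BG_t (hO _ o.2),
    mul_assoc]

/-- Fusion of a fixed element in `BG`. -/
theorem fusion (R : L.Rot) {b : G} (hb : b ∈ L.BG) (hb1 : b ≠ 1) (hr : R.rho * b = b * R.rho) {g : G}
    (hg : g * b * g⁻¹ ∈ L.BG) : g * b * g⁻¹ = b ∨ g * b * g⁻¹ = b⁻¹ := by
  classical
  haveI : Fact (Nat.Prime 2) := ⟨Nat.prime_two⟩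
  set y := g * b * g⁻¹ with hy
  have hy1 : y ≠ 1 := fun h => hb1 (conj_eq_one_iff.1 h)
  set X := centralizer ({y} : Set G) with hX
  have hle : L.V.map (MulAut.conj g).toMonoidHom ≤ X := by
    rintro _ ⟨v, hv, rfl⟩
    rw [hX, mem_centralizer_singleton_iff, hy]
    show g * v * g⁻¹ * (g * b * g⁻¹) = g * b * g⁻¹ * (g * v * g⁻¹)
    rw [show g * v * g⁻¹ * (g * b * g⁻¹) = g * (v * b) * g⁻¹ by group, L.V_BG hv hb]
    group
  let P : Sylow 2 X := (L.card_V_pgroup.of_equiv (subgroupOfEquivOfLe (L.V_le_cent hg)).symm).toSylow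
    (L.V_index hg hy1)
  obtain ⟨T, hT⟩ :=
    ((L.card_V_pgroup.map (MulAut.conj g).toMonoidHom).of_equiv (subgroupOfEquivOfLe hle).symm).exists_le_sylow
  obtain ⟨c, hc⟩ := MulAction.exists_smul_eq X T P
  set n := (c : G) * g with hn
  have hnv : ∀ v ∈ L.V, n * v * n⁻¹ ∈ L.V := by
    intro v hv
    have h1 : (⟨g * v * g⁻¹, hle ⟨v, hv, rfl⟩⟩ : X) ∈ (T : Subgroup X) := hT (mem_subgroupOf.2 ⟨v, hv, rfl⟩)
    have h2 : c * ⟨g * v * g⁻¹, hle ⟨v, hv, rfl⟩⟩ * c⁻¹ ∈ (P : Subgroup X) := by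
      rw [← hc, Sylow.coe_subgroup_smul]; exact ⟨_, h1, rfl⟩
    rw [hn, show (c : G) * g * v * ((c : G) * g)⁻¹ = c * (g * v * g⁻¹) * (c : G)⁻¹ by group]
    exact mem_subgroupOf.1 h2
  obtain ⟨i, -, d, hdt, hds, e⟩ := L.norm_V R hnv
  have hnb : n * b * n⁻¹ = y := by
    rw [hn, show (c : G) * g * b * ((c : G) * g)⁻¹ = c * (g * b * g⁻¹) * (c : G)⁻¹ by group, ← hy,
      mem_centralizer_singleton_iff.1 c.2, mul_inv_cancel_right]
  have hcr : Commute (R.rho ^ i) b := (show Commute R.rho b from hr).pow_left i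
  rw [e, show R.rho ^ i * d * b * (R.rho ^ i * d)⁻¹ = R.rho ^ i * (d * b * d⁻¹) * (R.rho ^ i)⁻¹ by group] at hnb
  rcases L.cent_V_act hdt hds hb with h | h <;> rw [h] at hnb
  · left; rw [← hnb, hcr.eq, mul_inv_cancel_right]
  · right; rw [← hnb, hcr.inv_right.eq, mul_inv_cancel_right]

/-- The data of `C(b)` when `ρ` fixes `b`. -/
noncomputable def kx (R : L.Rot) {b : G} (hb : b ∈ L.BG) (hb1 : b ≠ 1) (hr : R.rho * b = b * R.rho) :
    KX (centralizer ({b} : Set G)) where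
  t := ⟨L.t, L.V_le_cent hb L.t_mem_V⟩
  s := ⟨L.s, L.V_le_cent hb L.s_mem_V⟩
  rho := ⟨R.rho, mem_centralizer_singleton_iff.2 hr⟩
  V := L.V.subgroupOf _
  B := L.BG.subgroupOf _
  mem_V := fun x => by
    rw [mem_subgroupOf, L.mem_V]
    exact ⟨Or.imp (fun h => Subtype.ext h) (Or.imp (fun h => Subtype.ext h) (Or.imp (fun h => Subtype.ext h) (fun h => Subtype.ext h))),
      Or.imp (fun h => congrArg Subtype.val h) (Or.imp (fun h => congrArg Subtype.val h) (Or.imp (fun h => congrArg Subtype.val h) (fun h => congrArg Subtype.val h)))⟩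
  ht := by rw [Subgroup.orderOf_mk]; exact L.S.ht
  hs := by rw [Subgroup.orderOf_mk, Subgroup.orderOf_coe, L.D.hs]
  hts := fun e => L.t_ne_s (congrArg Subtype.val e)
  hV := L.V_index hb hb1
  hcent := fun x hx => by
    obtain ⟨v, hv, β, hβ, e⟩ := L.cent_bt hb hb1 (congrArg Subtype.val hx) (mem_centralizer_singleton_iff.1 x.2)
    exact ⟨⟨v, L.V_le_cent hb hv⟩, hv, ⟨β, mem_centralizer_singleton_iff.2 (L.BG_comm hβ hb)⟩, hβ, Subtype.ext e⟩
  V_comm := fun x hx y hy => Subtype.ext (L.two_comm L.card_V_pgroup hx hy)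
  VB := fun v hv β hβ => Subtype.ext (L.V_BG hv hβ)
  B_odd := by
    rw [Nat.card_congr (subgroupOfEquivOfLe (show L.BG ≤ centralizer ({b} : Set G) from fun β hβ =>
      mem_centralizer_singleton_iff.2 (L.BG_comm hβ hb))).toEquiv, L.card_BG]
    exact L.D.b_odd
  rho3 := by
    rw [mem_subgroupOf, Subgroup.coe_pow]
    show R.rho ^ 3 ∈ L.BG
    rw [R.rho3]
    exact one_mem _
  rho_t := Subtype.ext R.rho_t
  rho_s := Subtype.ext R.rho_s
  rho_B := fun β hβ => R.rho_B hβ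

theorem B_norm (R : L.Rot) {b : G} (hb : b ∈ L.BG) (hb1 : b ≠ 1) (hr : R.rho * b = b * R.rho) {x β : G}
    (hx : x * b = b * x) (hβ : β ∈ L.BG) : x * β * x⁻¹ ∈ L.BG :=
  mem_subgroupOf.1 ((L.kx R hb hb1 hr).B_normal.conj_mem ⟨β, mem_centralizer_singleton_iff.2 (L.BG_comm hβ hb)⟩
    hβ ⟨x, mem_centralizer_singleton_iff.2 hx⟩)

theorem cent_b_rho (R : L.Rot) {b : G} (hb : b ∈ L.BG) (hb1 : b ≠ 1) (hr : R.rho * b = b * R.rho) {x : G}
    (hxb : x * b = b * x) (hxr : x * R.rho = R.rho * x) :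
    ∃ β ∈ L.BG, β * R.rho = R.rho * β ∧ ∃ i : ℕ, x = β * R.rho ^ i := by
  obtain ⟨β, hβ, h1, i, h2⟩ := (L.kx R hb hb1 hr).cent_rho
    (x := ⟨x, mem_centralizer_singleton_iff.2 hxb⟩) (Subtype.ext hxr)
  exact ⟨β, hβ, congrArg Subtype.val h1, i, congrArg Subtype.val h2⟩

theorem cent_not_27 (R : L.Rot) {b : G} (hb : b ∈ L.BG) (hb1 : b ≠ 1) (hr : R.rho * b = b * R.rho)
    (h3 : L.D.b = 3) : ¬ 27 ∣ Nat.card (centralizer ({b} : Set G)) := by
  refine (L.kx R hb hb1 hr).not_27_dvd ?_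
  show Nat.card (L.BG.subgroupOf (centralizer ({b} : Set G))) = 3
  rw [Nat.card_congr (subgroupOfEquivOfLe (show L.BG ≤ centralizer ({b} : Set G) from fun β hβ =>
    mem_centralizer_singleton_iff.2 (L.BG_comm hβ hb))).toEquiv, L.card_BG, h3]

end LCfg

end Cfsg.Agent.Char.ReeOrder
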