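import Cfsg.Agent.Lib.Char.ReeOrder.LocalRot
import Cfsg.Agent.Lib.Char.ReeOrder.LocalFpf
import Cfsg.Agent.S0219

/-!
# The rotation is not of torus or root type

If `ρ` fixes an element `b` of prime order `r` of `BG` and corresponds in `C(u)` to an element of a torus or root
group `T` of order `n` prime to `|BG|`, the fixed points of `u` in the odd part of `C(ρ)` lie in a normal subgroup
`M` with `|M/⟨ρ⟩| = (n/3)^2 ≡ 1 (mod r)`. As `n^2 ≡ 1 (mod r)` this gives `r = 2`.
-/

set_option autoImplicit false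
set_option linter.unusedSectionVars false

namespace Cfsg.Agent.Char.ReeOrder

open Subgroup Cfsg.Agent.Char.ReeThree

universe u v

namespace LCfg

variable {G : Type u} [Group G] [Finite G] {F : Type v} [Field F] [Fintype F] {L : LCfg G F}

theorem rho_pow_t (R : L.Rot) {k : ℕ} (h : R.rho ^ k * L.t = L.t * R.rho ^ k) : R.rho ^ k = 1 := by
  have e : R.rho ^ k * L.t * (R.rho ^ k)⁻¹ = L.t := by rw [h, mul_inv_cancel_right]
  rw [← pow_mod_orderOf, R.ord_rho] at e ⊢
  rcases (show k % 3 = 0 ∨ k % 3 = 1 ∨ k % 3 = 2 by omega) with hk | hk | hk <;> rw [hk] at e ⊢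
  · exact pow_zero _
  · rw [pow_one, R.rho_t] at e
    exact absurd e.symm L.t_ne_s
  · rw [pow_two, show R.rho * R.rho * L.t * (R.rho * R.rho)⁻¹ = R.rho * (R.rho * L.t * R.rho⁻¹) * R.rho⁻¹ by group,
      R.rho_t, R.rho_s] at e
    exact absurd (mul_eq_left.1 e) L.s_ne_one

theorem torus_case (R : L.Rot) {b : G} (hb : b ∈ L.BG) {r : ℕ} (hr : r.Prime) (hbr : orderOf b = r)
    (hfix : R.rho * b = b * R.rho) {g : G} (hgu : g * R.u * g⁻¹ = L.t) {T : Subgroup L.S.K}
    (hk0K : g * R.rho * g⁻¹ ∈ L.S.K) (hk0 : (⟨_, hk0K⟩ : L.S.K) ∈ T) (hTc : ∀ y ∈ T, ∀ z ∈ T, y * z = z * y)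
    (hTcent : ∀ y : L.S.K, y * ⟨_, hk0K⟩ = ⟨_, hk0K⟩ * y → y ∈ T) (hTodd : Odd (Nat.card T))
    (hTcop : Nat.Coprime (Nat.card T) L.D.b) (hTdvd : (L.D.b : ℤ) ∣ (Nat.card T : ℤ) ^ 2 - 1) : False := by
  classical
  haveI := Fact.mk hr
  haveI : Fact (Nat.Prime 2) := ⟨Nat.prime_two⟩
  set n := Nat.card T with hn
  have hb1 : b ≠ 1 := fun e => by rw [e, orderOf_one] at hbr; exact hr.one_lt.ne hbr
  have hrb : r ∣ L.D.b := by
    rw [← hbr, ← L.card_BG, ← Subgroup.orderOf_mk b hb]
    exact orderOf_dvd_natCard _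
  have hr2 : r ≠ 2 := fun e => by
    have := L.BG_odd hb
    rw [hbr, e] at this
    exact absurd this (by norm_num)
  have hrodd : Odd r := hr.odd_of_ne_two hr2
  have hrn : ¬ r ∣ n := fun h => Nat.not_coprime_of_dvd_of_dvd hr.one_lt h hrb hTcop
  -- the copy of `T` in `C(u)`
  set Tu : Subgroup G := (T.map L.S.K.subtype).map (MulAut.conj g⁻¹).toMonoidHom with hTu
  have memTu : ∀ x, x ∈ Tu ↔ ∃ y : L.S.K, y ∈ T ∧ (y : G) = g * x * g⁻¹ := by
    intro x
    constructor
    · rintro ⟨_, ⟨y, hy, rfl⟩, rfl⟩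
      exact ⟨y, hy, by simp [MulAut.conj_apply, mul_assoc]⟩
    · rintro ⟨y, hy, e⟩
      exact ⟨y, ⟨y, hy, rfl⟩, by simp [MulAut.conj_apply, e, mul_assoc]⟩
  have cardTu : Nat.card Tu = n := by
    rw [hTu, Subgroup.card_map_of_injective (MulAut.conj g⁻¹).injective,
      Subgroup.card_map_of_injective L.S.K.subtype_injective]
  have hrhoTu : R.rho ∈ Tu := (memTu _).2 ⟨_, hk0, rfl⟩
  have h3n : 3 ∣ n := by
    rw [← cardTu, ← R.ord_rho, ← Subgroup.orderOf_mk _ hrhoTu]
    exact orderOf_dvd_natCard _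
  have hTu_odd : ∀ x ∈ Tu, Odd (orderOf x) := fun x hx => odd_order_of_mem (cardTu ▸ hTodd) hx
  have hTu_u : ∀ x ∈ Tu, x * R.u = R.u * x ∧ x * R.rho = R.rho * x := by
    intro x hx
    obtain ⟨y, hy, e⟩ := (memTu x).1 hx
    constructor
    · have h := L.S.comm_t y.2
      rw [e, show L.S.t = g * R.u * g⁻¹ from hgu.symm] at h
      have h' : g * (x * R.u) * g⁻¹ = g * (R.u * x) * g⁻¹ := by
        calc g * (x * R.u) * g⁻¹ = g * x * g⁻¹ * (g * R.u * g⁻¹) := by group
          _ = g * R.u * g⁻¹ * (g * x * g⁻¹) := h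
          _ = _ := by group
      exact mul_left_cancel (mul_right_cancel h')
    · have h : (y : G) * (g * R.rho * g⁻¹) = g * R.rho * g⁻¹ * y := congrArg Subtype.val (hTc y hy _ hk0)
      rw [e] at h
      have h' : g * (x * R.rho) * g⁻¹ = g * (R.rho * x) * g⁻¹ := by
        calc g * (x * R.rho) * g⁻¹ = g * x * g⁻¹ * (g * R.rho * g⁻¹) := by group
          _ = g * R.rho * g⁻¹ * (g * x * g⁻¹) := h
          _ = _ := by group
      exact mul_left_cancel (mul_right_cancel h')
  have hcent : ∀ x : G, x * R.rho = R.rho * x → x * R.u = R.u * x → x ∈ Tu ∨ R.u * x ∈ Tu := by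
    intro x hxr hxu
    have hyt : g * x * g⁻¹ * L.t = L.t * (g * x * g⁻¹) := by
      rw [← hgu, show g * x * g⁻¹ * (g * R.u * g⁻¹) = g * (x * R.u) * g⁻¹ by group, hxu]; group
    have hyk : g * x * g⁻¹ * (g * R.rho * g⁻¹) = g * R.rho * g⁻¹ * (g * x * g⁻¹) := by
      rw [show g * x * g⁻¹ * (g * R.rho * g⁻¹) = g * (x * R.rho) * g⁻¹ by group, hxr]; group
    rcases L.S.split (L.S.mem_C.2 hyt) with h | h
    · exact Or.inl ((memTu _).2 ⟨⟨_, h⟩, hTcent _ (Subtype.ext hyk), rfl⟩)
    · refine Or.inr ((memTu _).2 ⟨⟨_, h⟩, hTcent _ (Subtype.ext ?_), ?_⟩)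
      · show L.t * (g * x * g⁻¹) * (g * R.rho * g⁻¹) = g * R.rho * g⁻¹ * (L.t * (g * x * g⁻¹))
        rw [mul_assoc, hyk, ← mul_assoc, ← L.S.comm_t hk0K, mul_assoc]
      · show L.t * (g * x * g⁻¹) = g * (R.u * x) * g⁻¹
        rw [← hgu]; group
  -- `C(ρ)` has a subgroup of index two of odd order
  set C := centralizer ({R.rho} : Set G) with hC
  let uC : C := ⟨R.u, mem_centralizer_singleton_iff.2 R.ur⟩
  let bC : C := ⟨b, mem_centralizer_singleton_iff.2 hfix.symm⟩
  have hu1 : R.u ≠ 1 := fun e => R.uV (e ▸ one_mem _)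
  have huo : orderOf uC = 2 := orderOf_eq_prime (by rw [pow_two]; exact Subtype.ext R.u2)
    fun e => hu1 (congrArg Subtype.val e)
  obtain ⟨P, hP⟩ := (IsPGroup.of_card (p := 2) (n := 1) (G := zpowers uC) (by
    rw [Nat.card_zpowers, huo, pow_one])).exists_le_sylow
  have hPeq : (P : Subgroup C) = zpowers uC := by
    refine le_antisymm (fun x hx => ?_) hP
    have hxu : (x : G) * R.u = R.u * x :=
      L.two_comm (P.2.map C.subtype) ⟨x, hx, rfl⟩ ⟨uC, hP (mem_zpowers _), rfl⟩
    have two1 : ∀ y ∈ (P : Subgroup C), Odd (orderOf (y : G)) → y = 1 := by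
      intro y hy ho
      obtain ⟨k, hk⟩ := P.2 ⟨y, hy⟩
      have hyk : (y : G) ^ 2 ^ k = 1 := congrArg (fun z : (P : Subgroup C) => ((z : C) : G)) hk
      obtain ⟨j, -, hj⟩ := (Nat.dvd_prime_pow Nat.prime_two).1 (orderOf_dvd_of_pow_eq_one hyk)
      rw [hj] at ho
      rcases j with _ | j
      · rw [pow_zero, orderOf_eq_one_iff] at hj; exact Subtype.ext hj
      · exact absurd ho (Nat.not_odd_iff_even.2 ⟨2 ^ j, by rw [pow_succ]; ring⟩)
    rcases hcent x (mem_centralizer_singleton_iff.1 x.2) hxu with h | h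
    · rw [two1 x hx (hTu_odd _ h)]; exact one_mem _
    · have he := two1 (uC * x) (mul_mem (hP (mem_zpowers _)) hx) (hTu_odd _ h)
      rw [eq_inv_of_mul_eq_one_right he]
      exact inv_mem (mem_zpowers _)
  have hPcard : Nat.card (P : Subgroup C) = 2 := by rw [hPeq, Nat.card_zpowers, huo]
  have heven : Even (Nat.card C) := even_iff_two_dvd.2 (huo ▸ orderOf_dvd_natCard uC)
  obtain ⟨H, hH⟩ := S0219.result heven P (by rw [hPeq]; exact Subgroup.isCyclic_zpowers _)
  haveI hHn : H.Normal := Subgroup.normal_of_index_eq_two hH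
  have hHodd : Odd (Nat.card H) := by
    refine Nat.not_even_iff_odd.1 fun h => P.not_dvd_index ?_
    have h2 := H.card_mul_index
    rw [hH, ← (P : Subgroup C).card_mul_index, hPcard] at h2
    obtain ⟨m, hm⟩ := h
    exact ⟨m, by omega⟩
  have hHmem : ∀ x : C, Odd (orderOf (x : G)) → x ∈ H := by
    intro x hx
    obtain ⟨k, hk⟩ := sq_pow hx
    have : x = (x ^ 2) ^ k := Subtype.ext (by rw [Subgroup.coe_pow, Subgroup.coe_pow]; exact hk)
    rw [this, pow_two]
    exact pow_mem (Subgroup.mul_self_mem_of_index_two hH x) k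
  have hHo : ∀ x : H, Odd (orderOf ((x : C) : G)) := fun x => by
    rw [Subgroup.orderOf_coe, Subgroup.orderOf_coe]; exact hHodd.of_dvd_nat (orderOf_dvd_natCard _)
  let σ : MulAut H := MulAut.conjNormal uC
  have hσv : ∀ x : H, ((σ x : C) : G) = R.u * ((x : C) : G) * R.u⁻¹ := fun x => by
    show ((MulAut.conjNormal uC x : C) : G) = _
    rw [MulAut.conjNormal_apply]
    rfl
  have hσσ : ∀ x, σ (σ x) = x := fun x => by
    apply Subtype.ext; apply Subtype.ext
    rw [hσv, hσv, R.u_inv', show R.u * (R.u * ((x : C) : G) * R.u) * R.u = R.u * R.u * ((x : C) : G) * (R.u * R.u) by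
      group, R.u2, one_mul, mul_one]
  let bH : H := ⟨bC, hHmem bC (L.BG_odd hb)⟩
  have hTuC : ∀ x ∈ Tu, x ∈ C := fun x hx => mem_centralizer_singleton_iff.2 (hTu_u x hx).2
  have hfixTu : ∀ x : H, σ x = x ↔ ((x : C) : G) ∈ Tu := by
    intro x
    constructor
    · intro h
      have h' : R.u * ((x : C) : G) * R.u⁻¹ = ((x : C) : G) := by rw [← hσv, h]
      have hxu := (mul_inv_eq_iff_eq_mul.1 h').symm
      rcases hcent _ (mem_centralizer_singleton_iff.1 (x : C).2) hxu with h1 | h1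
      · exact h1
      · exfalso
        have hmem : uC * (x : C) ∈ H := hHmem _ (hTu_odd _ h1)
        have hu : uC ∈ H := by simpa using mul_mem hmem (inv_mem x.2)
        have hd : (2 : ℕ) ∣ Nat.card H := by
          rw [← huo, ← Subgroup.orderOf_mk uC hu]; exact orderOf_dvd_natCard _
        exact (Nat.not_even_iff_odd.2 hHodd) (even_iff_two_dvd.2 hd)
    · intro h
      apply Subtype.ext; apply Subtype.ext
      rw [hσv, ← (hTu_u _ h).1, mul_inv_cancel_right]
  have hbinv : σ bH = bH⁻¹ := Subtype.ext (Subtype.ext ((hσv bH).trans (R.u_inv hb)))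
  have hord : orderOf bH = r := by rw [← hbr, ← Subgroup.orderOf_coe bH, ← Subgroup.orderOf_coe (bH : C)]
  have hform : ∀ x : H, x * bH = bH * x → ∃ β ∈ L.BG, β * R.rho = R.rho * β ∧
      ∃ i : ℕ, ((x : C) : G) = β * R.rho ^ i := fun x hx =>
    L.cent_b_rho R hb hb1 hfix (congrArg (fun z : H => ((z : C) : G)) hx) (mem_centralizer_singleton_iff.1 (x : C).2)
  obtain ⟨M, hMn, hMσ, hMπ, hMfix⟩ := fixed_core hHodd σ hσσ (n := n) (r := r)
    (fun x hx => by
      rw [← cardTu, ← Subgroup.orderOf_coe x, ← Subgroup.orderOf_coe (x : C),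
        ← Subgroup.orderOf_mk _ ((hfixTu x).1 hx)]
      exact orderOf_dvd_natCard _) hr hrn hbinv hord
    (fun c d hc hd => by
      obtain ⟨β, hβ, hβr, i, e⟩ := hform c hc
      obtain ⟨β', hβ', hβr', i', e'⟩ := hform d hd
      apply Subtype.ext; apply Subtype.ext
      show ((c : C) : G) * ((d : C) : G) = ((d : C) : G) * ((c : C) : G)
      rw [e, e']
      have c1 : Commute β β' := L.BG_comm hβ hβ'
      have c2 : Commute β (R.rho ^ i') := (show Commute β R.rho from hβr).pow_right _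
      have c3 : Commute (R.rho ^ i) β' := ((show Commute β' R.rho from hβr').pow_right _).symm
      exact ((c1.mul_right c2).mul_left (c3.mul_right (Commute.pow_pow_self _ i i'))).eq)
    (fun h hh => by
      obtain ⟨β, hβ, hβr, i, e⟩ := hform (h * bH * h⁻¹) hh
      have hxr : (((h * bH * h⁻¹ : H) : C) : G) ^ r = 1 := by
        show (((h : C) : G) * b * ((h : C) : G)⁻¹) ^ r = 1
        rw [conj_pow, ← hbr, pow_orderOf_eq_one, mul_one, mul_inv_cancel]
      rw [e, ((show Commute β R.rho from hβr).pow_right i).mul_pow, ← pow_mul] at hxr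
      have hmem : R.rho ^ (i * r) ∈ L.BG := by
        rw [eq_inv_of_mul_eq_one_right hxr]; exact inv_mem (pow_mem hβ r)
      have h1 := L.rho_pow_t R (L.BG_t hmem)
      have h3 : 3 ∣ i * r := R.ord_rho ▸ orderOf_dvd_of_pow_eq_one h1
      have h3i : 3 ∣ i := (Nat.prime_three.dvd_mul.1 h3).resolve_right fun h => by
        rw [(Nat.prime_dvd_prime_iff_eq Nat.prime_three hr).1 h] at h3n
        exact hrn h3n
      obtain ⟨j, rfl⟩ := h3i
      rw [pow_mul, R.rho3, one_pow, mul_one] at e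
      have hf := L.fusion R hb hb1 hfix (g := ((h : C) : G)) (by
        show ((h : C) : G) * b * ((h : C) : G)⁻¹ ∈ L.BG
        rw [show ((h : C) : G) * b * ((h : C) : G)⁻¹ = (((h * bH * h⁻¹ : H) : C) : G) from rfl, e]
        exact hβ)
      exact hf.imp (fun h => Subtype.ext (Subtype.ext h)) (fun h => Subtype.ext (Subtype.ext h)))
  haveI := hMn
  have hrM : ¬ r ∣ Nat.card M := fun h => hrn (hMπ r hr h)
  have hMb : Nat.Coprime (Nat.card M) L.D.b := Nat.coprime_of_dvd fun p hp h1 h2 =>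
    Nat.not_coprime_of_dvd_of_dvd hp.one_lt (hMπ p hp h1) h2 hTcop
  have hMcard : Odd (Nat.card M) := hHodd.of_dvd_nat (card_subgroup_dvd_card _)
  let rH : H := ⟨⟨R.rho, hTuC _ hrhoTu⟩, hHmem _ (hTu_odd _ hrhoTu)⟩
  have hrM' : rH ∈ M := hMfix _ ((hfixTu _).2 hrhoTu)
  let rM : M := ⟨rH, hrM'⟩
  have hMmap : M.map σ.toMonoidHom = M := Subgroup.eq_of_le_of_card_ge
    (by rintro _ ⟨m, hm, rfl⟩; exact hMσ m hm) (Subgroup.card_map_of_injective σ.injective).ge
  let β0 : MulAut H := MulAut.conjNormal bC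
  have hβv : ∀ x : H, ((β0 x : C) : G) = b * ((x : C) : G) * b⁻¹ := fun x => by
    show ((MulAut.conjNormal bC x : C) : G) = _
    rw [MulAut.conjNormal_apply]
    rfl
  have hβeq : ∀ x : H, β0 x = bH * x * bH⁻¹ := fun x => Subtype.ext (Subtype.ext (hβv x))
  have hMmapb : M.map β0.toMonoidHom = M := Subgroup.eq_of_le_of_card_ge
    (by rintro _ ⟨m, hm, rfl⟩; show β0 m ∈ M; rw [hβeq]; exact hMn.conj_mem m hm bH)
    (Subgroup.card_map_of_injective β0.injective).ge
  let σM := restr σ M hMmap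
  let βM := restr β0 M hMmapb
  set Z := zpowers rM with hZ
  have hrMord : orderOf rM = 3 := by
    rw [← R.ord_rho, ← Subgroup.orderOf_coe rM, ← Subgroup.orderOf_coe (rH), ← Subgroup.orderOf_coe ((rH : C))]
  have hcentral : ∀ x : M, x * rM = rM * x := fun x => Subtype.ext (Subtype.ext (Subtype.ext
    (mem_centralizer_singleton_iff.1 ((x : H) : C).2)))
  haveI hZn : Z.Normal := ⟨fun z hz x => by
    obtain ⟨i, rfl⟩ := mem_zpowers_iff.1 hz
    rw [((show Commute x rM from hcentral x).zpow_right i).eq, mul_inv_cancel_right]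
    exact zpow_mem (mem_zpowers _) i⟩
  have hσr : σM rM = rM := Subtype.ext (by rw [restr_val]; exact (hfixTu _).2 hrhoTu)
  have hβr : βM rM = rM := Subtype.ext (by
    rw [restr_val, hβeq]
    apply Subtype.ext; apply Subtype.ext
    show b * R.rho * b⁻¹ = R.rho
    rw [← hfix, mul_inv_cancel_right])
  have hZfix : ∀ z ∈ Z, σM z = z ∧ βM z = z := fun z hz => by
    obtain ⟨i, rfl⟩ := mem_zpowers_iff.1 hz
    exact ⟨by rw [map_zpow, hσr], by rw [map_zpow, hβr]⟩
  have hZmapσ : Z.map σM.toMonoidHom = Z := by rw [hZ, MonoidHom.map_zpowers]; exact congrArg zpowers hσr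
  have hZmapβ : Z.map βM.toMonoidHom = Z := by rw [hZ, MonoidHom.map_zpowers]; exact congrArg zpowers hβr
  have hβfix : ∀ x : M, βM x = x → x ∈ Z := by
    intro x hx
    have hx' : β0 (x : H) = (x : H) := congrArg Subtype.val hx
    rw [hβeq, mul_inv_eq_iff_eq_mul] at hx'
    obtain ⟨β, hβ, hβr, i, e⟩ := hform x hx'.symm
    have hd : orderOf β ∣ 1 := by
      rw [← hMb.gcd_eq_one]
      refine Nat.dvd_gcd ?_ ?_
      · have hy : β = ((((x * (rM ^ i)⁻¹ : M) : H) : C) : G) := by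
          show β = (((x : H) : C) : G) * (R.rho ^ i)⁻¹
          rw [e, mul_inv_cancel_right]
        rw [hy, Subgroup.orderOf_coe, Subgroup.orderOf_coe, Subgroup.orderOf_coe]
        exact orderOf_dvd_natCard _
      · rw [← L.card_BG, ← Subgroup.orderOf_mk β hβ]; exact orderOf_dvd_natCard _
    rw [orderOf_eq_one_iff.1 (Nat.dvd_one.1 hd), one_mul] at e
    have : x = rM ^ i := Subtype.ext (Subtype.ext (Subtype.ext e))
    rw [this]; exact pow_mem (mem_zpowers _) i
  let σN : MulAut (M ⧸ Z) := QuotientGroup.congr Z Z σM hZmapσ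
  let βN : MulAut (M ⧸ Z) := QuotientGroup.congr Z Z βM hZmapβ
  have hσN : ∀ x : M, σN (x : M ⧸ Z) = ((σM x : M) : M ⧸ Z) := fun x => rfl
  have hβN : ∀ x : M, βN (x : M ⧸ Z) = ((βM x : M) : M ⧸ Z) := fun x => rfl
  have hσM : ∀ x : M, σM (σM x) = x := fun x => Subtype.ext (hσσ x)
  have hrel : ∀ x : M, βM (σM (βM x)) = σM x := fun x => by
    apply Subtype.ext; apply Subtype.ext; apply Subtype.ext
    show ((β0 (σ (β0 (x : H))) : C) : G) = ((σ (x : H) : C) : G)
    rw [hβv, hσv, hβv, hσv]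
    have hub : R.u * b = b⁻¹ * R.u := mul_inv_eq_iff_eq_mul.1 (R.u_inv hb)
    have hbub : b * R.u * b = R.u := by rw [mul_assoc, hub, mul_inv_cancel_left]
    rw [show b * (R.u * (b * (((x : H) : C) : G) * b⁻¹) * R.u⁻¹) * b⁻¹ =
      (b * R.u * b) * (((x : H) : C) : G) * (b * R.u * b)⁻¹ by group, hbub]
  have hβMr : βM ^ r = 1 := by
    have key : ∀ (i : ℕ) (x : M), ((((βM ^ i) x : M) : H) : C) = bC ^ i * ((x : H) : C) * (bC ^ i)⁻¹ := by
      intro i
      induction i with
      | zero => intro x; simp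
      | succ i ih =>
        intro x
        rw [pow_succ' βM, MulAut.mul_apply, restr_val, hβeq]
        show bC * (((((βM ^ i) x : M) : H) : C)) * bC⁻¹ = _
        rw [ih, pow_succ']; group
    have hbCr : bC ^ r = 1 := Subtype.ext (by
      rw [Subgroup.coe_pow]; show b ^ r = 1; rw [← hbr, pow_orderOf_eq_one])
    exact MulEquiv.ext fun x => Subtype.ext (Subtype.ext (by rw [key, hbCr]; simp))
  have hZcard : Nat.card Z = 3 := by rw [hZ, Nat.card_zpowers, hrMord]
  have hqc : Nat.card Z * Nat.card (M ⧸ Z) = Nat.card M := Z.card_mul_index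
  have hβNr : βN ^ r = 1 := by
    have key : ∀ (i : ℕ) (x : M), (βN ^ i) (x : M ⧸ Z) = (((βM ^ i) x : M) : M ⧸ Z) := by
      intro i
      induction i with
      | zero => intro x; rfl
      | succ i ih => intro x; rw [pow_succ', pow_succ', MulAut.mul_apply, MulAut.mul_apply, ih, hβN]
    refine MulEquiv.ext fun z => ?_
    induction z using QuotientGroup.induction_on with
    | H x => rw [key, hβMr]; rfl
  have hNfpf : ∀ z : M ⧸ Z, βN z = z → z = 1 := by
    intro z hz
    induction z using QuotientGroup.induction_on with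
    | H x =>
      rw [hβN, eq_comm, QuotientGroup.eq] at hz
      set w := x⁻¹ * βM x with hw
      have hx : βM x = x * w := by rw [hw, mul_inv_cancel_left]
      have key : ∀ i : ℕ, (βM ^ i) x = x * w ^ i := by
        intro i
        induction i with
        | zero => simp
        | succ i ih => rw [pow_succ' βM, MulAut.mul_apply, ih, map_mul, map_pow, (hZfix w hz).2, hx, pow_succ', mul_assoc]
      have hwr : w ^ r = 1 := by
        have := key r
        rwa [hβMr, MulAut.one_apply, left_eq_mul] at this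
      have hw1 : orderOf w ∣ 1 := by
        have h3 : orderOf w ∣ 3 := by
          rw [← hZcard, ← Subgroup.orderOf_mk w hz]; exact orderOf_dvd_natCard _
        have hcop : Nat.Coprime 3 r := (Nat.coprime_primes Nat.prime_three hr).2 fun e => hrn (e ▸ h3n)
        rw [← hcop.gcd_eq_one]
        exact Nat.dvd_gcd h3 (orderOf_dvd_of_pow_eq_one hwr)
      rw [QuotientGroup.eq_one_iff]
      exact hβfix x (by rw [hx, orderOf_eq_one_iff.1 (Nat.dvd_one.1 hw1), mul_one])
  have hq : Nat.card (M ⧸ Z) = Nat.card {z : M ⧸ Z // σN z = z} ^ 2 :=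
    card_eq_sq _ (M ⧸ Z) σN βN le_rfl hr hrodd (hMcard.of_dvd_nat (Dvd.intro_left _ hqc))
      (fun h => hrM (h.trans (Dvd.intro_left _ hqc)))
      (fun z => by induction z using QuotientGroup.induction_on with | H x => rw [hσN, hσN, hσM]) hβNr
      (fun z => by induction z using QuotientGroup.induction_on with | H x => rw [hβN, hσN, hβN, hrel, hσN]) hNfpf
  have hmod : Nat.card (M ⧸ Z) ≡ 1 [MOD r] := card_mod βN hβNr hNfpf
  -- the fixed points
  set m := Nat.card {z : M ⧸ Z // σN z = z} with hm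
  have hmn : n = 3 * m := by
    let FM : Subgroup M := (σM.toMonoidHom).eqLocus (MonoidHom.id M)
    let f : FM →* M ⧸ Z := (QuotientGroup.mk' Z).comp FM.subtype
    have hker : Nat.card f.ker = 3 := by
      rw [← hZcard]
      exact Nat.card_congr ⟨fun x => ⟨((x : FM) : M), (QuotientGroup.eq_one_iff _).1 x.2⟩,
        fun x => ⟨⟨x, (hZfix x x.2).1⟩, (QuotientGroup.eq_one_iff _).2 x.2⟩, fun x => rfl, fun x => rfl⟩
    have hrange : Nat.card f.range = m := by
      refine Nat.card_congr (Equiv.subtypeEquivRight fun z => ⟨?_, ?_⟩)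
      · rintro ⟨x, rfl⟩
        show σN ((x : M) : M ⧸ Z) = ((x : M) : M ⧸ Z)
        rw [hσN]
        exact congrArg _ x.2
      · intro hz
        induction z using QuotientGroup.induction_on with
        | H x =>
          rw [hσN, eq_comm, QuotientGroup.eq] at hz
          refine ⟨⟨x, ?_⟩, rfl⟩
          set w := x⁻¹ * σM x with hw
          have hx : σM x = x * w := by rw [hw, mul_inv_cancel_left]
          have h2 := congrArg σM hx
          rw [hσM, map_mul, (hZfix w hz).1, hx, mul_assoc, left_eq_mul] at h2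
          have hwo : Odd (orderOf w) := hMcard.of_dvd_nat (orderOf_dvd_natCard w)
          show σM x = x
          rw [hx, eq_one_of_inv_eq hwo (inv_eq_of_mul_eq_one_left h2), mul_one]
    have hFM : Nat.card FM = n := by
      rw [← cardTu]
      refine Nat.card_congr ⟨fun x => ⟨((((x : M) : H) : C) : G), (hfixTu _).1 (congrArg Subtype.val x.2)⟩,
        fun y => ⟨⟨⟨⟨y, hTuC _ y.2⟩, hHmem _ (hTu_odd _ y.2)⟩, hMfix _ ((hfixTu _).2 y.2)⟩,
          Subtype.ext ((hfixTu _).2 y.2)⟩, fun x => rfl, fun y => rfl⟩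
    rw [← hFM, ← f.ker.card_mul_index, Subgroup.index_ker, hker, hrange]
  rw [hq] at hmod
  have hm1 : (r : ℤ) ∣ (m : ℤ) ^ 2 - 1 := by
    have := Nat.modEq_iff_dvd.1 hmod.symm
    push_cast at this
    exact this
  have hn1 : (r : ℤ) ∣ (n : ℤ) ^ 2 - 1 := (Int.natCast_dvd_natCast.2 hrb).trans hTdvd
  rw [hmn] at hn1
  push_cast at hn1
  have h8 : (r : ℤ) ∣ 8 := by
    have h := dvd_sub hn1 (hm1.mul_left 9)
    rwa [show (3 * (m : ℤ)) ^ 2 - 1 - 9 * ((m : ℤ) ^ 2 - 1) = 8 by ring] at h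
  have h8' : r ∣ 2 ^ 3 := by exact_mod_cast h8
  exact hr2 ((Nat.prime_dvd_prime_iff_eq hr Nat.prime_two).1 (hr.dvd_of_dvd_pow h8'))

end LCfg

end Cfsg.Agent.Char.ReeOrder
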