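import Cfsg.Agent.Lib.Char.ReeOrder.Ctx
import Cfsg.Agent.Lib.Char.ReeOrder.KIdent
import Cfsg.Agent.Lib.Char.ReeThree.Count

/-!
# The virtual character `Ψ_θ` induced from `V × B`
-/

set_option autoImplicit false
set_option linter.unusedSectionVars false
set_option linter.unusedSimpArgs false
set_option linter.style.haveILetI false
set_option maxHeartbeats 800000

open Cfsg
open scoped ComplexConjugate Classical

namespace Cfsg.Agent.Char.ReeOrder

open Subgroup Cfsg.Agent.Char.ReeThree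

universe u v

/-- A model of `V`. -/
abbrev V4 := ℤˣ × ℤˣ

theorem sum_V4 {M : Type*} [AddCommMonoid M] (f : V4 → M) :
    ∑ v, f v = f (1, 1) + f (1, -1) + (f (-1, 1) + f (-1, -1)) := by
  rw [Fintype.sum_prod_type, show (Finset.univ : Finset ℤˣ) = {1, -1} from rfl, Finset.sum_pair (by decide),
    Finset.sum_pair (by decide), Finset.sum_pair (by decide)]

/-- The cyclic permutation `t ↦ s ↦ ts`. -/
def sig : V4 →* V4 where
  toFun v := (v.2, v.1 * v.2)
  map_one' := rfl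
  map_mul' a b := Prod.ext rfl (mul_mul_mul_comm _ _ _ _)

theorem sum_pairs {G : Type u} [Group G] [Fintype G] (S : Split G) (hconj : ∀ u : G, orderOf u = 2 → IsConj S.t u)
    (f : G → ℂ) :
    ∑ a : G, ∑ b : G, f (a * S.t * a⁻¹ * (b * S.t * b⁻¹)) =
      (Nat.card S.C : ℂ) ^ 2 * ((Nat.card G : ℂ) * classInner f (fun g => ((pairs g : ℕ) : ℂ))) := by
  have hN : ∀ f : G → ℂ, ∑ a : G, f (a * S.t * a⁻¹) =
      (Nat.card S.C : ℂ) * ∑ y : G with orderOf y = 2, f y := by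
    intro f
    rw [show Finset.univ.filter (fun y : G => orderOf y = 2) = Finset.univ.filter (fun y : G => IsConj S.t y) from
      Finset.filter_congr fun y _ => ⟨hconj y, fun h => by
        obtain ⟨c, hc⟩ := isConj_iff.1 h
        rw [← hc, show c * S.t * c⁻¹ = MulAut.conj c S.t from rfl, MulEquiv.orderOf_eq, S.ht]⟩, ← sum_conj_eq S.t f]
    exact Fintype.sum_equiv (Equiv.inv G) _ _ fun a => by simp
  rw [hN (fun u => ∑ b : G, f (u * (b * S.t * b⁻¹))),
    Finset.sum_congr rfl fun u _ => hN (fun v => f (u * v)), ← Finset.mul_sum]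
  have hre : ∀ u : G, orderOf u = 2 → (∑ v : G with orderOf v = 2, f (u * v)) =
      ∑ g : G, if orderOf (u * g) = 2 then f g else 0 := by
    intro u hu
    have a : u * u = 1 := by rw [← pow_two, ← hu, pow_orderOf_eq_one]
    rw [Finset.sum_filter]
    exact Fintype.sum_equiv (Equiv.mulLeft u) _ _ fun v => by simp [← mul_assoc, a]
  rw [Finset.sum_congr rfl fun u hu => hre u (Finset.mem_filter.1 hu).2, Finset.sum_comm]
  have hcnt : ∀ g : G, (∑ u : G with orderOf u = 2, if orderOf (u * g) = 2 then f g else 0) =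
      f g * conj ((pairs g : ℕ) : ℂ) := by
    intro g
    rw [map_natCast, ← Finset.sum_filter, Finset.sum_const, nsmul_eq_mul, mul_comm, pairs,
      Nat.card_eq_fintype_card, Fintype.card_subtype, Finset.filter_filter]
  rw [Finset.sum_congr rfl fun g _ => hcnt g, classInner, ← mul_assoc (Nat.card G : ℂ),
    mul_inv_cancel₀ (Nat.cast_ne_zero.2 Nat.card_pos.ne'), one_mul]
  ring

theorem lift_odd {G : Type u} [Group G] [Fintype G] (S : Split G) (Φ : S.K → ℂ) {x : G} (hx : Odd (orderOf x)) :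
    S.lift Φ x = 0 := by
  rw [Split.lift, indFun, Finset.sum_eq_zero fun g _ => ?_, mul_zero]
  by_cases hm : g⁻¹ * x * g ∈ S.C
  · rw [extendByZero_mem S.C _ hm]
    refine S.sec_K Φ ?_
    show g⁻¹ * x * g ∈ S.K
    have ho : Odd (orderOf (g⁻¹ * x * g)) := by
      rw [show g⁻¹ * x * g = MulAut.conj g⁻¹ x by simp [MulAut.conj_apply], MulEquiv.orderOf_eq]; exact hx
    rcases S.split hm with h | h
    · exact h
    · exfalso
      generalize g⁻¹ * x * g = y at hm ho h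
      have hc : Commute S.t y := (S.mem_C.1 hm).symm
      obtain ⟨k, hk⟩ := ho
      have h1 : (S.t * y) ^ orderOf y = S.t := by
        rw [hc.mul_pow, pow_orderOf_eq_one, mul_one, hk, pow_succ, pow_mul, pow_two, S.sq_t, one_pow, one_mul]
      exact S.t_not_mem (h1 ▸ pow_mem h _)
  · exact extendByZero_not_mem S.C _ hm

namespace Ctx

variable {G : Type u} [Group G] [Fintype G] {F : Type v} [Field F] [Fintype F] (C : Ctx G F)

/-- The embedding of `V`. -/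
noncomputable def vH : V4 →* G :=
  MonoidHom.noncommCoprod (invHom C.S.sq_t) (invHom C.sq_s) (invHom_comm C.S.sq_t C.sq_s C.ts)

theorem vH_t : C.vH (-1, 1) = C.S.t := by simp [vH, invHom]

theorem vH_s : C.vH (1, -1) = C.s := by simp [vH, invHom]

theorem vH_ts : C.vH (-1, -1) = C.S.t * C.s := by simp [vH, invHom]

theorem vH_comm (v : V4) (y : C.D.B) : Commute (C.vH v) (C.emb y) := by
  obtain ⟨a, c⟩ := v
  refine Commute.mul_left ?_ ?_
  · rcases Int.units_eq_one_or a with rfl | rfl <;> simp [invHom, Commute.one_left]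
    exact (C.emb_t y).symm
  · rcases Int.units_eq_one_or c with rfl | rfl <;> simp [invHom, Commute.one_left]
    first | exact C.emb_s y | exact C.D.B_s _ y.2

/-- The embedding of `V × B`. -/
noncomputable def phi : V4 × C.D.B →* G := MonoidHom.noncommCoprod C.vH C.emb C.vH_comm

theorem phi_apply (v : V4) (y : C.D.B) : C.phi (v, y) = C.vH v * C.emb y := rfl

theorem phi_inj : Function.Injective C.phi := by
  rw [injective_iff_map_eq_one]
  rintro ⟨⟨a, c⟩, y⟩ h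
  rw [phi_apply] at h
  have hy : C.emb y ∈ C.S.K := SetLike.coe_mem _
  rcases Int.units_eq_one_or a with rfl | rfl
  · rcases Int.units_eq_one_or c with rfl | rfl
    · rw [show C.vH (1, 1) = 1 from map_one _, one_mul] at h
      exact Prod.ext rfl (C.emb_inj (h.trans (map_one C.emb).symm))
    · exfalso
      rw [C.vH_s] at h
      refine C.s_not_B ?_
      have e : C.D.s * (y : C.S.K) = 1 := Subtype.ext h
      rw [eq_inv_of_mul_eq_one_left e]
      exact inv_mem y.2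
  · exfalso
    rcases Int.units_eq_one_or c with rfl | rfl
    · rw [C.vH_t] at h
      exact C.S.not_both hy (by rw [h]; exact one_mem _)
    · rw [C.vH_ts, mul_assoc] at h
      exact C.S.not_both (mul_mem (SetLike.coe_mem _) hy) (by rw [h]; exact one_mem _)

theorem card_model : Nat.card (V4 × C.D.B) = 4 * C.D.b := by
  rw [Nat.card_prod, C.D.card_B, Nat.card_eq_fintype_card]
  rfl

/-- `V × B` in `G`. -/
noncomputable abbrev M : Subgroup G := C.phi.range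

/-- The model of `V × B`. -/
noncomputable def ME : V4 × C.D.B ≃* C.M := MonoidHom.ofInjective C.phi_inj

theorem ME_symm {m : C.M} {p : V4 × C.D.B} (h : C.phi p = (m : G)) : C.ME.symm m = p :=
  C.ME.injective (by rw [MulEquiv.apply_symm_apply]; exact Subtype.ext h.symm)

theorem card_M : Nat.card C.M = 4 * C.D.b := by rw [← Nat.card_congr C.ME.toEquiv, C.card_model]

theorem w_t : (C.w : G) * C.S.t = C.S.t * C.w := C.S.comm_t (SetLike.coe_mem _)

theorem w_vH (v : V4) : (C.w : G) * C.vH v * (C.w : G)⁻¹ = C.vH v := by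
  obtain ⟨a, c⟩ := v
  have h1 : (C.w : G) * C.s = C.s * C.w := congrArg Subtype.val C.w_s
  have hs : Commute (C.w : G) (C.vH (a, c)) := by
    refine Commute.mul_right ?_ ?_
    · rcases Int.units_eq_one_or a with rfl | rfl <;> simp [invHom, Commute.one_right]
      exact C.w_t
    · rcases Int.units_eq_one_or c with rfl | rfl <;> simp [invHom, Commute.one_right]
      first | exact h1 | exact C.w_s
  rw [hs.eq, mul_inv_cancel_right]

theorem rho_vH (v : V4) : C.rho * C.vH v * C.rho⁻¹ = C.vH (sig v) := by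
  obtain ⟨a, c⟩ := v
  rcases Int.units_eq_one_or a with rfl | rfl <;> rcases Int.units_eq_one_or c with rfl | rfl
  · rw [show ((1, 1) : V4) = 1 from rfl, map_one, map_one, map_one, mul_one, mul_inv_cancel]
  · rw [C.vH_s, C.rho_s, ← C.vH_ts]; rfl
  · rw [C.vH_t, C.rho_t, ← C.vH_s]; rfl
  · rw [C.vH_ts, C.rho_ts, ← C.vH_t]; rfl

theorem rho_phi (v : V4) (y : C.D.B) : C.rho * C.phi (v, y) * C.rho⁻¹ = C.phi (sig v, C.act y) := by
  rw [phi_apply, phi_apply, ← C.rho_vH, C.emb_act]; group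

theorem w_phi (v : V4) (y : C.D.B) : (C.w : G) * C.phi (v, y) * (C.w : G)⁻¹ = C.phi (v, y⁻¹) := by
  rw [phi_apply, phi_apply, map_inv]
  calc (C.w : G) * (C.vH v * C.emb y) * (C.w : G)⁻¹ =
        ((C.w : G) * C.vH v * (C.w : G)⁻¹) * ((C.w : G) * C.emb y * (C.w : G)⁻¹) := by group
    _ = _ := by rw [C.w_vH, C.w_emb]

theorem cent_B {y : C.D.B} (hy : y ≠ 1) {g : G} (hg : g * C.emb y * g⁻¹ = C.emb y) : g ∈ C.M := by
  have hgC : g ∈ C.S.C := C.loc C.s (C.emb y) (SetLike.coe_mem _) (SetLike.coe_mem _) C.hs (C.emb_s y).symm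
    (C.odd_emb y) (fun e => hy (C.emb_inj (e.trans (map_one C.emb).symm)))
    (mem_centralizer_singleton_iff.2 (mul_inv_eq_iff_eq_mul.1 hg))
  rcases C.S.split hgC with h | h
  · rcases C.cent_K hy (g := ⟨g, h⟩) (Subtype.ext hg) with h' | ⟨z, hz, e⟩
    · exact ⟨((1, 1), ⟨⟨g, h⟩, h'⟩), by rw [phi_apply, show C.vH (1, 1) = 1 from map_one _, one_mul]; rfl⟩
    · exact ⟨((1, -1), ⟨z, hz⟩), by rw [phi_apply, C.vH_s]; exact (congrArg Subtype.val e).symm⟩
  · have hg' : C.S.t * g * C.emb y * (C.S.t * g)⁻¹ = C.emb y := by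
      rw [show C.S.t * g * C.emb y * (C.S.t * g)⁻¹ = C.S.t * (g * C.emb y * g⁻¹) * C.S.t⁻¹ by group, hg,
        ← C.emb_t, mul_inv_cancel_right]
    rcases C.cent_K hy (g := ⟨C.S.t * g, h⟩) (Subtype.ext hg') with h' | ⟨z, hz, e⟩
    · refine ⟨((-1, 1), ⟨⟨C.S.t * g, h⟩, h'⟩), ?_⟩
      rw [phi_apply, C.vH_t]
      show C.S.t * (C.S.t * g) = g
      rw [← mul_assoc, C.S.sq_t, one_mul]
    · refine ⟨((-1, -1), ⟨z, hz⟩), ?_⟩
      have e' : C.S.t * g = C.s * C.emb ⟨z, hz⟩ := congrArg Subtype.val e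
      rw [phi_apply, C.vH_ts, mul_assoc, ← e', ← mul_assoc, C.S.sq_t, one_mul]

/-- The six representatives. -/
noncomputable def rep (p : Fin 3 × Bool) : G := C.rho ^ (p.1 : ℕ) * (if p.2 then (C.w : G) else 1)

theorem conj_cases {g : G} {v v' : V4} {y y' : C.D.B} (hy : y ≠ 1) (hy' : y' ≠ 1)
    (h : g⁻¹ * C.phi (v, y) * g = C.phi (v', y')) : ∃ p m, g = C.rep p * C.phi m := by
  have hpow : g⁻¹ * C.emb y * g = C.emb y' := by
    have h' : g⁻¹ * C.phi (v, y) ^ (C.D.b + 1) * g = C.phi (v', y') ^ (C.D.b + 1) := by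
      have h0 := conj_pow (i := C.D.b + 1) (a := g⁻¹) (b := C.phi (v, y))
      rw [inv_inv] at h0
      rw [← h]; exact h0.symm
    have e : ∀ (v : V4) (y : C.D.B), C.phi (v, y) ^ (C.D.b + 1) = C.emb y := by
      intro v y
      obtain ⟨k, hk⟩ := C.D.b_odd
      have hv : v ^ (C.D.b + 1) = 1 := by
        rw [hk, show 2 * k + 1 + 1 = 2 * (k + 1) by ring, pow_mul,
          show v ^ 2 = 1 from Prod.ext (Int.units_sq _) (Int.units_sq _), one_pow]
      have hyb : y ^ C.D.b = 1 := by rw [← C.D.card_B]; exact pow_card_eq_one'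
      rw [← map_pow, show (v, y) ^ (C.D.b + 1) = (1, y) from Prod.ext hv (by
        show y ^ (C.D.b + 1) = y; rw [pow_succ, hyb, one_mul]), phi_apply, map_one, one_mul]
    rwa [e, e] at h'
  -- the image of `t`
  have htM : g * C.S.t * g⁻¹ ∈ C.M := C.cent_B hy (by
    calc g * C.S.t * g⁻¹ * C.emb y * (g * C.S.t * g⁻¹)⁻¹
        = g * (C.S.t * (g⁻¹ * C.emb y * g) * C.S.t⁻¹) * g⁻¹ := by group
      _ = g * C.emb y' * g⁻¹ := by rw [hpow, ← C.emb_t, mul_inv_cancel_right]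
      _ = C.emb y := by rw [← hpow]; group)
  obtain ⟨⟨v0, z⟩, hz⟩ := htM
  have hord : orderOf (g * C.S.t * g⁻¹) = 2 := by
    rw [show g * C.S.t * g⁻¹ = MulAut.conj g C.S.t from rfl, MulEquiv.orderOf_eq, C.S.ht]
  have hsq : ((v0, z) : V4 × C.D.B) * (v0, z) = 1 :=
    C.phi_inj (by rw [map_mul, map_one, hz, sq_of_order_two hord])
  have hz1 : z = 1 := odd_sq_one (C.odd_B z) (Prod.mk.injEq .. ▸ hsq).2
  subst hz1
  rw [phi_apply, map_one, mul_one] at hz
  obtain ⟨j, hj⟩ : ∃ j : Fin 3, C.rho ^ (j : ℕ) * C.S.t * (C.rho ^ (j : ℕ))⁻¹ = C.vH v0 := by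
    obtain ⟨a, c⟩ := v0
    rcases Int.units_eq_one_or a with rfl | rfl <;> rcases Int.units_eq_one_or c with rfl | rfl
    · exfalso
      rw [show C.vH (1, 1) = 1 from map_one _] at hz
      rw [← hz, orderOf_one] at hord
      omega
    · exact ⟨1, by rw [C.vH_s]; simpa using C.rho_t⟩
    · exact ⟨0, by rw [C.vH_t]; simp⟩
    · refine ⟨2, ?_⟩
      rw [C.vH_ts, ← C.rho_s, ← C.rho_t]
      show C.rho ^ 2 * C.S.t * (C.rho ^ 2)⁻¹ = _
      rw [pow_two]; group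
  set c := (C.rho ^ (j : ℕ))⁻¹ * g with hc
  have hct : c * C.S.t = C.S.t * c := by
    calc c * C.S.t = (C.rho ^ (j : ℕ))⁻¹ * (g * C.S.t * g⁻¹) * g := by rw [hc]; group
      _ = (C.rho ^ (j : ℕ))⁻¹ * (C.rho ^ (j : ℕ) * C.S.t * (C.rho ^ (j : ℕ))⁻¹) * g := by rw [← hz, hj]
      _ = C.S.t * c := by rw [hc]; group
  obtain ⟨u, hu⟩ : ∃ u : C.D.B, c * C.emb y' * c⁻¹ = C.emb u := by
    have hp : ∀ n : ℕ, ∃ u : C.D.B, (C.rho ^ n)⁻¹ * C.emb y * C.rho ^ n = C.emb u := by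
      intro n
      induction n with
      | zero => exact ⟨y, by simp⟩
      | succ n ih =>
        obtain ⟨u, hu⟩ := ih
        refine ⟨C.act (C.act u), ?_⟩
        rw [pow_succ, show (C.rho ^ n * C.rho)⁻¹ * C.emb y * (C.rho ^ n * C.rho) =
          C.rho⁻¹ * ((C.rho ^ n)⁻¹ * C.emb y * C.rho ^ n) * C.rho by group, hu]
        conv_lhs => rw [← C.act_three u, C.emb_act]
        group
    obtain ⟨u, hu⟩ := hp j
    exact ⟨u, by rw [hc, ← hpow, ← hu]; group⟩
  suffices h' : ∃ i : Bool, ∃ m, c = (if i then (C.w : G) else 1) * C.phi m by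
    obtain ⟨i, m, e⟩ := h'
    exact ⟨(j, i), m, by rw [rep, mul_assoc, ← e, hc, mul_inv_cancel_left]⟩
  -- the part in `K`
  obtain ⟨a, k, hak⟩ : ∃ (a : ℤˣ) (k : C.S.K), c = C.vH (a, 1) * k := by
    rcases C.S.split (C.S.mem_C.2 hct) with h | h
    · exact ⟨1, ⟨c, h⟩, by rw [show C.vH (1, 1) = 1 from map_one _, one_mul]⟩
    · exact ⟨-1, ⟨_, h⟩, by rw [C.vH_t]; show c = C.S.t * (C.S.t * c); rw [← mul_assoc, C.S.sq_t, one_mul]⟩
  have hk : k * (y' : C.S.K) * k⁻¹ = (u : C.S.K) := by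
    apply Subtype.ext
    show (k : G) * C.emb y' * (k : G)⁻¹ = C.emb u
    have e : (k : G) = (C.vH (a, 1))⁻¹ * c := by rw [hak]; group
    rw [e, show (C.vH (a, 1))⁻¹ * c * C.emb y' * ((C.vH (a, 1))⁻¹ * c)⁻¹ =
      (C.vH (a, 1))⁻¹ * (c * C.emb y' * c⁻¹) * C.vH (a, 1) by group, hu, mul_assoc, ← (C.vH_comm _ u).eq,
      inv_mul_cancel_left]
  have hne : Nat.card {g : C.S.K // g * (y' : C.S.K) * g⁻¹ = (u : C.S.K)} ≠ 0 :=
    (Nat.card_pos_iff.2 ⟨⟨⟨k, hk⟩⟩, Subtype.finite⟩).ne'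
  rw [C.D.cntB y' y'.2 (fun e => hy' (Subtype.ext e)) _ u.2] at hne
  by_cases hu' : (u : C.S.K) = y' ∨ (u : C.S.K) = (y' : C.S.K)⁻¹
  · rcases hu' with e | e
    · obtain ⟨m, hm⟩ := C.cent_B hy' (g := c) (by rw [hu, show u = y' from Subtype.ext e])
      exact ⟨false, m, by simp [hm]⟩
    · have hu2 : u = y'⁻¹ := Subtype.ext e
      obtain ⟨m, hm⟩ := C.cent_B hy' (g := (C.w : G)⁻¹ * c) (by
        rw [show (C.w : G)⁻¹ * c * C.emb y' * ((C.w : G)⁻¹ * c)⁻¹ =
          (C.w : G)⁻¹ * (c * C.emb y' * c⁻¹) * C.w by group, hu, hu2, map_inv, ← C.w_emb]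
        group)
      exact ⟨true, m, by rw [if_pos rfl, hm, mul_inv_cancel_left]⟩
  · exact absurd (if_neg hu') hne

theorem rho_pow_t (j : Fin 3) :
    C.rho ^ (j : ℕ) * C.S.t * (C.rho ^ (j : ℕ))⁻¹ = C.vH (![(-1, 1), (1, -1), (-1, -1)] j) := by
  fin_cases j
  · simp [C.vH_t]
  · simpa [C.vH_s] using C.rho_t
  · show C.rho ^ 2 * C.S.t * (C.rho ^ 2)⁻¹ = C.vH (-1, -1)
    rw [C.vH_ts, ← C.rho_s, ← C.rho_t, pow_two]; group

theorem rep_inj {p p' : Fin 3 × Bool} {m m' : V4 × C.D.B} (h : C.rep p * C.phi m = C.rep p' * C.phi m') :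
    p = p' ∧ m = m' := by
  have hfix : ∀ (i : Bool) (m : V4 × C.D.B),
      (if i then (C.w : G) else 1) * C.phi m * C.S.t * ((if i then (C.w : G) else 1) * C.phi m)⁻¹ = C.S.t := by
    intro i m
    have hw : Commute (if i then (C.w : G) else 1) C.S.t := by
      cases i
      · exact Commute.one_left _
      · exact C.w_t
    have hm : Commute (C.phi m) C.S.t := by
      rw [← C.vH_t, show C.vH (-1, 1) = C.phi ((-1, 1), 1) by rw [phi_apply, map_one, mul_one]]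
      exact (show Commute m ((-1, 1), 1) from Prod.ext (mul_comm _ _) (by
        show m.2 * 1 = 1 * m.2; rw [mul_one, one_mul])).map C.phi
    rw [(hw.mul_left hm).eq, mul_inv_cancel_right]
  obtain ⟨j, i⟩ := p
  obtain ⟨j', i'⟩ := p'
  simp only [rep, mul_assoc] at h
  have hj : j = j' := by
    have e := congrArg (fun g => g * C.S.t * g⁻¹) h
    have e1 : ∀ (r c : G), c * C.S.t * c⁻¹ = C.S.t → r * c * C.S.t * (r * c)⁻¹ = r * C.S.t * r⁻¹ := fun r c hc => by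
      rw [show r * c * C.S.t * (r * c)⁻¹ = r * (c * C.S.t * c⁻¹) * r⁻¹ by group, hc]
    rw [e1 _ _ (hfix i m), e1 _ _ (hfix i' m'), C.rho_pow_t, C.rho_pow_t] at e
    have e2 : ((![(-1, 1), (1, -1), (-1, -1)] j : V4), (1 : C.D.B)) = (![(-1, 1), (1, -1), (-1, -1)] j', 1) :=
      C.phi_inj (by rw [phi_apply, phi_apply, e])
    have e3 := congrArg Prod.fst e2
    revert e3
    revert j j'
    intro j j'
    fin_cases j <;> fin_cases j' <;> simp +decide
  subst hj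
  have h2 := mul_left_cancel h
  have hwM : ∀ p : V4 × C.D.B, (C.w : G) ≠ C.phi p := by
    rintro ⟨⟨a, c⟩, z⟩ e
    rw [phi_apply] at e
    rcases Int.units_eq_one_or a with rfl | rfl <;> rcases Int.units_eq_one_or c with rfl | rfl
    · rw [show C.vH (1, 1) = 1 from map_one _, one_mul] at e
      exact C.w_not.1 ((show C.w = (z : C.S.K) from Subtype.ext e) ▸ z.2)
    · rw [C.vH_s] at e
      exact C.w_not.2 z z.2 (Subtype.ext e)
    · rw [C.vH_t] at e
      exact C.S.not_both (SetLike.coe_mem (z : C.S.K)) (by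
        show C.S.t * C.emb z ∈ C.S.K
        rw [← e]; exact SetLike.coe_mem _)
    · rw [C.vH_ts, mul_assoc] at e
      exact C.S.not_both (mul_mem (SetLike.coe_mem C.D.s) (SetLike.coe_mem (z : C.S.K))) (by
        show C.S.t * (C.s * C.emb z) ∈ C.S.K
        rw [← e]; exact SetLike.coe_mem _)
  cases i <;> cases i' <;> simp at h2
  · exact ⟨rfl, C.phi_inj h2⟩
  · exact absurd (by rw [map_mul, map_inv, h2, mul_inv_cancel_right]) (hwM (m * m'⁻¹))
  · exact absurd (by rw [map_mul, map_inv, ← h2, mul_inv_cancel_right]) (hwM (m' * m⁻¹))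
  · exact ⟨rfl, C.phi_inj h2⟩

/-- `λ₀`, `λ₁`, `λ₂`. -/
def lam0 : V4 →* ℂˣ := (Units.map (Int.castRingHom ℂ).toMonoidHom).comp (MonoidHom.snd ℤˣ ℤˣ)

theorem lam0_val (a c : ℤˣ) : (lam0 (a, c) : ℂ) = ((c : ℤ) : ℂ) := rfl

theorem lam0_sum : ∑ v, (lam0 v : ℂ) = 0 := by simp [sum_V4, lam0_val]

theorem lam_orth (j : Fin 3) :
    ∑ v, (lam0 v : ℂ) * (lam0 (sig^[(j : ℕ)] v) : ℂ) = if j = 0 then 4 else 0 := by
  fin_cases j <;> simp [sum_V4, lam0_val, sig]; norm_num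

/-- `λ ⊗ (1 - θ)`. -/
noncomputable def fM (θ : C.D.B →* ℂˣ) : C.M → ℂ :=
  fun m => (lam0 (C.ME.symm m).1 : ℂ) * (1 - (θ (C.ME.symm m).2 : ℂ))

/-- `Ψ_θ`. -/
noncomputable def Psi (θ : C.D.B →* ℂˣ) : G → ℂ := indFun C.M (C.fM θ)

theorem gen_Psi (θ : C.D.B →* ℂˣ) : IsGeneralizedCharacter G (C.Psi θ) := by
  let l1 : C.M →* ℂˣ := (lam0.comp (MonoidHom.fst _ _)).comp C.ME.symm.toMonoidHom
  let l2 : C.M →* ℂˣ := l1 * (θ.comp (MonoidHom.snd _ _)).comp C.ME.symm.toMonoidHom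
  refine ⟨indFun C.M (fun m => (l1 m : ℂ)), indFun C.M (fun m => (l2 m : ℂ)),
    isCharacter_indFun _ (isCharacter_linear l1), isCharacter_indFun _ (isCharacter_linear l2), ?_⟩
  rw [Psi, ← indFun_sub]
  congr 1
  funext m
  simp [fM, l1, l2, mul_sub]

theorem cl_Psi (θ : C.D.B →* ℂˣ) : IsClassFunction G (C.Psi θ) := isClassFunction_indFun _ _

theorem Psi_one (θ : C.D.B →* ℂˣ) : C.Psi θ 1 = 0 := by
  rw [Psi, indFun_one]
  simp [fM]

/-- The twisted characters. -/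
noncomputable def tw (θ : C.D.B →* ℂˣ) : Fin 3 → (C.D.B →* ℂˣ) := ![θ, θ.comp (C.act.comp C.act), θ.comp C.act]

theorem Psi_val (θ : C.D.B →* ℂˣ) (v : V4) {y : C.D.B} (hy : y ≠ 1) :
    C.Psi θ (C.phi (v, y)) = ∑ j : Fin 3, (lam0 (sig^[((![0, 2, 1] : Fin 3 → ℕ) j)] v) : ℂ) *
      (2 - (C.tw θ j y : ℂ) - (C.tw θ j y⁻¹ : ℂ)) := by
  let R : (Fin 3 × Bool) × (V4 × C.D.B) → G := fun q => C.rep q.1 * C.phi q.2
  have hR : Function.Injective R := fun q q' e => by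
    obtain ⟨h1, h2⟩ := C.rep_inj e
    exact Prod.ext h1 h2
  rw [Psi, indFun]
  have hzero : ∀ g ∉ Finset.univ.image R, extendByZero C.M (C.fM θ) (g⁻¹ * C.phi (v, y) * g) = 0 := by
    intro g hg
    by_cases hm : g⁻¹ * C.phi (v, y) * g ∈ C.M
    · obtain ⟨⟨v', y'⟩, hp⟩ := hm
      rw [extendByZero_mem C.M _ ⟨(v', y'), hp⟩, fM, C.ME_symm hp]
      by_cases hy' : y' = 1
      · simp [hy']
      · obtain ⟨p, m, e⟩ := C.conj_cases hy hy' hp.symm
        exact absurd (Finset.mem_image.2 ⟨(p, m), Finset.mem_univ _, e.symm⟩) hg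
    · exact extendByZero_not_mem C.M _ hm
  have hval : ∀ (p : Fin 3 × Bool) (m : V4 × C.D.B) {v' : V4} {y' : C.D.B},
      (C.rep p)⁻¹ * C.phi (v, y) * C.rep p = C.phi (v', y') →
      extendByZero C.M (C.fM θ) ((R (p, m))⁻¹ * C.phi (v, y) * R (p, m)) = (lam0 v' : ℂ) * (1 - (θ y' : ℂ)) := by
    intro p m v' y' h
    have e : (R (p, m))⁻¹ * C.phi (v, y) * R (p, m) = C.phi (v', y') := by
      rw [show (R (p, m))⁻¹ * C.phi (v, y) * R (p, m) =
        (C.phi m)⁻¹ * ((C.rep p)⁻¹ * C.phi (v, y) * C.rep p) * C.phi m by simp only [R]; group, h, mul_assoc,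
        ← map_mul, show ((v', y') : V4 × C.D.B) * m = m * (v', y') from Prod.ext (mul_comm _ _)
          (Subtype.ext (C.D.B_comm _ y'.2 _ m.2.2)), map_mul, inv_mul_cancel_left]
    rw [e, extendByZero_mem C.M _ ⟨(v', y'), rfl⟩, fM, C.ME_symm rfl]
  have r1 : ∀ (v : V4) (y : C.D.B), C.rho⁻¹ * C.phi (v, y) * C.rho = C.phi (sig^[2] v, C.act (C.act y)) := by
    intro v y
    have h3 : C.phi (v, y) = C.rho * C.phi (sig^[2] v, C.act (C.act y)) * C.rho⁻¹ := by
      rw [C.rho_phi, C.act_three]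
      congr 2
      obtain ⟨a, c⟩ := v
      rcases Int.units_eq_one_or a with rfl | rfl <;> rcases Int.units_eq_one_or c with rfl | rfl <;> decide
    rw [h3]; group
  have r2 : ∀ (v : V4) (y : C.D.B), (C.rho ^ 2)⁻¹ * C.phi (v, y) * C.rho ^ 2 = C.phi (sig^[1] v, C.act y) := by
    intro v y
    rw [show (C.rho ^ 2)⁻¹ * C.phi (v, y) * C.rho ^ 2 = C.rho⁻¹ * (C.rho⁻¹ * C.phi (v, y) * C.rho) * C.rho by
      rw [pow_two]; group, r1, r1, C.act_three]
    congr 2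
    obtain ⟨a, c⟩ := v
    rcases Int.units_eq_one_or a with rfl | rfl <;> rcases Int.units_eq_one_or c with rfl | rfl <;> decide
  have hw : ∀ (v : V4) (y : C.D.B), (C.w : G)⁻¹ * C.phi (v, y) * C.w = C.phi (v, y⁻¹) := by
    intro v y
    conv_lhs => rw [← inv_inv y, ← C.w_phi v y⁻¹]
    group
  have hrep : ∀ (j : Fin 3) (v' : V4) (y' : C.D.B),
      (C.rho ^ (j : ℕ))⁻¹ * C.phi (v, y) * C.rho ^ (j : ℕ) = C.phi (v', y') →
      ((C.rep (j, false))⁻¹ * C.phi (v, y) * C.rep (j, false) = C.phi (v', y') ∧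
        (C.rep (j, true))⁻¹ * C.phi (v, y) * C.rep (j, true) = C.phi (v', y'⁻¹)) := by
    intro j v' y' h
    constructor
    · simpa [rep] using h
    · simp only [rep, if_true]
      rw [show (C.rho ^ (j : ℕ) * (C.w : G))⁻¹ * C.phi (v, y) * (C.rho ^ (j : ℕ) * C.w) =
        (C.w : G)⁻¹ * ((C.rho ^ (j : ℕ))⁻¹ * C.phi (v, y) * C.rho ^ (j : ℕ)) * C.w by group, h, hw]
  have hj : ∀ j : Fin 3, (C.rho ^ (j : ℕ))⁻¹ * C.phi (v, y) * C.rho ^ (j : ℕ) =
      C.phi (sig^[((![0, 2, 1] : Fin 3 → ℕ) j)] v,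
        (![y, C.act (C.act y), C.act y] : Fin 3 → C.D.B) j) := by
    intro j; fin_cases j
    · simp
    · simpa using r1 v y
    · simpa using r2 v y
  rw [← Finset.sum_subset (Finset.subset_univ (Finset.univ.image R)) fun g _ hg => hzero g hg,
    Finset.sum_image fun a _ b _ e => hR e, Fintype.sum_prod_type, Fintype.sum_prod_type, Finset.mul_sum]
  refine Finset.sum_congr rfl fun j _ => ?_
  obtain ⟨e0, e1⟩ := hrep j _ _ (hj j)
  rw [Fintype.sum_bool, Finset.sum_congr rfl fun m _ => hval (j, true) m e1,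
    Finset.sum_congr rfl fun m _ => hval (j, false) m e0, Finset.sum_const, Finset.sum_const, Finset.card_univ,
    nsmul_eq_mul, nsmul_eq_mul, ← mul_add, ← mul_assoc, ← Nat.card_eq_fintype_card, C.card_model, C.card_M,
    inv_mul_cancel₀ (by exact_mod_cast (show 4 * C.D.b ≠ 0 by have := C.D.b_odd.pos; omega)), one_mul]
  have ht : (θ ((![y, C.act (C.act y), C.act y] : Fin 3 → C.D.B) j) : ℂˣ) = C.tw θ j y ∧
      (θ ((![y, C.act (C.act y), C.act y] : Fin 3 → C.D.B) j)⁻¹ : ℂˣ) = C.tw θ j y⁻¹ := by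
    fin_cases j <;> simp [tw]
  rw [ht.1, ht.2]
  ring

/-- Frobenius reciprocity on the model. -/
theorem inner_fM (θ : C.D.B →* ℂˣ) {χ : G → ℂ} (hχ : IsClassFunction G χ) :
    classInner (C.Psi θ) χ = (4 * (C.D.b : ℂ))⁻¹ *
      ∑ v : V4, ∑ y : C.D.B, (lam0 v : ℂ) * (1 - (θ y : ℂ)) * conj (χ (C.phi (v, y))) := by
  rw [Psi, frobenius _ _ hχ, classInner, C.card_M, Nat.cast_mul, Nat.cast_ofNat, ← Fintype.sum_prod_type']
  congr 1
  refine (Fintype.sum_equiv C.ME.toEquiv _ _ fun p => ?_).symm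
  simp only [fM, MulEquiv.toEquiv_eq_coe, EquivLike.coe_coe, MulEquiv.symm_apply_apply]
  rfl

theorem sum_one_sub {θ : C.D.B →* ℂˣ} (hθ : θ ≠ 1) : ∑ y : C.D.B, (1 - (θ y : ℂ)) = C.D.b := by
  rw [Finset.sum_sub_distrib, sum_linear, if_neg hθ, sub_zero, Finset.sum_const, Finset.card_univ, nsmul_eq_mul,
    mul_one, ← Nat.card_eq_fintype_card, C.D.card_B]

theorem sum_one_sub_pair {θ φ : C.D.B →* ℂˣ} (hθ : θ ≠ 1) (hφ : φ ≠ 1) :
    ∑ y : C.D.B, (1 - (θ y : ℂ)) * (2 - (φ y : ℂ) - (φ y⁻¹ : ℂ)) = (C.D.b : ℂ) * (2 + delta2 θ φ) := by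
  have hinv : ∑ y : C.D.B, (φ y⁻¹ : ℂ) = 0 := by
    rw [Fintype.sum_equiv (Equiv.inv C.D.B) (fun y => (φ y⁻¹ : ℂ)) (fun y => (φ y : ℂ)) (fun y => rfl),
      sum_linear, if_neg hφ]
  rw [Finset.sum_congr rfl (g := fun y => 2 * (1 - (θ y : ℂ)) - (φ y : ℂ) - (φ y⁻¹ : ℂ) +
    (θ y : ℂ) * ((φ y⁻¹ : ℂ) + (φ y : ℂ))) fun y _ => by ring, Finset.sum_add_distrib, Finset.sum_sub_distrib,
    Finset.sum_sub_distrib, ← Finset.mul_sum, C.sum_one_sub hθ, hinv, sum_linear, if_neg hφ, sum_pair_hom,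
    C.D.card_B]
  ring

theorem conj_lam0 (v : V4) : conj (lam0 v : ℂ) = (lam0 v : ℂ) := by
  obtain ⟨a, c⟩ := v
  simp [lam0_val]

/-- `⟨Ψ_θ, Ψ_φ⟩`. -/
theorem inner_Psi (θ φ : C.D.B →* ℂˣ) (hθ : θ ≠ 1) (hφ : φ ≠ 1) :
    classInner (C.Psi θ) (C.Psi φ) = 2 + delta2 θ φ := by
  rw [C.inner_fM θ (C.cl_Psi φ)]
  have hv : ∀ (v : V4) (y : C.D.B), (lam0 v : ℂ) * (1 - (θ y : ℂ)) * conj (C.Psi φ (C.phi (v, y))) =
      ∑ j : Fin 3, ((lam0 v : ℂ) * (lam0 (sig^[((![0, 2, 1] : Fin 3 → ℕ) j)] v) : ℂ)) *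
        ((1 - (θ y : ℂ)) * (2 - (C.tw φ j y : ℂ) - (C.tw φ j y⁻¹ : ℂ))) := by
    intro v y
    by_cases hy : y = 1
    · subst hy; simp
    · rw [C.Psi_val φ v hy, map_sum, Finset.mul_sum]
      refine Finset.sum_congr rfl fun j _ => ?_
      rw [map_mul, conj_lam0, map_sub, map_sub, map_ofNat, conj_lin, conj_lin, inv_inv]
      ring
  rw [Finset.sum_congr rfl fun v _ => (Finset.sum_congr rfl fun y _ => hv v y).trans Finset.sum_comm,
    Finset.sum_comm]
  simp only [← Finset.mul_sum, ← Finset.sum_mul]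
  rw [Fin.sum_univ_three]
  have h1 : ∑ v, (lam0 v : ℂ) * (lam0 (sig^[2] v) : ℂ) = 0 := by simpa using lam_orth 2
  have h2 : ∑ v, (lam0 v : ℂ) * (lam0 (sig^[1] v) : ℂ) = 0 := by simpa using lam_orth 1
  have h0 : ∑ v, (lam0 v : ℂ) * (lam0 (sig^[0] v) : ℂ) = 4 := by simpa using lam_orth 0
  simp only [Matrix.cons_val_zero, Matrix.cons_val_one, Matrix.cons_val, h0, h1, h2, zero_mul, add_zero]
  rw [show C.tw φ 0 = φ from rfl, C.sum_one_sub_pair hθ hφ]
  have := C.D.bC_ne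
  field_simp

theorem phi_one (v : V4) : C.phi (v, 1) = C.vH v := by rw [phi_apply, map_one, mul_one]

theorem lift_phi {Φ : C.S.K → ℂ} (hΦ : IsClassFunction C.S.K Φ) (hodd : ∀ z : C.S.K, ¬ Odd (orderOf z) → Φ z = 0)
    (y : C.D.B) :
    C.S.lift Φ (C.phi ((1, 1), y)) = 0 ∧ C.S.lift Φ (C.phi ((-1, 1), y)) = 2 * Φ (y : C.S.K) ∧
      C.S.lift Φ (C.phi ((1, -1), y)) = 2 * Φ (C.act (C.act y) : C.S.K) ∧
      C.S.lift Φ (C.phi ((-1, -1), y)) = 2 * Φ (C.act y : C.S.K) := by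
  have hcl : IsClassFunction G (C.S.lift Φ) := isClassFunction_indFun _ _
  have h0 : ∀ z : C.D.B, C.S.lift Φ (C.phi ((-1, 1), z)) = 2 * Φ (z : C.S.K) := fun z => by
    rw [phi_apply, C.vH_t]
    exact C.S.lift_tK hΦ hodd (by
      show Odd (orderOf (z : C.S.K))
      rw [Subgroup.orderOf_coe]
      exact C.odd_B z)
  have h1 : ∀ z : C.D.B, C.S.lift Φ (C.phi ((1, -1), C.act z)) = C.S.lift Φ (C.phi ((-1, 1), z)) := fun z => by
    rw [show (((1, -1), C.act z) : V4 × C.D.B) = (sig (-1, 1), C.act z) from rfl, ← C.rho_phi, hcl]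
  have h2 : ∀ z : C.D.B, C.S.lift Φ (C.phi ((-1, -1), C.act z)) = C.S.lift Φ (C.phi ((1, -1), z)) := fun z => by
    rw [show (((-1, -1), C.act z) : V4 × C.D.B) = (sig (1, -1), C.act z) from rfl, ← C.rho_phi, hcl]
  refine ⟨?_, h0 y, ?_, ?_⟩
  · rw [phi_apply, show C.vH (1, 1) = 1 from map_one _, one_mul]
    exact lift_odd _ _ (C.odd_emb y)
  · have h := h1 (C.act (C.act y))
    rw [C.act_three] at h
    rw [h, h0]
  · have h := h2 (C.act (C.act y))
    rw [C.act_three] at h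
    rw [h, ← h0, ← h1]

/-- `⟨Ψ_θ, lift Φ⟩`. -/
theorem inner_Psi_lift (θ : C.D.B →* ℂˣ) {Φ : C.S.K → ℂ} (hΦ : IsClassFunction C.S.K Φ)
    (hodd : ∀ z : C.S.K, ¬ Odd (orderOf z) → Φ z = 0) :
    classInner (C.Psi θ) (C.S.lift Φ) = (2 * (C.D.b : ℂ))⁻¹ * ∑ y : C.D.B, (1 - (θ y : ℂ)) *
      (conj (Φ (y : C.S.K)) - conj (Φ (C.act (C.act y) : C.S.K)) - conj (Φ (C.act y : C.S.K))) := by
  rw [C.inner_fM θ (χ := C.S.lift Φ) (isClassFunction_indFun _ _), Finset.sum_comm, Finset.mul_sum, Finset.mul_sum]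
  refine Finset.sum_congr rfl fun y _ => ?_
  obtain ⟨a, b, c, e⟩ := C.lift_phi hΦ hodd y
  change (4 * (C.D.b : ℂ))⁻¹ * ∑ v : V4, (lam0 v : ℂ) * (1 - (θ y : ℂ)) * conj (C.S.lift Φ (C.phi (v, y))) = _
  rw [sum_V4, a, b, c, e]
  simp [lam0_val, map_ofNat]
  ring

theorem inner_Psi_const {θ : C.D.B →* ℂˣ} (hθ : θ ≠ 1) {Φ : C.S.K → ℂ} (hΦ : IsClassFunction C.S.K Φ)
    (hodd : ∀ z : C.S.K, ¬ Odd (orderOf z) → Φ z = 0) {k : ℂ} (hk : ∀ y : C.D.B, y ≠ 1 → Φ y = k) :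
    classInner (C.Psi θ) (C.S.lift Φ) = -(conj k) / 2 := by
  rw [C.inner_Psi_lift θ hΦ hodd]
  have hv : ∀ y : C.D.B, (1 - (θ y : ℂ)) * (conj (Φ (y : C.S.K)) - conj (Φ (C.act (C.act y) : C.S.K)) -
      conj (Φ (C.act y : C.S.K))) = (1 - (θ y : ℂ)) * (-conj k) := by
    intro y
    by_cases hy : y = 1
    · subst hy; simp
    · have h1 : C.act y ≠ 1 := fun e => hy (C.act_bijective.1 (e.trans (map_one C.act).symm))
      have h2 : C.act (C.act y) ≠ 1 := fun e => h1 (C.act_bijective.1 (e.trans (map_one C.act).symm))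
      rw [hk y hy, hk _ h1, hk _ h2]; ring
  rw [Finset.sum_congr rfl fun y _ => hv y, ← Finset.sum_mul, C.sum_one_sub hθ]
  have := C.D.bC_ne
  field_simp

theorem tw_ne {φ : C.D.B →* ℂˣ} (hφ : φ ≠ 1) (j : Fin 3) : C.tw φ j ≠ 1 := by
  have h : ∀ ψ : C.D.B →* ℂˣ, ψ ≠ 1 → ψ.comp C.act ≠ 1 := fun ψ hψ e => hψ (MonoidHom.ext fun y => by
    obtain ⟨z, rfl⟩ := C.act_bijective.2 y
    exact DFunLike.congr_fun e z)
  fin_cases j
  · exact hφ
  · exact h _ (h φ hφ)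
  · exact h φ hφ

/-- `⟨Ψ_θ, lift Y_φ⟩`. -/
theorem inner_Psi_Y {θ φ : C.D.B →* ℂˣ} (hθ : θ ≠ 1) (hφ : φ ≠ 1) :
    classInner (C.Psi θ) (C.S.lift (C.D.Yf φ)) =
      delta2 θ φ - delta2 θ (φ.comp (C.act.comp C.act)) - delta2 θ (φ.comp C.act) := by
  rw [C.inner_Psi_lift θ (C.D.cl_Yf φ) (fun z hz => C.D.Yf_even φ hz)]
  have hconj : ∀ z : C.D.B, z ≠ 1 → conj (C.D.Yf φ (z : C.S.K)) = -2 * ((φ z⁻¹ : ℂ) + (φ z : ℂ)) := fun z hz => by
    rw [C.D.Yf_B φ hz, map_mul, map_neg, map_ofNat, map_add, conj_lin, conj_lin, inv_inv]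
  have hv : ∀ y : C.D.B, (1 - (θ y : ℂ)) * (conj (C.D.Yf φ (y : C.S.K)) -
      conj (C.D.Yf φ (C.act (C.act y) : C.S.K)) - conj (C.D.Yf φ (C.act y : C.S.K))) =
      -2 * ((1 - (θ y : ℂ)) * ((C.tw φ 0 y⁻¹ : ℂ) + (C.tw φ 0 y : ℂ))) +
      2 * ((1 - (θ y : ℂ)) * ((C.tw φ 1 y⁻¹ : ℂ) + (C.tw φ 1 y : ℂ))) +
      2 * ((1 - (θ y : ℂ)) * ((C.tw φ 2 y⁻¹ : ℂ) + (C.tw φ 2 y : ℂ))) := by
    intro y
    by_cases hy : y = 1
    · subst hy; simp
    · have h1 : C.act y ≠ 1 := fun e => hy (C.act_bijective.1 (e.trans (map_one C.act).symm))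
      have h2 : C.act (C.act y) ≠ 1 := fun e => h1 (C.act_bijective.1 (e.trans (map_one C.act).symm))
      rw [hconj y hy, hconj _ h1, hconj _ h2]
      simp only [tw, Matrix.cons_val_zero, Matrix.cons_val_one, Matrix.cons_val, MonoidHom.comp_apply, map_inv]
      ring
  have hS : ∀ j : Fin 3, ∑ y : C.D.B, (1 - (θ y : ℂ)) * ((C.tw φ j y⁻¹ : ℂ) + (C.tw φ j y : ℂ)) =
      -((C.D.b : ℂ) * delta2 θ (C.tw φ j)) := by
    intro j
    have hinv : ∑ y : C.D.B, (C.tw φ j y⁻¹ : ℂ) = 0 := by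
      rw [Fintype.sum_equiv (Equiv.inv C.D.B) (fun y => (C.tw φ j y⁻¹ : ℂ)) (fun y => (C.tw φ j y : ℂ))
        (fun y => rfl), sum_linear, if_neg (C.tw_ne hφ j)]
    simp only [sub_mul, one_mul, Finset.sum_sub_distrib, sum_pair_hom, C.D.card_B, Finset.sum_add_distrib, hinv,
      sum_linear, if_neg (C.tw_ne hφ j)]
    ring
  rw [Finset.sum_congr rfl fun y _ => hv y, Finset.sum_add_distrib, Finset.sum_add_distrib, ← Finset.mul_sum,
    ← Finset.mul_sum, ← Finset.mul_sum, hS, hS, hS]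
  simp only [tw, Matrix.cons_val_zero, Matrix.cons_val_one, Matrix.cons_val]
  have := C.D.bC_ne
  field_simp
  ring

theorem inner_Psi_one (θ : C.D.B →* ℂˣ) : classInner (C.Psi θ) (fun _ => 1) = 0 := by
  rw [C.inner_fM θ (fun _ _ => rfl)]
  simp only [map_one, mul_one, ← Finset.mul_sum, ← Finset.sum_mul, lam0_sum, zero_mul, mul_zero]

/-- The pair count on `V × B`. -/
theorem pairs_phi {y : C.D.B} (hy : y ≠ 1) (v : V4) : pairs (C.phi (v, y)) = 4 * C.D.b := by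
  have hK : ∀ z : C.D.B, z ≠ 1 → pairs (C.S.t * C.emb z) = 4 * C.D.b := by
    intro z hz
    rw [show C.S.t * C.emb z = C.S.t * ((z : C.S.K) : G) from rfl,
      C.S.pairs_tK (by rw [Subgroup.orderOf_coe]; exact C.odd_B z),
      show 4 * C.D.b = 2 * (2 * C.D.b) by ring]
    congr 1
    have h := C.D.cntB z z.2 (fun e => hz (Subtype.ext e)) _ (inv_mem z.2)
    rw [if_pos (Or.inr rfl)] at h
    rw [← h]
    refine Nat.card_congr (Equiv.subtypeEquivRight fun x => ?_)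
    refine ⟨fun hx => hx.2, fun hx => ⟨?_, hx⟩⟩
    refine orderOf_eq_prime (by rw [pow_two]; exact (C.inv_props hz hx).1) fun e => ?_
    rw [e, one_mul, inv_one, mul_one] at hx
    exact C.ne_inv hz (Subtype.ext hx)
  have h1 : ∀ z : C.D.B, z ≠ 1 → pairs (C.phi ((-1, 1), z)) = 4 * C.D.b := fun z hz => by
    rw [phi_apply, C.vH_t]; exact hK z hz
  have hact : ∀ z : C.D.B, z ≠ 1 → C.act z ≠ 1 :=
    fun z hz e => hz (C.act_bijective.1 (e.trans (map_one C.act).symm))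
  have h2 : ∀ z : C.D.B, z ≠ 1 → pairs (C.phi ((1, -1), z)) = 4 * C.D.b := fun z hz => by
    have hz2 := hact _ (hact z hz)
    rw [← h1 _ hz2, ← pairs_class (C.phi ((-1, 1), C.act (C.act z))) C.rho, C.rho_phi, C.act_three]
    rfl
  obtain ⟨a, c⟩ := v
  rcases Int.units_eq_one_or a with rfl | rfl <;> rcases Int.units_eq_one_or c with rfl | rfl
  · rw [pairs, ← C.card_model]
    refine (Nat.card_congr (Equiv.ofBijective (fun m : V4 × C.D.B => (⟨(C.w : G) * C.phi m, ?_⟩ :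
      {u : G // orderOf u = 2 ∧ orderOf (u * C.phi ((1, 1), y)) = 2})) ⟨?_, ?_⟩)).symm
    · have hinv : ∀ m : V4 × C.D.B, orderOf ((C.w : G) * C.phi m) = 2 := by
        rintro ⟨v, z⟩
        refine orderOf_eq_prime ?_ fun e => ?_
        · rw [pow_two, show (C.w : G) * C.phi (v, z) * ((C.w : G) * C.phi (v, z)) =
            ((C.w : G) * C.phi (v, z) * (C.w : G)⁻¹) * ((C.w * C.w : C.S.K) : G) * C.phi (v, z) by
              rw [Subgroup.coe_mul]; group, C.w_phi, C.w_sq]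
          rw [Subgroup.coe_one, mul_one, ← map_mul, show ((v, z⁻¹) : V4 × C.D.B) * (v, z) = 1 from
            Prod.ext (Prod.ext (Int.units_mul_self _) (Int.units_mul_self _)) (inv_mul_cancel z), map_one]
        · have h2 : C.rep (0, true) * C.phi (v, z) = C.rep (0, false) * C.phi 1 := by simp [rep, e]
          simpa using (congrArg Prod.snd (C.rep_inj h2).1)
      exact ⟨hinv m, by rw [mul_assoc, ← map_mul]; exact hinv _⟩
    · intro m m' e
      exact C.phi_inj (mul_left_cancel (congrArg Subtype.val e))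
    · rintro ⟨u, hu1, hu2⟩
      have s1 := sq_of_order_two hu1
      have s2 := sq_of_order_two hu2
      have e : u * C.emb y * u⁻¹ = (C.emb y)⁻¹ := by
        rw [phi_apply, show C.vH (1, 1) = 1 from map_one _, one_mul] at s2
        rw [inv_eq_of_mul_eq_one_left s1]
        exact eq_inv_of_mul_eq_one_left (by rw [← s2]; group)
      have hcase : u⁻¹ * C.phi ((1, 1), y) * u = C.phi ((1, 1), y⁻¹) := by
        rw [phi_apply, phi_apply, show C.vH (1, 1) = 1 from map_one _, one_mul, one_mul, map_inv, ← e,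
          inv_eq_of_mul_eq_one_left s1]
      obtain ⟨⟨j, i⟩, m, hm⟩ := C.conj_cases hy (fun e => hy (inv_eq_one.1 e)) hcase
      have hA : ∀ z : C.D.B, (C.w : G)⁻¹ * C.emb z * C.w = (C.emb z)⁻¹ := fun z => by
        rw [inv_eq_of_mul_eq_one_left (show (C.w : G) * C.w = 1 from congrArg Subtype.val C.w_sq)]
        have := C.w_emb z
        rwa [inv_eq_of_mul_eq_one_left (show (C.w : G) * C.w = 1 from congrArg Subtype.val C.w_sq)] at this
      have hm' : ∀ z : C.D.B, (C.phi m)⁻¹ * C.emb z * C.phi m = C.emb z := fun z => by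
        rw [show C.emb z = C.phi (1, z) by rw [phi_apply, map_one, one_mul], mul_assoc, ← map_mul,
          show ((1 : V4), z) * m = m * (1, z) from Prod.ext (mul_comm _ _) (Subtype.ext (C.D.B_comm _ z.2 _ m.2.2)),
          map_mul, inv_mul_cancel_left]
      have hu' : u⁻¹ * C.emb y * u = (C.emb y)⁻¹ := by
        rw [← e, inv_eq_of_mul_eq_one_left s1]
      rw [hm] at hu'
      -- the power of `ρ` moves `y` to `y` or its inverse
      obtain ⟨z, hz⟩ : ∃ z : C.D.B, (C.rho ^ (j : ℕ))⁻¹ * C.emb y * C.rho ^ (j : ℕ) = C.emb z ∧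
          z = (![y, C.act (C.act y), C.act y] : Fin 3 → C.D.B) j := by
        refine ⟨_, ?_, rfl⟩
        fin_cases j
        · simp
        · show (C.rho ^ 1)⁻¹ * C.emb y * C.rho ^ 1 = C.emb (C.act (C.act y))
          rw [pow_one]
          conv_lhs => rw [← C.act_three y, C.emb_act]
          group
        · show (C.rho ^ 2)⁻¹ * C.emb y * C.rho ^ 2 = C.emb (C.act y)
          conv_lhs => rw [← C.act_three y, C.emb_act, C.emb_act]
          rw [pow_two]
          group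
      have hz' : i = true ∧ z = y ∨ i = false ∧ z = y⁻¹ := by
        rw [rep, show (C.rho ^ (j : ℕ) * (if i then (C.w : G) else 1) * C.phi m)⁻¹ * C.emb y *
          (C.rho ^ (j : ℕ) * (if i then (C.w : G) else 1) * C.phi m) = (C.phi m)⁻¹ * ((if i then (C.w : G) else 1)⁻¹ *
          ((C.rho ^ (j : ℕ))⁻¹ * C.emb y * C.rho ^ (j : ℕ)) * (if i then (C.w : G) else 1)) * C.phi m by group,
          hz.1] at hu'
        cases i
        · refine Or.inr ⟨rfl, C.emb_inj ?_⟩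
          simp only [Bool.false_eq_true, if_false, inv_one, one_mul, mul_one, hm'] at hu'
          rw [hu', map_inv]
        · refine Or.inl ⟨rfl, C.emb_inj ?_⟩
          rw [if_pos rfl, hA, ← map_inv C.emb z, hm', ← map_inv C.emb y] at hu'
          exact congrArg C.emb (inv_injective (C.emb_inj hu'))
      have key : j = 0 := by
        by_contra hj0
        apply hy
        have h3 := C.act_three y
        rcases (show j = 1 ∨ j = 2 by omega) with rfl | rfl <;> rcases hz' with ⟨-, e⟩ | ⟨-, e⟩ <;>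
          rw [hz.2] at e <;> simp only [Matrix.cons_val_one, Matrix.cons_val, Matrix.cons_val_zero] at e
        · rw [e] at h3; exact C.act_fpf h3
        · rw [e, map_inv, inv_eq_iff_eq_inv] at h3; exact C.act_ne_inv h3
        · exact C.act_fpf e
        · exact C.act_ne_inv e
      subst key
      rcases hz' with ⟨rfl, -⟩ | ⟨-, e⟩
      · exact ⟨m, Subtype.ext (by simp only [hm, rep]; simp)⟩
      · rw [hz.2] at e
        exact absurd e (C.ne_inv hy)
  · exact h2 y hy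
  · exact h1 y hy
  · have hz2 := hact _ (hact y hy)
    rw [← h2 _ hz2, ← pairs_class (C.phi ((1, -1), C.act (C.act y))) C.rho, C.rho_phi, C.act_three]
    rfl

/-- The equation sum of `Ψ_θ` vanishes. -/
theorem Psi_pairs (θ : C.D.B →* ℂˣ) :
    ∑ a : G, ∑ b : G, C.Psi θ (a * C.S.t * a⁻¹ * (b * C.S.t * b⁻¹)) = 0 := by
  rw [sum_pairs C.S C.hconj, C.inner_fM θ (fun g h => by simp only [pairs_class])]
  have hv : ∀ (v : V4) (y : C.D.B), (lam0 v : ℂ) * (1 - (θ y : ℂ)) * conj ((pairs (C.phi (v, y)) : ℕ) : ℂ) =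
      (lam0 v : ℂ) * ((1 - (θ y : ℂ)) * ((4 * C.D.b : ℕ) : ℂ)) := by
    intro v y
    by_cases hy : y = 1
    · subst hy; simp
    · rw [C.pairs_phi hy, map_natCast]; ring
  simp only [hv, ← Finset.mul_sum, ← Finset.sum_mul, lam0_sum, zero_mul, mul_zero]

/-- The multiplicities on `V × B`. -/
theorem Psi_coeff {χ : G → ℂ} (hχ : IsCharacter G χ) {c : ℤ}
    (hc : ∀ θ : C.D.B →* ℂˣ, θ ≠ 1 → classInner (C.Psi θ) χ = c) :
    ∃ m : ℤ, χ 1 - conj (χ C.S.t) = 4 * (c : ℂ) + 4 * (C.D.b : ℂ) * m := by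
  haveI := finite_hom_units C.D.B
  haveI : Fintype (C.D.B →* ℂˣ) := Fintype.ofFinite _
  have hcl := isClassFunction_character hχ
  have hcomm : ∀ x y : C.D.B, x * y = y * x := fun x y => Subtype.ext (C.D.B_comm x x.2 y y.2)
  set T : (C.D.B →* ℂˣ) → ℂ := fun θ => (4 * (C.D.b : ℂ))⁻¹ *
    ∑ v : V4, ∑ y : C.D.B, (lam0 v : ℂ) * (θ y : ℂ) * conj (χ (C.phi (v, y))) with hT
  have hsub : ∀ θ, classInner (C.Psi θ) χ = T 1 - T θ := by
    intro θ
    rw [C.inner_fM θ hcl, hT]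
    simp only [MonoidHom.one_apply, Units.val_one, mul_one, mul_sub, sub_mul, Finset.sum_sub_distrib]
  obtain ⟨n, hn⟩ := classInner_natCast (isCharacter_linear (lam0.comp (MonoidHom.fst V4 C.D.B)))
    (isCharacter_comp C.phi hχ)
  have hn1 : T 1 = n := by
    rw [← hn, classInner, C.card_model, Fintype.sum_prod_type, Nat.cast_mul, Nat.cast_ofNat]
    simp [hT]
  have hsum : ∑ θ : C.D.B →* ℂˣ, T θ = (conj (χ 1) - conj (χ C.S.t)) / 4 := by
    simp only [hT]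
    rw [← Finset.mul_sum, Finset.sum_comm, Finset.sum_congr rfl fun v _ => Finset.sum_comm]
    have h : ∀ v : V4, ∑ y : C.D.B, ∑ θ : C.D.B →* ℂˣ, (lam0 v : ℂ) * (θ y : ℂ) * conj (χ (C.phi (v, y))) =
        (lam0 v : ℂ) * (C.D.b : ℂ) * conj (χ (C.vH v)) := by
      intro v
      rw [Finset.sum_congr rfl (g := fun y => if y = 1 then (lam0 v : ℂ) * (C.D.b : ℂ) * conj (χ (C.phi (v, y)))
        else 0) fun y _ => by
          rw [← Finset.sum_mul, ← Finset.mul_sum, sum_hom_apply hcomm, C.D.card_B]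
          split_ifs <;> ring,
        Finset.sum_ite_eq', if_pos (Finset.mem_univ _), C.phi_one]
    have e1 : χ C.s = χ C.S.t := by rw [← C.rho_t, hcl]
    have e2 : χ (C.S.t * C.s) = χ C.S.t := by rw [← C.rho_s, hcl, e1]
    rw [Finset.sum_congr rfl fun v _ => h v, sum_V4, show C.vH (1, 1) = 1 from map_one _, C.vH_s, C.vH_t, C.vH_ts,
      e1, e2]
    have := C.D.bC_ne
    simp [lam0_val]
    field_simp
    ring
  have hTθ : ∀ θ : C.D.B →* ℂˣ, θ ≠ 1 → T θ = (n : ℂ) - c := fun θ hθ => by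
    rw [← hc θ hθ, hsub, hn1]; ring
  refine ⟨n - c, ?_⟩
  rw [← Finset.add_sum_erase _ _ (Finset.mem_univ (1 : C.D.B →* ℂˣ)),
    Finset.sum_congr rfl fun θ hθ => hTθ θ (Finset.mem_erase.1 hθ).1, Finset.sum_const,
    Finset.card_erase_of_mem (Finset.mem_univ _), Finset.card_univ, card_hom_comm C.D.B_comm, C.D.card_B, hn1,
    nsmul_eq_mul, Nat.cast_sub C.D.b_odd.pos] at hsum
  obtain ⟨d, hd⟩ := charOne_eq_natCast hχ
  rw [hd, map_natCast] at hsum
  rw [hd]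
  push_cast at hsum ⊢
  linear_combination (-4 : ℂ) * hsum

end Ctx

end Cfsg.Agent.Char.ReeOrder
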