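import Cfsg.Agent.Lib.Classical.SL2FourSylow
import Cfsg.Agent.Lib.PushUp.SL2Overgroup

/-!
# Involutions and two-subgroups of `PSL₂(q)`
-/

set_option autoImplicit false
set_option linter.unusedSectionVars false
set_option linter.style.haveILetI false

namespace Cfsg.Agent.Char.ReeOrder.PslFacts

open Cfsg.Agent.Small Cfsg.Agent.Small.SL2C Cfsg.Agent.Classical.SL2Four

variable {F : Type*} [Field F] [Fintype F]

local notation "SL2" => Matrix.SpecialLinearGroup (Fin 2) F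
local notation "P2" => Matrix.ProjectiveSpecialLinearGroup (Fin 2) F

theorem card_two_pow (h2 : (2 : F) = 0) : ∃ n, 1 ≤ n ∧ Fintype.card F = 2 ^ n := by
  haveI : Fact (Nat.Prime 2) := ⟨Nat.prime_two⟩
  haveI : CharP F 2 := CharTwo.of_one_ne_zero_of_two_eq_zero one_ne_zero h2
  obtain ⟨n, -, hn⟩ := FiniteField.card F 2
  exact ⟨n, n.2, hn⟩

theorem uS_sq (h2 : (2 : F) = 0) (x : F) : PSL2.pr (PSL2.uS x) * PSL2.pr (PSL2.uS x) = 1 := by
  rw [← map_mul, ← PSL2.uS_add, show x + x = 0 by linear_combination x * h2]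
  exact PSL2.uP.map_one

theorem uS_order (h2 : (2 : F) = 0) {x : F} (hx : x ≠ 0) : orderOf (PSL2.pr (PSL2.uS x)) = 2 :=
  orderOf_eq_prime (by rw [pow_two, uS_sq h2]) fun e => hx (PSL2.pr_uS_inj (e.trans PSL2.uP.map_one.symm))

theorem hS_conj (a : Fˣ) (x : F) :
    PSL2.pr (PSL2.hS a) * PSL2.pr (PSL2.uS x) * (PSL2.pr (PSL2.hS a))⁻¹ =
      PSL2.pr (PSL2.uS ((a : F) ^ 2 * x)) := by
  rw [← map_mul, PSL2.hS_uS, map_mul, mul_inv_cancel_right]

theorem uS_conj_one (h2 : (2 : F) = 0) {y : F} (hy : y ≠ 0) :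
    IsConj (PSL2.pr (PSL2.uS (1 : F))) (PSL2.pr (PSL2.uS y)) := by
  obtain ⟨r, hr⟩ := SL2C.isSquare_of_two h2 y
  have hr0 : r ≠ 0 := fun e => hy (by rw [← hr, e, mul_zero])
  refine isConj_iff.2 ⟨PSL2.pr (PSL2.hS (Units.mk0 r hr0)), ?_⟩
  rw [hS_conj, Units.val_mk0, mul_one, pow_two, hr]

theorem inv_conj {x y : P2} (hx : orderOf x = 2) (hy : orderOf y = 2) : IsConj x y := by
  by_cases h2 : (2 : F) = 0
  swap
  · exact involutions_conj h2 hx hy
  haveI : Fact (Nat.Prime 2) := ⟨Nat.prime_two⟩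
  obtain ⟨n, hn, hF⟩ := card_two_pow h2
  have key : ∀ z : P2, orderOf z = 2 → IsConj (PSL2.pr (PSL2.uS (1 : F))) z := by
    intro z hz
    obtain ⟨T, hT⟩ := (IsPGroup.of_card (p := 2) (n := 1) (G := Subgroup.zpowers z) (by
      rw [Nat.card_zpowers, hz, pow_one])).exists_le_sylow
    have hU : IsPGroup 2 (PSL2.U : Subgroup P2) := IsPGroup.of_card (PushUp.card_U'.trans hF)
    obtain ⟨P, hP⟩ := hU.exists_le_sylow
    have hPU : (PSL2.U : Subgroup P2) = P := Subgroup.eq_of_le_of_card_ge hP (by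
      rw [PushUp.card_U', hF, PushUp.sylow_psl_card hF hn P])
    obtain ⟨c, hc⟩ := MulAction.exists_smul_eq P2 P T
    have hzT := hT (Subgroup.mem_zpowers z)
    rw [← hc, Sylow.coe_subgroup_smul, ← hPU] at hzT
    obtain ⟨w, hw, hwz⟩ := hzT
    obtain ⟨u, rfl⟩ := (PSL2.mem_U w).1 hw
    have hwz' : c * PSL2.pr (PSL2.uS u) * c⁻¹ = z := hwz
    have hu : u ≠ 0 := by
      rintro rfl
      rw [show PSL2.pr (PSL2.uS (0 : F)) = 1 from PSL2.uP.map_one, mul_one, mul_inv_cancel] at hwz'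
      rw [← hwz', orderOf_one] at hz
      omega
    exact (uS_conj_one h2 hu).trans (isConj_iff.2 ⟨c, hwz'⟩)
  exact (key x hx).symm.trans (key y hy)

theorem exists_two_inv (hq : 3 ≤ Fintype.card F) : ∃ x y : P2, orderOf x = 2 ∧ orderOf y = 2 ∧ x ≠ y := by
  classical
  by_cases h2 : (2 : F) = 0
  · obtain ⟨y, hy⟩ : ∃ y : F, y ≠ 0 ∧ y ≠ 1 := by
      by_contra h
      push Not at h
      have : (Finset.univ : Finset F) ⊆ {0, 1} := fun y _ => by
        by_cases e : y = 0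
        · simp [e]
        · simp [h y e]
      have := (Finset.card_le_card this).trans Finset.card_le_two
      rw [Finset.card_univ] at this
      omega
    exact ⟨_, _, uS_order h2 one_ne_zero, uS_order h2 hy.1, fun e => hy.2 (PSL2.pr_uS_inj e).symm⟩
  · obtain ⟨A, hA⟩ := exists_trace_zero (F := F) h2
    obtain ⟨j, hj⟩ := exists_anti h2 hA
    obtain ⟨hx, hy, -, hne⟩ := (isPair_pr_iff h2 (A, j)).2 ⟨hA, hj⟩
    exact ⟨_, _, hx, hy, hne⟩

theorem mod_eight (h2 : (2 : F) ≠ 0)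
    (hab : ∀ R : Subgroup P2, IsPGroup 2 R → ∀ a ∈ R, ∀ b ∈ R, a * b = b * a) :
    Fintype.card F % 8 = 3 ∨ Fintype.card F % 8 = 5 := by
  haveI : Fact (Nat.Prime 2) := ⟨Nat.prime_two⟩
  have hodd := card_odd_of_two_ne_zero (F := F) h2
  by_contra hc
  have h8' : Fintype.card F % 8 = 1 ∨ Fintype.card F % 8 = 7 := by omega
  obtain ⟨S⟩ : Nonempty (Sylow 2 SL2) := inferInstance
  obtain ⟨g, k, ht, -, hS, -, ⟨x, hxS, hxt, hxo⟩, ⟨s, hsS, hst⟩, h8⟩ := SL2C.sylow_two_setup h2 S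
  have hk : 3 ≤ k := h8.2 h8'
  have hcomm : PSL2.pr s * PSL2.pr x = PSL2.pr x * PSL2.pr s :=
    hab _ (S.2.map PSL2.pr) _ ⟨s, hsS, rfl⟩ _ ⟨x, hxS, rfl⟩
  have hinv := inverts (not_isSc_of_trace ht) ((normalizer_cases ht (hS hsS)).resolve_left hst) hxt
  rw [← map_mul, hinv, map_mul, map_inv] at hcomm
  have hx2 : PSL2.pr (x * x) = 1 := by
    rw [map_mul]
    exact inv_eq_iff_mul_eq_one.1 (mul_right_cancel hcomm)
  obtain ⟨ε, hε, he⟩ := (PSL2.pr_eq_iff (x * x) 1).1 (by rw [hx2, map_one])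
  have h4 : x ^ 4 = 1 := by
    rw [show (4 : ℕ) = 2 * 2 from rfl, pow_mul, pow_two, pow_two]
    apply Subtype.ext
    rw [PSL2.val_mul, he]
    show ε • (1 : Matrix (Fin 2) (Fin 2) F) * ε • (1 : Matrix (Fin 2) (Fin 2) F) = 1
    rw [Matrix.smul_mul, Matrix.mul_smul, Matrix.mul_one, smul_smul, hε, one_smul]
  have hd := orderOf_dvd_of_pow_eq_one h4
  rw [hxo] at hd
  have h8d : (2 : ℕ) ^ 3 ∣ 4 := (pow_dvd_pow 2 hk).trans hd
  norm_num at h8d

end Cfsg.Agent.Char.ReeOrder.PslFacts
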