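import Cfsg.Agent.Lib.Char.ReeThree.TSection
import Cfsg.Agent.Lib.Char.ReeOrder.PslFacts
import Cfsg.Agent.S0111

/-!
# From the isomorphism type of the centraliser to the setting
-/

set_option autoImplicit false
set_option linter.unusedSectionVars false
set_option linter.style.haveILetI false

namespace Cfsg.Agent.Char.ReeOrder

open Subgroup Cfsg.Agent.Char.ReeThree

universe u v

section

variable {G : Type u} [Group G] [Finite G] {F : Type v} [Field F] [Fintype F]

local notation "P2" => Matrix.ProjectiveSpecialLinearGroup (Fin 2) F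

theorem exists_split (hq : 3 ≤ Fintype.card F) {t : G} (ht : orderOf t = 2)
    (e : centralizer ({t} : Set G) ≃* Multiplicative (ZMod 2) × P2) :
    ∃ S : Split G, S.t = t ∧ Nonempty (S.K ≃* P2) := by
  have two : ∀ a : Multiplicative (ZMod 2), a = 1 ∨ a = Multiplicative.ofAdd 1 := by decide
  have htC : t ∈ centralizer ({t} : Set G) := mem_centralizer_singleton_iff.2 rfl
  set et := e ⟨t, htC⟩ with het
  have hne : et ≠ 1 := fun h => by
    have h1 : (⟨t, htC⟩ : centralizer ({t} : Set G)) = 1 := e.injective (h.trans (map_one e).symm)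
    rw [show t = 1 from congrArg Subtype.val h1, orderOf_one] at ht
    omega
  have hcen : ∀ l : P2, et.2 * l = l * et.2 := fun l => by
    have h := congrArg (fun c => (e c).2) (show (⟨t, htC⟩ : centralizer ({t} : Set G)) * e.symm (1, l) =
      e.symm (1, l) * ⟨t, htC⟩ from Subtype.ext (mem_centralizer_singleton_iff.1 (e.symm (1, l)).2).symm)
    simpa using h
  have hsq : et * et = 1 := by
    rw [het, ← map_mul, show (⟨t, htC⟩ : centralizer ({t} : Set G)) * ⟨t, htC⟩ = 1 from
      Subtype.ext (show t * t = 1 by rw [← pow_two, ← ht, pow_orderOf_eq_one]), map_one]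
  have hz : et.2 = 1 := by
    by_contra hz
    have hz2 : orderOf et.2 = 2 := orderOf_eq_prime (by rw [pow_two]; exact congrArg Prod.snd hsq) hz
    obtain ⟨x, y, hx, hy, hxy⟩ := PslFacts.exists_two_inv (F := F) hq
    have hall : ∀ w : P2, orderOf w = 2 → et.2 = w := fun w hw => by
      obtain ⟨c, hc⟩ := isConj_iff.1 (PslFacts.inv_conj hz2 hw)
      rwa [← hcen c, mul_inv_cancel_right] at hc
    exact hxy ((hall x hx).symm.trans (hall y hy))
  have ha : et.1 = Multiplicative.ofAdd 1 := (two et.1).resolve_left fun h => hne (Prod.ext h hz)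
  let f : P2 →* G := (centralizer ({t} : Set G)).subtype.comp (e.symm.toMonoidHom.comp (MonoidHom.inr _ _))
  have hf : Function.Injective f := fun a b h => congrArg Prod.snd (e.symm.injective (Subtype.ext h))
  have hfC : ∀ l, f l ∈ centralizer ({t} : Set G) := fun l => (e.symm (1, l)).2
  have hK : f.range ≤ centralizer ({t} : Set G) := by rintro _ ⟨l, rfl⟩; exact hfC l
  have hval : ∀ l, e ⟨f l, hfC l⟩ = (1, l) := fun l => e.apply_symm_apply (1, l)
  refine ⟨⟨t, f.range, ht, zpowers_le.2 htC, hK, ?_, ?_, le_antisymm (sup_le (zpowers_le.2 htC) hK) ?_⟩, rfl,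
    ⟨(MonoidHom.ofInjective hf).symm⟩⟩
  · intro a ha' b hb
    obtain ⟨k, rfl⟩ := mem_zpowers_iff.1 ha'
    exact (Commute.zpow_left (mem_centralizer_singleton_iff.1 (hK hb)).symm k).eq
  · refine eq_bot_iff.2 fun x hx => ?_
    obtain ⟨h1, l, rfl⟩ := mem_inf.1 hx
    rcases (mem_zpowers_iff.1 h1) with ⟨k, hk⟩
    have h2 : e ⟨f l, hfC l⟩ = et ^ k := by
      rw [het, ← map_zpow]; exact congrArg e (Subtype.ext (by simp [hk]))
    rw [hval] at h2
    have hl : l = 1 := by
      have h3 := congrArg Prod.snd h2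
      rwa [Prod.pow_snd, hz, one_zpow] at h3
    simp [hl]
  · intro c hc
    set p := e ⟨c, hc⟩ with hp
    rcases two p.1 with h | h
    · refine mem_sup_right ⟨p.2, ?_⟩
      have : e.symm (1, p.2) = ⟨c, hc⟩ := by
        rw [show ((1, p.2) : Multiplicative (ZMod 2) × P2) = p from Prod.ext h.symm rfl, hp, e.symm_apply_apply]
      exact congrArg Subtype.val this
    · have heq : e (⟨t, htC⟩ * e.symm (1, p.2)) = p := by
        rw [map_mul, e.apply_symm_apply, ← het]
        exact Prod.ext (by simp [ha, h]) (by simp [hz])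
      have hc' := congrArg Subtype.val (e.injective heq)
      have hc'' : t * f p.2 = c := hc'
      exact hc'' ▸ mul_mem (mem_sup_left (mem_zpowers t)) (mem_sup_right ⟨p.2, rfl⟩)

end

variable {G : Type u} [Group G] [Finite G] (S : Split G)

theorem not_index_two [IsSimpleGroup G] {x : G} (hx : x ∈ S.K) (hx2 : orderOf x = 2) (M : Subgroup G)
    (hM : M.Normal) : M.index ≠ 2 := by
  intro h
  rcases hM.eq_bot_or_eq_top with e | e
  · rw [e, index_bot] at h
    have hall : ∀ a : G, a ≠ 1 → a = x := fun a ha => by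
      obtain ⟨u, v, huv, huniv⟩ := Nat.card_eq_two_iff.1 h
      have hx1 : x ≠ 1 := fun e => by rw [e, orderOf_one] at hx2; omega
      have hm : ∀ z : G, z = u ∨ z = v := fun z => by
        have := huniv ▸ Set.mem_univ z
        simpa using this
      rcases hm a with rfl | rfl <;> rcases hm x with rfl | rfl <;> rcases hm 1 with e1 | e1 <;>
        first | rfl | exact absurd e1.symm ha | exact absurd e1.symm hx1
    have ht1 : S.t ≠ 1 := fun e => by have := S.ht; rw [e, orderOf_one] at this; omega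
    exact S.t_not_mem (hall S.t ht1 ▸ hx)
  · rw [e, index_top] at h; omega

theorem sylow_le (hab : ∀ P : Sylow 2 G, ∀ a b : P, a * b = b * a) (P : Sylow 2 G) (hP : S.t ∈ P) :
    (P : Subgroup G) ≤ S.C := fun x hx =>
  S.mem_C.2 (congrArg Subtype.val (hab P ⟨x, hx⟩ ⟨S.t, hP⟩))

theorem exists_sylow_t : ∃ P : Sylow 2 G, S.t ∈ P := by
  haveI : Fact (Nat.Prime 2) := ⟨Nat.prime_two⟩
  obtain ⟨P, hP⟩ := (IsPGroup.of_card (p := 2) (n := 1) (G := zpowers S.t) (by
    rw [Nat.card_zpowers, S.ht, pow_one])).exists_le_sylow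
  exact ⟨P, hP (mem_zpowers _)⟩

/-- One class of involutions. -/
theorem one_class [IsSimpleGroup G] (hab : ∀ P : Sylow 2 G, ∀ a b : P, a * b = b * a)
    (hconjK : ∀ x ∈ S.K, ∀ y ∈ S.K, orderOf x = 2 → orderOf y = 2 → IsConj x y) {s : G} (hs : s ∈ S.K)
    (hs2 : orderOf s = 2) : ∀ x : G, orderOf x = 2 → IsConj S.t x := by
  classical
  haveI : Fact (Nat.Prime 2) := ⟨Nat.prime_two⟩
  obtain ⟨P, htP⟩ := exists_sylow_t S
  have hPC := sylow_le S hab P htP
  set Q : Subgroup G := (P : Subgroup G) ⊓ S.K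
  have hQi : Q.relIndex (P : Subgroup G) = 2 := by
    refine index_eq_two_iff'.2 ⟨⟨S.t, htP⟩, fun b => ?_⟩
    rcases S.split (hPC b.2) with hb | hb
    · refine Or.inr ⟨mem_subgroupOf.2 ⟨b.2, hb⟩, fun hn => ?_⟩
      have hn' := (mem_subgroupOf.1 hn).2
      rw [Subgroup.coe_mul] at hn'
      exact S.not_both hb hn'
    · have hb' : (b : G) ∉ S.K := fun h => S.not_both h hb
      exact Or.inl ⟨mem_subgroupOf.2 ⟨mul_mem htP b.2, hb⟩, fun hn => hb' (mem_subgroupOf.1 hn).2⟩
  have key : ∀ y : G, orderOf y = 2 → y ∈ (P : Subgroup G) → IsConj y s := by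
    intro y hy hyP
    by_cases hyK : y ∈ S.K
    · exact hconjK _ hyK _ hs hy hs2
    rcases S0111.result P Q inf_le_left hQi y hy hyP (fun h => hyK h.2) with ⟨M, hM, hM2, -⟩ | ⟨g, hg⟩
    · exact absurd hM2 (not_index_two S hs hs2 M hM)
    · refine (isConj_iff.2 ⟨g, rfl⟩).trans (hconjK _ hg.2 _ hs ?_ hs2)
      rw [show g * y * g⁻¹ = MulAut.conj g y from rfl, MulEquiv.orderOf_eq, hy]
  intro x hx
  obtain ⟨T, hT⟩ := (IsPGroup.of_card (p := 2) (n := 1) (G := zpowers x) (by
    rw [Nat.card_zpowers, hx, pow_one])).exists_le_sylow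
  obtain ⟨c, hc⟩ := MulAction.exists_smul_eq G P T
  have hxT := hT (mem_zpowers x)
  rw [← hc, Sylow.coe_subgroup_smul] at hxT
  obtain ⟨y, hyP, hy⟩ := hxT
  have hy' : c * y * c⁻¹ = x := hy
  have hy2 : orderOf y = 2 := by
    rw [← hx, ← hy', show c * y * c⁻¹ = MulAut.conj c y from rfl, MulEquiv.orderOf_eq]
  exact ((key _ S.ht htP).trans (key y hy2 hyP).symm).trans (isConj_iff.2 ⟨c, hy'⟩)

section

variable {F : Type v} [Field F] [Fintype F] (e : S.K ≃* Matrix.ProjectiveSpecialLinearGroup (Fin 2) F)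
include e

theorem K_inv_conj : ∀ x ∈ S.K, ∀ y ∈ S.K, orderOf x = 2 → orderOf y = 2 → IsConj x y := by
  intro x hx y hy hx2 hy2
  obtain ⟨c, hc⟩ := isConj_iff.1 (PslFacts.inv_conj (x := e ⟨x, hx⟩) (y := e ⟨y, hy⟩)
    (by rw [MulEquiv.orderOf_eq, Subgroup.orderOf_mk, hx2]) (by rw [MulEquiv.orderOf_eq, Subgroup.orderOf_mk, hy2]))
  refine isConj_iff.2 ⟨(e.symm c : S.K), ?_⟩
  have h := congrArg e.symm hc
  rw [map_mul, map_mul, map_inv, e.symm_apply_apply, e.symm_apply_apply] at h
  exact congrArg Subtype.val h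

theorem one_class_psl [IsSimpleGroup G] (hq : 3 ≤ Fintype.card F)
    (hab : ∀ P : Sylow 2 G, ∀ a b : P, a * b = b * a) : ∀ x : G, orderOf x = 2 → IsConj S.t x := by
  obtain ⟨x, -, hx, -, -⟩ := PslFacts.exists_two_inv (F := F) hq
  exact one_class S hab (K_inv_conj S e) (e.symm x).2 (by rw [Subgroup.orderOf_coe, MulEquiv.orderOf_eq, hx])

theorem mod_eight (h2 : (2 : F) ≠ 0) (hab : ∀ P : Sylow 2 G, ∀ a b : P, a * b = b * a) :
    Fintype.card F % 8 = 3 ∨ Fintype.card F % 8 = 5 := by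
  refine PslFacts.mod_eight h2 fun R hR a ha b hb => ?_
  obtain ⟨P, hP⟩ := ((hR.map e.symm.toMonoidHom).map S.K.subtype).exists_le_sylow
  have hm : ∀ c ∈ R, ((e.symm c : S.K) : G) ∈ P := fun c hc => hP ⟨_, ⟨c, hc, rfl⟩, rfl⟩
  have h := congrArg Subtype.val (hab P ⟨_, hm a ha⟩ ⟨_, hm b hb⟩)
  exact e.symm.injective (Subtype.ext (by simpa using h))

end

end Cfsg.Agent.Char.ReeOrder
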