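import Cfsg.Agent.Lib.Char.ReeThree.Arith
import Cfsg.Agent.Lib.Lead.JankoOne.Decomp

/-!
# The coordinates of the lifted functions: positions of the three rows and of `Ψ`
-/

set_option autoImplicit false
set_option linter.unusedSectionVars false
set_option linter.unusedSimpArgs false
set_option maxHeartbeats 1000000

namespace Cfsg.Agent.Char.ReeOrder

open Cfsg.Agent.Char.ReeThree (Triple sigma_sums)

universe u

variable {ι : Type u} [Fintype ι] [DecidableEq ι]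

/-- The integral data extracted from the group. `f` are the coordinates of `F₁, F₂, F₃`, `yS` and `zS` the sums
of the coordinates of the `Y_θ` and `Z_ψ`, `T θ` the three vectors of an orbit and `c θ` those of `Ψ_θ`. -/
structure Rows (ι : Type u) [Fintype ι] [DecidableEq ι] (Θ Zi : Type u) [Fintype Zi] where
  Q : ℤ
  h : ℤ
  b : ℕ
  kap : ℚ
  d : ι → ℕ
  v : ι → ℤ
  f : Fin 3 → ι → ℤ
  yS : ι → ℤ
  z : Zi → ι → ℤ
  T : Θ → Fin 3 → ι → ℤ
  c : Θ → ι → ℤ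
  θ0 : Θ
  hQh : Q = 2 * h + 1
  hQ : 11 ≤ Q ∨ Q ≤ -13
  hQ8 : Q % 8 = 3
  hb : (Q + 1).natAbs = 4 * b
  hb6 : b % 6 = 1
  dpos : ∀ χ, 0 < d χ
  hv : ∀ χ, v χ = f 0 χ + h * (f 1 χ + f 2 χ) + (Q - 1) * yS χ + (Q + 1) * ∑ i, z i χ
  fnorm : ∀ k, ∑ χ, f k χ ^ 2 = 4
  fdeg : ∀ k, ∑ χ, f k χ * (d χ : ℤ) = 0
  ff : ∀ k l, k ≠ l → ∑ χ, f k χ * f l χ = 2
  znorm : ∀ i, ∑ χ, z i χ ^ 2 = 2
  zdeg : ∀ i, ∑ χ, z i χ * (d χ : ℤ) = 0
  zf : ∀ i k, ∑ χ, z i χ * f k χ = 0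
  zT : ∀ i θ χ, T θ 0 χ ≠ 0 → z i χ = 0
  triple : ∀ θ, Triple d (T θ)
  fT : ∀ k θ χ, T θ 0 χ ≠ 0 → f k χ = 0
  yF : ∀ k χ, f k χ ≠ 0 → yS χ = 0
  yT : ∀ θ χ, T θ 0 χ ≠ 0 → yS χ = T θ 0 χ + T θ 1 χ + T θ 2 χ
  ysup : ∀ χ, yS χ ≠ 0 → ∃ θ, T θ 0 χ ≠ 0
  cnorm : ∀ θ, ∑ χ, c θ χ ^ 2 = 3
  cdeg : ∀ θ, ∑ χ, c θ χ * (d χ : ℤ) = 0
  cf0 : ∀ θ, ∑ χ, c θ χ * f 0 χ = 0
  cf1 : ∀ θ, ∑ χ, c θ χ * f 1 χ = 1
  cf2 : ∀ θ, ∑ χ, c θ χ * f 2 χ = 1
  cz : ∀ θ i, ∑ χ, c θ χ * z i χ = 0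
  cT : ∀ θ k, ∑ χ, c θ χ * T θ k χ = if k = 0 then 1 else -1
  cTT : ∀ θ φ, (∀ χ, T φ 0 χ ≠ 0 → T θ 0 χ ≠ 0) ∨
    (∑ χ, c θ χ * T φ 0 χ = 0 ∧ ∀ χ, T θ 0 χ ≠ 0 → T φ 0 χ = 0)
  cc : ∀ θ φ, c θ = c φ ∨ (∑ χ, c θ χ * c φ χ = 2 ∧ ∑ χ, c θ χ * T φ 0 χ ≠ 1)
  eqF0 : ∑ χ, (f 0 χ : ℚ) * (v χ : ℚ) ^ 2 / d χ = kap * (Q - 1)
  eqF1 : ∑ χ, (f 1 χ : ℚ) * (v χ : ℚ) ^ 2 / d χ = kap * (3 * Q - 1) / (Q + 1)
  eqY : ∀ θ, ∑ χ, (T θ 0 χ : ℚ) * (v χ : ℚ) ^ 2 / d χ = kap * (8 * Q) / (Q + 1)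
  eqC : ∀ θ, ∑ χ, (c θ χ : ℚ) * (v χ : ℚ) ^ 2 / d χ = 0
  cong8 : ∀ χ, (8 : ℤ) ∣ (d χ : ℤ) - v χ
  congb : ∀ χ k, f k χ ≠ 0 → ∀ c0, (∀ θ, c θ χ = c0) → (b : ℤ) ∣ (d χ : ℤ) - v χ - 4 * c0

/-- The data of the principal block. -/
structure Coords (ι : Type u) [Fintype ι] [DecidableEq ι] (Θ Zi : Type u) [Fintype Zi]
    extends Rows ι Θ Zi where
  g : ℕ
  o : ι
  hpp : IsPrimePow Q.natAbs
  gpos : 0 < g
  gdvd : Q.natAbs * (Q.natAbs ^ 2 - 1) ∣ g
  hg : kap * g = (Q.natAbs : ℚ) * Q * ((Q : ℚ) ^ 2 - 1) ^ 2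
  d_o : d o = 1
  fo0 : f 0 o = 1
  fo1 : f 1 o = 0
  fo2 : f 2 o = 0
  yo : yS o = 0
  zo : ∀ i, z i o = 0
  co : ∀ θ, c θ o = 0

theorem sum_supp {M : Type*} [CommRing M] {f : ι → ℤ} {a b c e : ι} (nd : [a, b, c, e].Nodup)
    (h : ∀ χ, f χ ≠ 0 → χ = a ∨ χ = b ∨ χ = c ∨ χ = e) (F : ι → M) :
    ∑ χ, (f χ : M) * F χ = (f a : M) * F a + (f b : M) * F b + (f c : M) * F c + (f e : M) * F e := by
  rw [← Finset.sum_subset (Finset.subset_univ [a, b, c, e].toFinset) fun χ _ hχ => ?_,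
    List.sum_toFinset _ nd]
  · simp [add_assoc]
  · by_cases h0 : f χ = 0
    · rw [h0, Int.cast_zero, zero_mul]
    · rcases h χ h0 with rfl | rfl | rfl | rfl <;> simp at hχ

namespace Rows

variable {Θ Zi : Type u} [Fintype Zi] (C : Rows ι Θ Zi)

theorem qne : (C.Q : ℚ) + 1 ≠ 0 := by
  have := C.hQ
  exact_mod_cast (show C.Q + 1 ≠ 0 by omega)

/-- The support of a row. -/
def A (k : Fin 3) : Finset ι := Finset.univ.filter fun χ => C.f k χ ≠ 0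

theorem mem_A {k : Fin 3} {χ : ι} : χ ∈ C.A k ↔ C.f k χ ≠ 0 := by simp [A]

theorem funit (k : Fin 3) (χ : ι) : C.f k χ = 0 ∨ C.f k χ = 1 ∨ C.f k χ = -1 :=
  (Lead.JankoOne.norm_four_deg (C.fnorm k) C.dpos (C.fdeg k)).1 χ

theorem card_A (k : Fin 3) : (C.A k).card = 4 :=
  (Lead.JankoOne.norm_four_deg (C.fnorm k) C.dpos (C.fdeg k)).2

theorem f_eq {k l : Fin 3} {χ : ι} (hk : C.f k χ ≠ 0) (hl : C.f l χ ≠ 0) : C.f l χ = C.f k χ := by
  by_cases hkl : k = l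
  · rw [hkl]
  by_contra hne
  have hsum : ∑ ψ, (C.f k ψ - C.f l ψ) ^ 2 = 4 := by
    rw [Finset.sum_congr rfl (g := fun ψ => C.f k ψ ^ 2 - 2 * (C.f k ψ * C.f l ψ) + C.f l ψ ^ 2) fun ψ _ => by ring,
      Finset.sum_add_distrib, Finset.sum_sub_distrib, ← Finset.mul_sum, C.fnorm, C.fnorm, C.ff k l hkl]
    norm_num
  have h4 : (C.f k χ - C.f l χ) ^ 2 = 4 := by
    rcases C.funit k χ with e | e | e <;> rcases C.funit l χ with e' | e' | e' <;> simp_all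
  have h0 : ∀ ψ, ψ ≠ χ → C.f k ψ - C.f l ψ = 0 := by
    intro ψ hψ
    rw [← Finset.add_sum_erase _ _ (Finset.mem_univ χ), h4] at hsum
    have := (Finset.sum_eq_zero_iff_of_nonneg fun j _ => sq_nonneg (C.f k j - C.f l j)).1 (by linarith) ψ
      (Finset.mem_erase.2 ⟨hψ, Finset.mem_univ ψ⟩)
    exact sq_eq_zero_iff.1 this
  have hd : ∑ ψ, (C.f k ψ - C.f l ψ) * (C.d ψ : ℤ) = 0 := by
    simp only [sub_mul, Finset.sum_sub_distrib, C.fdeg, sub_zero]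
  rw [Finset.sum_eq_single χ (fun ψ _ hψ => by rw [h0 ψ hψ, zero_mul]) (fun h => absurd (Finset.mem_univ χ) h)] at hd
  have := C.dpos χ
  rcases mul_eq_zero.1 hd with e | e
  · exact hne (by omega)
  · omega

theorem card_inter {k l : Fin 3} (hkl : k ≠ l) : (C.A k ∩ C.A l).card = 2 := by
  have h := C.ff k l hkl
  rw [← Finset.sum_subset (Finset.subset_univ (C.A k ∩ C.A l)) fun χ _ hχ => ?_,
    Finset.sum_congr rfl (g := fun _ => (1 : ℤ)) fun χ hχ => ?_] at h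
  · simp at h; exact_mod_cast h
  · obtain ⟨h1, h2⟩ := Finset.mem_inter.1 hχ
    rw [C.f_eq (C.mem_A.1 h1) (C.mem_A.1 h2)]
    rcases C.funit k χ with e | e | e <;> simp [e]
    exact C.mem_A.1 h1 e
  · by_contra h0
    exact hχ (Finset.mem_inter.2 ⟨C.mem_A.2 (left_ne_zero_of_mul h0), C.mem_A.2 (right_ne_zero_of_mul h0)⟩)

theorem supp_A {k : Fin 3} {a b c e : ι} (hA : C.A k = {a, b, c, e}) (χ : ι) (h : C.f k χ ≠ 0) :
    χ = a ∨ χ = b ∨ χ = c ∨ χ = e := by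
  have := C.mem_A.2 h
  rw [hA] at this
  simpa using this

theorem f_zero {k : Fin 3} {a b c e χ : ι} (hA : C.A k = {a, b, c, e}) (h : χ ≠ a ∧ χ ≠ b ∧ χ ≠ c ∧ χ ≠ e) :
    C.f k χ = 0 := by
  by_contra h0
  rcases C.supp_A hA χ h0 with e' | e' | e' | e' <;> tauto

theorem f_ne {k : Fin 3} {χ : ι} (hA : χ ∈ C.A k) : C.f k χ = 1 ∨ C.f k χ = -1 :=
  (C.funit k χ).resolve_left (C.mem_A.1 hA)

/-- The vectors `z` pair two characters with the same degree and the same coordinates. -/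
theorem partner (i : Zi) {χ : ι} (h : C.z i χ ≠ 0) :
    ∃ χ', χ' ≠ χ ∧ C.z i χ' = -C.z i χ ∧ C.d χ' = C.d χ ∧
      ∀ g : ι → ℤ, ∑ ψ, C.z i ψ * g ψ = 0 → g χ' = g χ := by
  obtain ⟨a, b, s, r, hab, hs, hr, hz⟩ := Lead.GLTwoThree.norm_two (C.znorm i)
  have hsum : ∀ g : ι → ℤ, ∑ ψ, C.z i ψ * g ψ = s * g a + r * g b := fun g => by
    simp [hz, add_mul, Finset.sum_add_distrib, mul_assoc, ← Finset.mul_sum, Lead.GLTwoThree.sum_ind_mul]
  have hd := C.zdeg i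
  rw [hsum] at hd
  have pa := C.dpos a
  have pb := C.dpos b
  have hrs : r = -s ∧ C.d a = C.d b := by
    rcases hs with rfl | rfl <;> rcases hr with rfl | rfl <;> constructor <;> omega
  obtain ⟨rfl, hdd⟩ := hrs
  have za : C.z i a = s := by simp [hz, Lead.GLTwoThree.ind, hab]
  have zb : C.z i b = -s := by simp [hz, Lead.GLTwoThree.ind, Ne.symm hab]
  have s0 : s ≠ 0 := by omega
  rcases (show χ = a ∨ χ = b by
    by_contra hne
    push Not at hne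
    exact h (by simp [hz, Lead.GLTwoThree.ind, hne.1, hne.2])) with rfl | rfl
  · refine ⟨b, Ne.symm hab, by rw [za, zb], hdd.symm, fun g hg => ?_⟩
    rw [hsum] at hg
    exact mul_left_cancel₀ s0 (by linarith)
  · refine ⟨a, hab, by rw [za, zb, neg_neg], hdd, fun g hg => ?_⟩
    rw [hsum] at hg
    exact mul_left_cancel₀ s0 (by linarith)

/-- The position of `Ψ_θ` among the four characters of its orbit. -/
theorem psi_E (θ : Θ) : ∃ (E : ι) (p : ℤ), (p = 1 ∨ p = -1) ∧ C.c θ E = p ∧ C.T θ 0 E = p ∧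
    C.v E = -(p * (C.Q - 1)) ∧ (∀ k, C.f k E = 0) ∧ (∀ i, C.z i E = 0) ∧
    (∀ χ, C.T θ 0 χ ≠ 0 → χ ≠ E → C.c θ χ = 0) ∧
    C.kap * (8 * C.Q) / (C.Q + 1) = 8 * ((C.Q : ℚ) - 1) ^ 2 / ((p * C.d E : ℤ) : ℚ) := by
  obtain ⟨j, p, x, hj, hp, hx, hsup, hX, hpm, hs, hprod, hL⟩ := (C.triple θ).shape
  set al : Fin 3 → ℤ := fun k => if k = 0 then 1 else -1
  set u : Fin 4 → ℤ := fun i => C.T θ 0 (j i) - C.T θ 1 (j i) - C.T θ 2 (j i) with hu
  have hTT : ∀ k l, ∑ χ, C.T θ k χ * C.T θ l χ = if k = l then 4 else 0 := by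
    intro k l
    split_ifs with e
    · subst e; simpa [pow_two] using (C.triple θ).norm k
    · exact (C.triple θ).orth k l e
  have hconst : ∀ i i', 4 * C.c θ (j i) - u i = 4 * C.c θ (j i') - u i' := by
    refine hL (fun χ => 4 * C.c θ χ - (C.T θ 0 χ - C.T θ 1 χ - C.T θ 2 χ)) fun k => ?_
    have h1 : ∑ χ, C.T θ k χ * C.c θ χ = if k = 0 then 1 else -1 := by
      rw [← C.cT θ k]; exact Finset.sum_congr rfl fun χ _ => mul_comm _ _
    rw [Finset.sum_congr rfl (g := fun χ => 4 * (C.T θ k χ * C.c θ χ) - (C.T θ k χ * C.T θ 0 χ -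
      C.T θ k χ * C.T θ 1 χ - C.T θ k χ * C.T θ 2 χ)) fun χ _ => by ring]
    simp only [Finset.sum_sub_distrib, ← Finset.mul_sum, h1, hTT]
    fin_cases k <;> decide
  have hu4 : ∀ i, u i = 3 * p ∨ u i = -p := by
    intro i
    have hpi := hprod i
    simp only [hu]
    rcases hpm 0 i with a | a <;> rcases hpm 1 i with b | b <;> rcases hpm 2 i with c | c <;>
      rw [a, b, c] at hpi ⊢ <;> omega
  have hus : ∑ i, u i = 0 := by simp only [hu, Finset.sum_sub_distrib, hs]; norm_num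
  have hcn : ∑ i, C.c θ (j i) ^ 2 ≤ 3 := by
    rw [← C.cnorm θ, ← Finset.sum_image (f := fun χ => C.c θ χ ^ 2) fun i _ i' _ h => hj h]
    exact Finset.sum_le_sum_of_subset_of_nonneg (Finset.subset_univ _) fun χ _ _ => sq_nonneg _
  have hc1 : ∀ i, -1 ≤ C.c θ (j i) ∧ C.c θ (j i) ≤ 1 := fun i => by
    have h1 : C.c θ (j i) ^ 2 ≤ 3 :=
      (Finset.single_le_sum (f := fun i => C.c θ (j i) ^ 2) (fun _ _ => sq_nonneg _) (Finset.mem_univ i)).trans hcn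
    constructor <;> nlinarith
  obtain ⟨i0, hi0, hio⟩ : ∃ i0, u i0 = 3 * p ∧ ∀ i, i ≠ i0 → u i = -p := by
    rw [Fin.sum_univ_four] at hus
    rcases hu4 0 with a | a <;> rcases hu4 1 with b | b <;> rcases hu4 2 with c | c <;>
      rcases hu4 3 with e | e <;> rw [a, b, c, e] at hus <;>
      first
        | omega
        | exact ⟨0, a, fun i hi => by fin_cases i <;> first | exact absurd rfl hi | exact b | exact c | exact e⟩
        | exact ⟨1, b, fun i hi => by fin_cases i <;> first | exact absurd rfl hi | exact a | exact c | exact e⟩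
        | exact ⟨2, c, fun i hi => by fin_cases i <;> first | exact absurd rfl hi | exact a | exact b | exact e⟩
        | exact ⟨3, e, fun i hi => by fin_cases i <;> first | exact absurd rfl hi | exact a | exact b | exact c⟩
  have hsol : (C.c θ (j i0) = p ∧ ∀ i, i ≠ i0 → C.c θ (j i) = 0) ∨
      (C.c θ (j i0) = 0 ∧ ∀ i, i ≠ i0 → C.c θ (j i) = -p) := by
    obtain ⟨i1, hi1⟩ : ∃ i1 : Fin 4, i1 ≠ i0 := exists_ne i0
    have h1 := hconst i1 i0
    rw [hi0, hio i1 hi1] at h1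
    have b0 := hc1 i0
    have b1 := hc1 i1
    rcases (show (C.c θ (j i0) = p ∧ C.c θ (j i1) = 0) ∨ (C.c θ (j i0) = 0 ∧ C.c θ (j i1) = -p) by
      rcases hp with rfl | rfl <;> omega) with h | h
    · refine Or.inl ⟨h.1, fun i hi => ?_⟩
      have := hconst i i1
      rw [hio i hi, hio i1 hi1] at this
      omega
    · refine Or.inr ⟨h.1, fun i hi => ?_⟩
      have := hconst i i1
      rw [hio i hi, hio i1 hi1] at this
      omega
  rcases hsol with ⟨hc0, hcr⟩ | ⟨hc0, hcr⟩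
  swap
  · exfalso
    have hzero : ∀ χ, C.f 1 χ ≠ 0 → C.c θ χ = 0 := by
      intro χ hχ
      by_contra hne
      have hout : χ ∉ Finset.univ.image j := fun hm => by
        obtain ⟨i, -, rfl⟩ := Finset.mem_image.1 hm
        refine hχ (C.fT 1 θ _ ?_)
        rcases hpm 0 i with e | e <;> rw [e] <;> norm_num
      have h3 : ∑ χ ∈ Finset.univ.image j, C.c θ χ ^ 2 + C.c θ χ ^ 2 ≤ ∑ χ, C.c θ χ ^ 2 := by
        rw [add_comm, ← Finset.sum_insert (f := fun χ => C.c θ χ ^ 2) hout]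
        exact Finset.sum_le_sum_of_subset_of_nonneg (Finset.subset_univ _) fun χ _ _ => sq_nonneg _
      rw [Finset.sum_image fun i _ i' _ h => hj h, C.cnorm,
        ← Finset.add_sum_erase _ _ (Finset.mem_univ i0), hc0,
        Finset.sum_congr rfl fun i hi => by rw [hcr i (Finset.mem_erase.1 hi).1]] at h3
      simp at h3
      have := sq_pos_of_ne_zero hne
      rcases hp with rfl | rfl <;> omega
    have := C.cf1 θ
    rw [Finset.sum_eq_zero fun χ _ => ?_] at this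
    · norm_num at this
    · by_cases h : C.f 1 χ = 0
      · rw [h, mul_zero]
      · rw [hzero χ h, zero_mul]
  have hT0 : C.T θ 0 (j i0) = p ∧ C.T θ 1 (j i0) = -p ∧ C.T θ 2 (j i0) = -p := by
    have hpi := hprod i0
    simp only [hu] at hi0
    rcases hpm 0 i0 with a | a <;> rcases hpm 1 i0 with b | b <;> rcases hpm 2 i0 with c | c <;>
      rw [a, b, c] at hpi hi0 ⊢ <;> omega
  have hne : ∀ i, C.T θ 0 (j i) ≠ 0 := fun i => by rcases hpm 0 i with e | e <;> rw [e] <;> norm_num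
  have hvj : ∀ i, C.v (j i) = (C.Q - 1) * (C.T θ 0 (j i) + C.T θ 1 (j i) + C.T θ 2 (j i)) := fun i => by
    rw [C.hv, C.fT 0 θ _ (hne i), C.fT 1 θ _ (hne i), C.fT 2 θ _ (hne i), C.yT θ _ (hne i),
      Finset.sum_eq_zero fun z _ => C.zT z θ _ (hne i)]
    ring
  refine ⟨j i0, p, hp, hc0, hT0.1, ?_, fun k => C.fT k θ _ (hne i0), fun i => C.zT i θ _ (hne i0), ?_, ?_⟩
  · rw [hvj, hT0.1, hT0.2.1, hT0.2.2]; ring
  · intro χ hχ hχE
    obtain ⟨i, rfl⟩ := hsup 0 χ hχ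
    exact hcr i fun e => hχE (by rw [e])
  · rw [← C.eqY θ, hX i0]
    have s := fun k l (h : k ≠ l) =>
      ((C.triple θ).sum_four hj k (hsup k) (C.T θ l)).symm.trans ((C.triple θ).orth k l h)
    obtain ⟨-, h8⟩ := sigma_sums _ _ _ p (hpm 0) (hpm 1) (hpm 2) (s 0 1 (by decide)) (s 0 2 (by decide))
      (s 1 2 (by decide)) (hs 0) (hs 1) (hs 2) hprod
    rw [← Finset.sum_subset (Finset.subset_univ (Finset.univ.image j)) fun χ _ hχ => ?_,
      Finset.sum_image fun i _ i' _ h => hj h]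
    · have hdx : ∀ i, (C.d (j i) : ℚ) = (x : ℚ) := fun i => by exact_mod_cast hX i
      simp only [hdx, hvj, ← Finset.sum_div]
      have h8q : ∑ i, (C.T θ 0 (j i) : ℚ) * ((C.T θ 0 (j i) : ℚ) + C.T θ 1 (j i) + C.T θ 2 (j i)) ^ 2 = 8 * p := by
        exact_mod_cast h8
      rw [Finset.sum_congr rfl (g := fun i => ((C.Q : ℚ) - 1) ^ 2 *
        ((C.T θ 0 (j i) : ℚ) * ((C.T θ 0 (j i) : ℚ) + C.T θ 1 (j i) + C.T θ 2 (j i)) ^ 2)) fun i _ => by
          push_cast; ring, ← Finset.mul_sum, h8q]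
      rcases hp with rfl | rfl <;> push_cast <;> ring
    · by_cases h0 : C.T θ 0 χ = 0
      · simp [h0]
      · obtain ⟨i, rfl⟩ := hsup 0 χ h0
        exact absurd (Finset.mem_image.2 ⟨i, Finset.mem_univ _, rfl⟩) hχ

end Rows

namespace Coords

variable {Θ Zi : Type u} [Fintype Zi] (C : Coords ι Θ Zi)

theorem o_mem : C.o ∈ C.A 0 ∧ C.o ∉ C.A 1 ∧ C.o ∉ C.A 2 := by
  simp [C.mem_A, C.fo0, C.fo1, C.fo2]

/-- The two possibilities for the supports of the three rows. -/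
theorem shapes :
    (∃ x2 x3 x4 x5 x6 x7 x8 : ι, [C.o, x2, x3, x4, x5, x6, x7, x8].Nodup ∧
      C.A 0 = {C.o, x2, x3, x4} ∧ C.A 1 = {x3, x4, x5, x6} ∧ C.A 2 = {x3, x4, x7, x8}) ∨
    (∃ a b b' z c c' : ι, [C.o, a, b, b', z, c, c'].Nodup ∧
      C.A 0 = {C.o, a, b, b'} ∧ C.A 1 = {a, b, z, c} ∧ C.A 2 = {a, b', z, c'}) := by
  obtain ⟨o0, o1, o2⟩ := C.o_mem
  have c01 := C.card_inter (show (0 : Fin 3) ≠ 1 by decide)
  have c02 := C.card_inter (show (0 : Fin 3) ≠ 2 by decide)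
  have c12 := C.card_inter (show (1 : Fin 3) ≠ 2 by decide)
  have e0 := C.card_A 0
  have e1 := C.card_A 1
  have e2 := C.card_A 2
  generalize C.A 0 = X, C.A 1 = Y, C.A 2 = W at *
  set T := X ∩ Y ∩ W with hT
  have hu : ((X ∩ Y) ∪ (X ∩ W)).card ≤ 3 := by
    refine (Finset.card_le_card (fun x hx => ?_) : _ ≤ (X.erase C.o).card).trans
      (by rw [Finset.card_erase_of_mem o0, e0])
    simp only [Finset.mem_union, Finset.mem_inter] at hx
    refine Finset.mem_erase.2 ⟨?_, ?_⟩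
    · rintro rfl; tauto
    · tauto
  have hie := Finset.card_union_add_card_inter (X ∩ Y) (X ∩ W)
  have hTT : (X ∩ Y) ∩ (X ∩ W) = T := by rw [hT]; ext; simp; tauto
  rw [hTT, c01, c02] at hie
  have hT2 : T.card ≤ 2 := c01 ▸ Finset.card_le_card Finset.inter_subset_left
  rcases (show T.card = 2 ∨ T.card = 1 by omega) with hc | hc
  · left
    have t01 : T = X ∩ Y := Finset.eq_of_subset_of_card_le Finset.inter_subset_left (by omega)
    have t02 : T = X ∩ W := Finset.eq_of_subset_of_card_le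
      (fun x hx => by simp [hT] at hx ⊢; tauto) (by omega)
    have t12 : T = Y ∩ W := Finset.eq_of_subset_of_card_le
      (fun x hx => by simp [hT] at hx ⊢; tauto) (by omega)
    obtain ⟨x3, x4, h34, eT⟩ := Finset.card_eq_two.1 hc
    have sX : T ⊆ X := fun x hx => by simp [hT] at hx; tauto
    have sY : T ⊆ Y := fun x hx => by simp [hT] at hx; tauto
    have sW : T ⊆ W := fun x hx => by simp [hT] at hx; tauto
    have oT : C.o ∉ T := fun h => o1 (sY h)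
    obtain ⟨x2, hx2⟩ := Finset.card_eq_one.1 (show ((X \ T).erase C.o).card = 1 by
      rw [Finset.card_erase_of_mem (Finset.mem_sdiff.2 ⟨o0, oT⟩), Finset.card_sdiff_of_subset sX, e0, hc])
    obtain ⟨x5, x6, h56, hy⟩ := Finset.card_eq_two.1 (show (Y \ T).card = 2 by
      rw [Finset.card_sdiff_of_subset sY, e1, hc])
    obtain ⟨x7, x8, h78, hw⟩ := Finset.card_eq_two.1 (show (W \ T).card = 2 by
      rw [Finset.card_sdiff_of_subset sW, e2, hc])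
    have m2 : x2 ∈ (X \ T).erase C.o := by rw [hx2]; simp
    have m5 : x5 ∈ Y \ T := by rw [hy]; simp
    have m6 : x6 ∈ Y \ T := by rw [hy]; simp
    have m7 : x7 ∈ W \ T := by rw [hw]; simp
    have m8 : x8 ∈ W \ T := by rw [hw]; simp
    have m3 : x3 ∈ T := by rw [eT]; simp
    have m4 : x4 ∈ T := by rw [eT]; simp
    simp only [Finset.mem_erase, Finset.mem_sdiff] at m2 m5 m6 m7 m8
    refine ⟨x2, x3, x4, x5, x6, x7, x8, ?_, ?_, ?_, ?_⟩
    · have y2 : x2 ∉ Y := fun h => m2.2.2 (by rw [t01]; simp [h, m2.2.1])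
      have w2 : x2 ∉ W := fun h => m2.2.2 (by rw [t02]; simp [h, m2.2.1])
      have w5 : x5 ∉ W := fun h => m5.2 (by rw [t12]; simp [h, m5.1])
      have w6 : x6 ∉ W := fun h => m6.2 (by rw [t12]; simp [h, m6.1])
      simp only [List.nodup_cons, List.mem_cons, List.not_mem_nil, or_false, not_or, List.nodup_nil, and_true,
        not_false_eq_true]
      refine ⟨⟨Ne.symm m2.1, fun e => oT (e ▸ m3), fun e => oT (e ▸ m4), fun e => o1 (e ▸ m5.1),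
        fun e => o1 (e ▸ m6.1), fun e => o2 (e ▸ m7.1), fun e => o2 (e ▸ m8.1)⟩,
        ⟨fun e => m2.2.2 (e ▸ m3), fun e => m2.2.2 (e ▸ m4), fun e => y2 (e ▸ m5.1), fun e => y2 (e ▸ m6.1),
          fun e => w2 (e ▸ m7.1), fun e => w2 (e ▸ m8.1)⟩,
        ⟨h34, fun e => m5.2 (e ▸ m3), fun e => m6.2 (e ▸ m3), fun e => m7.2 (e ▸ m3), fun e => m8.2 (e ▸ m3)⟩,
        ⟨fun e => m5.2 (e ▸ m4), fun e => m6.2 (e ▸ m4), fun e => m7.2 (e ▸ m4), fun e => m8.2 (e ▸ m4)⟩,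
        ⟨h56, fun e => w5 (e ▸ m7.1), fun e => w5 (e ▸ m8.1)⟩,
        ⟨fun e => w6 (e ▸ m7.1), fun e => w6 (e ▸ m8.1)⟩, h78⟩
    · rw [← Finset.union_sdiff_of_subset sX, ← Finset.insert_erase (Finset.mem_sdiff.2 ⟨o0, oT⟩), hx2, eT]
      ext; simp; tauto
    · rw [← Finset.union_sdiff_of_subset sY, hy, eT]; ext; simp; tauto
    · rw [← Finset.union_sdiff_of_subset sW, hw, eT]; ext; simp; tauto
  · right
    obtain ⟨a, ha⟩ := Finset.card_eq_one.1 hc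
    have hmem : ∀ {x}, (x ∈ X ∧ x ∈ Y ∧ x ∈ W) ↔ x = a := fun {x} => by
      rw [← Finset.mem_singleton, ← ha, hT]; simp
    obtain ⟨aX, aY, aW⟩ := (hmem (x := a)).2 rfl
    obtain ⟨b, hb⟩ := Finset.card_eq_one.1 (show ((X ∩ Y).erase a).card = 1 by
      rw [Finset.card_erase_of_mem (by simp [aX, aY]), c01])
    obtain ⟨b', hb'⟩ := Finset.card_eq_one.1 (show ((X ∩ W).erase a).card = 1 by
      rw [Finset.card_erase_of_mem (by simp [aX, aW]), c02])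
    obtain ⟨z, hz⟩ := Finset.card_eq_one.1 (show ((Y ∩ W).erase a).card = 1 by
      rw [Finset.card_erase_of_mem (by simp [aY, aW]), c12])
    have mb : b ≠ a ∧ b ∈ X ∧ b ∈ Y := by
      have : b ∈ (X ∩ Y).erase a := by rw [hb]; simp
      simpa using this
    have mb' : b' ≠ a ∧ b' ∈ X ∧ b' ∈ W := by
      have : b' ∈ (X ∩ W).erase a := by rw [hb']; simp
      simpa using this
    have mz : z ≠ a ∧ z ∈ Y ∧ z ∈ W := by
      have : z ∈ (Y ∩ W).erase a := by rw [hz]; simp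
      simpa using this
    have wb : b ∉ W := fun h => mb.1 (hmem.1 ⟨mb.2.1, mb.2.2, h⟩)
    have yb' : b' ∉ Y := fun h => mb'.1 (hmem.1 ⟨mb'.2.1, h, mb'.2.2⟩)
    have xz : z ∉ X := fun h => mz.1 (hmem.1 ⟨h, mz.2.1, mz.2.2⟩)
    have ao : C.o ≠ a := fun e => o1 (e ▸ aY)
    have bo : C.o ≠ b := fun e => o1 (e ▸ mb.2.2)
    have bo' : C.o ≠ b' := fun e => o2 (e ▸ mb'.2.2)
    have bb : b ≠ b' := fun e => wb (e ▸ mb'.2.2)
    have bz : b ≠ z := fun e => xz (e ▸ mb.2.1)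
    have bz' : b' ≠ z := fun e => xz (e ▸ mb'.2.1)
    have sX : ({C.o, a, b, b'} : Finset ι) = X := Finset.eq_of_subset_of_card_le
      (by simp [Finset.insert_subset_iff, o0, aX, mb.2.1, mb'.2.1])
      (by rw [e0, Finset.card_insert_of_notMem (by simp [ao, bo, bo']),
        Finset.card_insert_of_notMem (by simp [Ne.symm mb.1, Ne.symm mb'.1]), Finset.card_pair bb])
    obtain ⟨c, hc1⟩ := Finset.card_eq_one.1 (show (Y \ {a, b, z}).card = 1 by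
      rw [Finset.card_sdiff_of_subset (by simp [Finset.insert_subset_iff, aY, mb.2.2, mz.2.1]), e1,
        Finset.card_insert_of_notMem (by simp [Ne.symm mb.1, Ne.symm mz.1]), Finset.card_pair bz])
    obtain ⟨c', hc1'⟩ := Finset.card_eq_one.1 (show (W \ {a, b', z}).card = 1 by
      rw [Finset.card_sdiff_of_subset (by simp [Finset.insert_subset_iff, aW, mb'.2.2, mz.2.2]), e2,
        Finset.card_insert_of_notMem (by simp [Ne.symm mb'.1, Ne.symm mz.1]), Finset.card_pair bz'])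
    have mc : c ∈ Y ∧ c ≠ a ∧ c ≠ b ∧ c ≠ z := by
      have : c ∈ Y \ {a, b, z} := by rw [hc1]; simp
      simpa using this
    have mc' : c' ∈ W ∧ c' ≠ a ∧ c' ≠ b' ∧ c' ≠ z := by
      have : c' ∈ W \ {a, b', z} := by rw [hc1']; simp
      simpa using this
    have xc : c ∉ X := fun h => by
      have h' : c ∈ (X ∩ Y).erase a := by simp [mc.2.1, h, mc.1]
      rw [hb] at h'; exact mc.2.2.1 (Finset.mem_singleton.1 h')
    have wc : c ∉ W := fun h => by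
      have h' : c ∈ (Y ∩ W).erase a := by simp [mc.2.1, h, mc.1]
      rw [hz] at h'; exact mc.2.2.2 (Finset.mem_singleton.1 h')
    have xc' : c' ∉ X := fun h => by
      have h' : c' ∈ (X ∩ W).erase a := by simp [mc'.2.1, h, mc'.1]
      rw [hb'] at h'; exact mc'.2.2.1 (Finset.mem_singleton.1 h')
    refine ⟨a, b, b', z, c, c', ?_, sX.symm, ?_, ?_⟩
    · simp only [List.nodup_cons, List.mem_cons, List.not_mem_nil, or_false, not_or, List.nodup_nil, and_true,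
        not_false_eq_true]
      exact ⟨⟨ao, bo, bo', fun e => xz (e ▸ o0), fun e => xc (e ▸ o0), fun e => xc' (e ▸ o0)⟩,
        ⟨Ne.symm mb.1, Ne.symm mb'.1, Ne.symm mz.1, Ne.symm mc.2.1, Ne.symm mc'.2.1⟩,
        ⟨bb, bz, Ne.symm mc.2.2.1, fun e => xc' (e ▸ mb.2.1)⟩,
        ⟨bz', fun e => xc (e ▸ mb'.2.1), Ne.symm mc'.2.2.1⟩,
        ⟨Ne.symm mc.2.2.2, Ne.symm mc'.2.2.2⟩, fun e => wc (e ▸ mc'.1)⟩
    · rw [← Finset.union_sdiff_of_subset (show ({a, b, z} : Finset ι) ⊆ Y by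
        simp [Finset.insert_subset_iff, aY, mb.2.2, mz.2.1]), hc1]
      ext; simp
    · rw [← Finset.union_sdiff_of_subset (show ({a, b', z} : Finset ι) ⊆ W by
        simp [Finset.insert_subset_iff, aW, mb'.2.2, mz.2.2]), hc1']
      ext; simp

end Coords

end Cfsg.Agent.Char.ReeOrder
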