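import Mathlib
import Cfsg.Agent.Lib.Char.ReeThree.TSection

/-!
# The setting of the order theorem for involution centraliser `⟨t⟩ × PSL₂(q)`

`LocalClaim S` is the local lemma of `notes/S0343_design.md`: an element `b ≠ 1` of odd order of `K` commuting with
an involution `s` of `K` has its centraliser in `C(t)`.
-/

set_option autoImplicit false

namespace Cfsg.Agent.Char.ReeOrder

open Subgroup Cfsg.Agent.Char.ReeThree

universe u v

/-- The hypotheses after the small and even cases are removed: `K ≅ PSL₂(q)`, `q > 5`, `q ≡ 3, 5 (mod 8)`, abelian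
Sylow two-subgroups and one class of involutions. -/
structure Hyp {G : Type u} [Group G] (S : Split G) (F : Type v) [Field F] [Fintype F] : Prop where
  iso : Nonempty (S.K ≃* Matrix.ProjectiveSpecialLinearGroup (Fin 2) F)
  q8 : Fintype.card F % 8 = 3 ∨ Fintype.card F % 8 = 5
  q5 : 5 < Fintype.card F
  hconj : ∀ x : G, orderOf x = 2 → IsConj S.t x
  hab : ∀ P : Sylow 2 G, ∀ a b : P, a * b = b * a

/-- Centralisers of the odd part of `C_K(s)`. -/
def LocalClaim {G : Type u} [Group G] (S : Split G) : Prop :=
  ∀ s b : G, s ∈ S.K → b ∈ S.K → orderOf s = 2 → b * s = s * b → Odd (orderOf b) → b ≠ 1 →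
    centralizer ({b} : Set G) ≤ centralizer ({S.t} : Set G)

/-- What the local files have to prove. -/
def LocalFpfStatement : Prop :=
  ∀ (G : Type u) [Group G] [Finite G] (S : Split G) (F : Type v) [Field F] [Fintype F],
    Hyp S F → LocalClaim S

end Cfsg.Agent.Char.ReeOrder
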