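import Mathlib

/-!
# A descent bound for `p² + r² + n = K p r`
-/

set_option autoImplicit false

namespace Cfsg.Agent.Char.ReeOrder

theorem vieta_aux : ∀ (N : ℕ) (p r n K : ℤ), p.natAbs + r.natAbs = N → p ≠ 0 → r ≠ 0 → IsCoprime p r →
    p ^ 2 + r ^ 2 + n = K * p * r → |K| ≤ |n| + 2 ∨ (n = -1 ∧ |K| ≤ |p * r|) := by
  intro N
  induction N using Nat.strong_induction_on with
  | _ N ih =>
    intro p r n K hN hp hr hc he
    wlog hle : r.natAbs ≤ p.natAbs generalizing p r
    · have h := this r p (by omega) hr hp hc.symm (by linarith) (by omega)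
      rwa [mul_comm r p] at h
    set p' := K * r - p with hp'
    have hprod : p * p' = r ^ 2 + n := by rw [hp']; linear_combination -he
    have hrp : |r| ≤ |p| := by rw [Int.abs_eq_natAbs, Int.abs_eq_natAbs]; exact_mod_cast hle
    by_cases hlt : p'.natAbs < p.natAbs
    · by_cases h0 : p' = 0
      · right
        have hpK : p = K * r := by linarith [hp'.symm.trans h0]
        have hu : IsUnit r := by
          refine hc.isUnit_of_dvd' ?_ dvd_rfl
          exact ⟨K, by linarith⟩
        have hr1 : r ^ 2 = 1 := by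
          rcases Int.isUnit_iff.1 hu with e | e <;> rw [e] <;> norm_num
        refine ⟨by rw [h0, mul_zero] at hprod; linarith, ?_⟩
        rw [hpK, show K * r * r = K * r ^ 2 by ring, hr1, mul_one]
      · have hc' : IsCoprime p' r := by
          rw [hp', show K * r - p = -p + K * r by ring]
          exact (hc.neg_left).add_mul_right_left K
        rcases ih (p'.natAbs + r.natAbs) (by omega) p' r n K rfl h0 hr hc'
            (by rw [hp']; linear_combination he) with h | ⟨h1, h2⟩
        · exact Or.inl h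
        · refine Or.inr ⟨h1, h2.trans ?_⟩
          rw [abs_mul, abs_mul]
          refine mul_le_mul_of_nonneg_right ?_ (abs_nonneg r)
          rw [Int.abs_eq_natAbs, Int.abs_eq_natAbs]
          exact_mod_cast hlt.le
    · left
      have hpp : |p| ≤ |p'| := by rw [Int.abs_eq_natAbs, Int.abs_eq_natAbs]; exact_mod_cast Nat.le_of_not_lt hlt
      have h1 : p ^ 2 ≤ r ^ 2 + |n| := by
        calc p ^ 2 = |p| * |p| := by rw [abs_mul_abs_self, sq]
          _ ≤ |p| * |p'| := mul_le_mul_of_nonneg_left hpp (abs_nonneg p)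
          _ = |r ^ 2 + n| := by rw [← abs_mul, hprod]
          _ ≤ |r ^ 2| + |n| := abs_add_le _ _
          _ = r ^ 2 + |n| := by rw [abs_of_nonneg (sq_nonneg r)]
      have h2 : |K| * |p * r| ≤ 2 * |r| * |r| + 2 * |n| := by
        have : |K| * |p * r| = |p ^ 2 + r ^ 2 + n| := by rw [he, ← abs_mul, mul_assoc]
        rw [this]
        refine (abs_add_le _ _).trans ?_
        rw [abs_of_nonneg (by positivity : (0 : ℤ) ≤ p ^ 2 + r ^ 2), mul_assoc, abs_mul_abs_self]
        nlinarith
      have hpr : 1 ≤ |p * r| := Int.one_le_abs (mul_ne_zero hp hr)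
      rcases (show |p * r| = 1 ∨ 2 ≤ |p * r| by omega) with h | h
      · have h3 : |p| = 1 ∧ |r| = 1 := by
          rw [abs_mul] at h
          exact ⟨Int.eq_one_of_mul_eq_one_right (abs_nonneg _) h, Int.eq_one_of_mul_eq_one_left (abs_nonneg _) h⟩
        have hps : p ^ 2 = 1 := by rw [← sq_abs, h3.1]; norm_num
        have hrs : r ^ 2 = 1 := by rw [← sq_abs, h3.2]; norm_num
        calc |K| = |K * p * r| := by rw [mul_assoc, abs_mul, h, mul_one]
          _ = |2 + n| := by rw [← he, hps, hrs]; norm_num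
          _ ≤ |n| + 2 := by rw [add_comm]; exact (abs_add_le n 2).trans_eq (by norm_num)
      · have h4 : |r| * |r| ≤ |p * r| := by
          rw [abs_mul]; exact mul_le_mul_of_nonneg_right hrp (abs_nonneg r)
        by_contra hK
        have hn := abs_nonneg n
        nlinarith [mul_le_mul_of_nonneg_right (show |n| + 3 ≤ |K| by omega) (abs_nonneg (p * r)),
          mul_le_mul_of_nonneg_left h hn]

/-- If `p² + r² + n = K p r` with `p, r` coprime, then `|K| ≤ |n| + 2`, unless `n = -1`. -/
theorem vieta_bound {p r n K : ℤ} (hp : p ≠ 0) (hr : r ≠ 0) (hc : IsCoprime p r)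
    (he : p ^ 2 + r ^ 2 + n = K * p * r) : |K| ≤ |n| + 2 ∨ (n = -1 ∧ |K| ≤ |p * r|) :=
  vieta_aux _ p r n K rfl hp hr hc he

end Cfsg.Agent.Char.ReeOrder
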